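import Cfsg.Agent.Omega.MixOne.OfSplit
import Cfsg.Agent.Omega.HOne.Main
import Cfsg.Agent.Omega.NoFF.LinesPlug

/-!
# Split one-factor parabolics: `V_P = [V_P, O²(P)] × C_{V_P}(O²(P))`, and the socket `Mixed4` of II.0h1

* `zl_sup` : `V_P = [V_P, O²(P)] C_{V_P}(O²(P))` if `V_P / C_{V_P}(O²(P))` is one natural module;
* `le_centralizer_cv` : `P` centralises `C_{V_P}(O²(P))` in the split case;
* `exists_spl` : the data `Spl`;
* `exists_move` : a mutual pair can be moved to `V' ≤ S ≤ P`, `V ≤ S' ≤ P'`;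
* `exists_mixedW` : the normal form of a non-free split mutual pair, no such pair of one type (all `q`);
* `mixed4 : Mixed4 K`.
-/

set_option autoImplicit false
set_option linter.unusedSectionVars false

namespace Cfsg.Agent.Omega.MixOne

open Subgroup Cfsg Cfsg.Agent.ZN Cfsg.Agent.Lib.SL2Mat Cfsg.Agent.Omega.BTwo Cfsg.Agent.Omega.Mix
open Cfsg.Agent.Omega.MinPar Cfsg.Agent.Omega.Frame
open Cfsg.Agent.Omega.FrameFF
open Cfsg.Agent.Omega.FrameLE (AllIn)
open Cfsg.Agent.Omega.HOne.Main (vx SplitPar AllSplit NonFree Mixed4)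
open Cfsg.Agent.MinSimple.VModule (oddGen mem_oddGen oddGen_le le_normalizer_oddGen le_normalizer_zl zl_le zc_le_zl
  mem_zc)
open Cfsg.Agent.Omega.NatPair (ap ap_mul ap_one ap_zero' ap_one' ext2 exists_ap)
open scoped Pointwise commutatorElement

universe u

variable {G : Type u} [Group G]

/-! ### `[V_P, O²(P)]` and `C_{V_P}(O²(P))` -/

theorem cv_le_zl (S P : Subgroup G) : cv S P ≤ zl S P := inf_le_left

theorem vx_le_zl (S P : Subgroup G) : vx S P ≤ zl S P := by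
  rw [vx, commutator_le]
  intro v hv o ho
  have h1 : o * v⁻¹ * o⁻¹ ∈ zl S P :=
    conj_mem_of_normalizer (le_normalizer_zl S P (oddGen_le P ho)) (inv_mem hv)
  have e : ⁅v, o⁆ = v * (o * v⁻¹ * o⁻¹) := by rw [commutatorElement_def]; group
  rw [e]
  exact mul_mem hv h1

theorem cj_commutator (g : G) (A B : Subgroup G) : cj g ⁅A, B⁆ = ⁅cj g A, cj g B⁆ := map_commutator _ _ _

theorem le_normalizer_vx (S P : Subgroup G) : P ≤ normalizer (vx S P : Set G) := by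
  intro g hg
  rw [← cj_eq_self_iff, vx, cj_commutator, cj_eq_self_iff.2 (le_normalizer_zl S P hg),
    cj_eq_self_iff.2 (le_normalizer_oddGen P hg)]

theorem le_normalizer_cv' (S P : Subgroup G) : P ≤ normalizer (cv S P : Set G) := by
  intro g hg
  rw [← cj_eq_self_iff, cv, cj_inf, ← centralizer_cj, cj_eq_self_iff.2 (le_normalizer_zl S P hg),
    cj_eq_self_iff.2 (le_normalizer_oddGen P hg)]

/-- an element of order 3 of `SL₂(F)` without fixed vectors -/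
theorem exists_three {F : Type*} [Field F] [CharP F 2] : ∃ A : Matrix.SpecialLinearGroup (Fin 2) F, A ^ 3 = 1 ∧
    ∀ x : Fin 2 → F, ∃ y, ap A y - y = x := by
  refine ⟨mk 0 1 1 1 (by
    rw [zero_mul, one_mul, zero_sub]; exact neg_eq_of_add_eq_zero_left (CharTwo.add_self_eq_zero 1)), ?_, fun x => ?_⟩
  · rw [pow_succ, pow_two]
    refine ext_ent ?_ ?_ ?_ ?_ <;> simp [ent_mul, CharTwo.add_self_eq_zero]
  · refine ⟨![x 1, x 0 + x 1], ?_⟩
    apply ext2
    · rw [Pi.sub_apply, ap_zero']; simp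
    · rw [Pi.sub_apply, ap_one']; simp

theorem e_pow {F : Type} [Field F] {P V D : Subgroup G} (o : NatOver F P V D) (hPV : P ≤ normalizer (V : Set G))
    {g : G} (hg : g ∈ P) {A : Matrix.SpecialLinearGroup (Fin 2) F}
    (hA : ∀ v ∈ V, o.e (g * v * g⁻¹) = ap A (o.e v)) (n : ℕ) :
    ∀ v ∈ V, o.e (g ^ n * v * (g ^ n)⁻¹) = ap (A ^ n) (o.e v) := by
  induction n with
  | zero => intro v _; rw [pow_zero, pow_zero, ap_one]; simp
  | succ n ih =>
    intro v hv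
    have h1 : g ^ n * v * (g ^ n)⁻¹ ∈ V := conj_mem_of_normalizer (hPV (pow_mem hg n)) hv
    have e : g ^ (n + 1) * v * (g ^ (n + 1))⁻¹ = g * (g ^ n * v * (g ^ n)⁻¹) * g⁻¹ := by
      rw [pow_succ']; group
    rw [e, hA _ h1, ih v hv, ← ap_mul, ← pow_succ']

/-- every element of `V` is in `[V, O²(P)] D` -/
theorem dec_of_natOver [Finite G] {F : Type} [Field F] [CharP F 2] {P V D : Subgroup G} (o : NatOver F P V D)
    (hPV : P ≤ normalizer (V : Set G)) : ∀ v ∈ V, ∃ n ∈ ⁅V, oddGen P⁆, ∃ d ∈ D, v = n * d := by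
  obtain ⟨A, hA3, hA⟩ := exists_three (F := F)
  obtain ⟨g, hg, hgA, -⟩ := o.lift A
  obtain ⟨k, m, hm, hkm⟩ := Nat.exists_eq_two_pow_mul_odd (n := orderOf g) (orderOf_pos g).ne'
  set h := g ^ 4 ^ k with hh
  have hhP : h ∈ P := pow_mem hg _
  have hhE : h ∈ oddGen P := by
    refine mem_oddGen hhP ?_
    have h1 : orderOf h ∣ m := by
      apply orderOf_dvd_of_pow_eq_one
      have e : g ^ 4 ^ k ^ 1 = g ^ 4 ^ k := by rw [pow_one]
      rw [hh, ← pow_mul]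
      have e2 : 4 ^ k * m = 2 ^ k * m * 2 ^ k := by
        rw [show (4 : ℕ) = 2 * 2 from rfl, mul_pow]; ring
      rw [e2, ← hkm, pow_mul, pow_orderOf_eq_one, one_pow]
    exact Odd.of_dvd_nat hm h1
  have hhA : ∀ v ∈ V, o.e (h * v * h⁻¹) = ap A (o.e v) := by
    intro v hv
    rw [hh, e_pow o hPV hg hgA _ v hv]
    congr 1
    have h3 : 4 ^ k % 3 = 1 := by
      rw [Nat.pow_mod]; norm_num
    have h4 : 4 ^ k = 3 * (4 ^ k / 3) + 1 := by
      conv_lhs => rw [← Nat.div_add_mod (4 ^ k) 3, h3]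
    rw [h4, pow_succ, pow_mul, hA3, one_pow, one_mul]
  intro v hv
  obtain ⟨y, hy⟩ := hA (o.e v)
  obtain ⟨w, hw, rfl⟩ := o.surj y
  have hww : h * w * h⁻¹ ∈ V := conj_mem_of_normalizer (hPV hhP) hw
  set n := h * w * h⁻¹ * w⁻¹ with hn
  have hnV : n ∈ V := mul_mem hww (inv_mem hw)
  have e1 : o.e 1 = 0 := (o.ker 1 (one_mem V)).2 (one_mem D)
  have hinv : ∀ z ∈ V, o.e z⁻¹ = - o.e z := by
    intro z hz
    have h1 := o.mul z hz z⁻¹ (inv_mem hz)
    rw [mul_inv_cancel, e1] at h1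
    exact (neg_eq_of_add_eq_zero_right h1.symm).symm
  have hne : o.e n = o.e v := by
    rw [hn, o.mul _ hww _ (inv_mem hw), hhA w hw, hinv w hw, ← sub_eq_add_neg, hy]
  refine ⟨n, ?_, n⁻¹ * v, ?_, by group⟩
  · have h1 : ⁅w, h⁆ ∈ ⁅V, oddGen P⁆ := commutator_mem_commutator hw hhE
    have e : n = ⁅w, h⁆⁻¹ := by rw [commutatorElement_def, hn]; group
    rw [e]
    exact inv_mem h1
  · rw [← o.ker _ (mul_mem (inv_mem hnV) hv), o.mul _ (inv_mem hnV) _ hv, hinv n hnV, hne, neg_add_cancel]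

section par

variable [Finite G] {S : Sylow 2 G} {P : Subgroup G}

theorem not_dvd_relIndex (hS : (S : Subgroup G) ≤ P) : ¬ 2 ∣ (S : Subgroup G).relIndex P := fun h =>
  S.not_dvd_index (h.trans (relIndex_dvd_index_of_le hS))

/-- `P` centralises `C_{V_P}(O²(P))` in the split case -/
theorem le_centralizer_cv (hS : (S : Subgroup G) ≤ P)
    (hVa : ∀ v ∈ zl (S : Subgroup G) P, ∀ w ∈ zl (S : Subgroup G) P, v * w = w * v)
    (hsp : SplitPar (S : Subgroup G) P) : P ≤ centralizer (cv (S : Subgroup G) P : Set G) := by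
  set V := zl (S : Subgroup G) P with hV
  set N := vx (S : Subgroup G) P with hN
  have hPV : P ≤ normalizer (V : Set G) := le_normalizer_zl _ _
  have hPN : P ≤ normalizer (N : Set G) := le_normalizer_vx _ _
  have hNV : N ≤ V := vx_le_zl _ _
  -- the elements `v` with `[P, v] ≤ N`
  let C : Subgroup G :=
    { carrier := {v | v ∈ V ∧ ∀ p ∈ P, p * v * p⁻¹ * v⁻¹ ∈ N}
      one_mem' := ⟨one_mem _, fun p _ => by
        have e : p * 1 * p⁻¹ * 1⁻¹ = 1 := by group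
        rw [e]; exact one_mem _⟩
      mul_mem' := by
        rintro v w ⟨hv, hv'⟩ ⟨hw, hw'⟩
        refine ⟨mul_mem hv hw, fun p hp => ?_⟩
        have e : p * (v * w) * p⁻¹ * (v * w)⁻¹ = p * v * p⁻¹ * v⁻¹ * (v * (p * w * p⁻¹ * w⁻¹) * v⁻¹) := by group
        have h1 := hw' p hp
        rw [e, hVa v hv _ (hNV h1), mul_inv_cancel_right]
        exact mul_mem (hv' p hp) h1
      inv_mem' := by
        rintro v ⟨hv, hv'⟩
        refine ⟨inv_mem hv, fun p hp => ?_⟩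
        have h1 := hv' p hp
        have e : p * v⁻¹ * p⁻¹ * v⁻¹⁻¹ = (v⁻¹ * (p * v * p⁻¹ * v⁻¹) * v)⁻¹ := by group
        rw [e, hVa v⁻¹ (inv_mem hv) _ (hNV h1), inv_mul_cancel_right]
        exact inv_mem h1 }
  have hC : V ≤ C := by
    refine zl_le ?_ ?_
    · intro z hz
      refine ⟨zc_le_zl _ _ hz, fun p hp => ?_⟩
      let T : Subgroup G :=
        { carrier := {p | p ∈ P ∧ p * z * p⁻¹ * z⁻¹ ∈ N}
          one_mem' := ⟨one_mem _, by
            have e : 1 * z * 1⁻¹ * z⁻¹ = 1 := by group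
            rw [e]; exact one_mem _⟩
          mul_mem' := by
            rintro p q ⟨hp, hp'⟩ ⟨hq, hq'⟩
            refine ⟨mul_mem hp hq, ?_⟩
            have e : p * q * z * (p * q)⁻¹ * z⁻¹ = p * (q * z * q⁻¹ * z⁻¹) * p⁻¹ * (p * z * p⁻¹ * z⁻¹) := by group
            rw [e]
            exact mul_mem (conj_mem_of_normalizer (hPN hp) hq') hp'
          inv_mem' := by
            rintro p ⟨hp, hp'⟩
            refine ⟨inv_mem hp, ?_⟩
            have e : p⁻¹ * z * p⁻¹⁻¹ * z⁻¹ = p⁻¹ * (p * z * p⁻¹ * z⁻¹)⁻¹ * p := by group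
            rw [e]
            exact conj_inv_mem_of_normalizer (hPN hp) (inv_mem hp') }
      have hT : oddGen P ⊔ (S : Subgroup G) ≤ T := by
        refine sup_le ?_ ?_
        · intro o ho
          refine ⟨oddGen_le P ho, ?_⟩
          have h1 : ⁅z, o⁆ ∈ N := commutator_mem_commutator (zc_le_zl _ _ hz) ho
          have e : o * z * o⁻¹ * z⁻¹ = ⁅z, o⁆⁻¹ := by rw [commutatorElement_def]; group
          rw [e]
          exact inv_mem h1
        · intro x hx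
          refine ⟨hS hx, ?_⟩
          have h1 := (mem_zc.1 hz).2.1 x hx
          rw [h1, mul_inv_cancel_right, mul_inv_cancel]
          exact one_mem _
      rw [NoFF.LinesPlug.oddGen_sup hS (not_dvd_relIndex hS)] at hT
      exact (hT hp).2
    · intro g hg
      refine mem_normalizer_of_conj fun v hv => ?_
      obtain ⟨hv, hv'⟩ := hv
      refine ⟨conj_mem_of_normalizer (hPV hg) hv, fun p hp => ?_⟩
      have h1 := hv' (g⁻¹ * p * g) (mul_mem (mul_mem (inv_mem hg) hp) hg)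
      have e : p * (g * v * g⁻¹) * p⁻¹ * (g * v * g⁻¹)⁻¹ =
          g * (g⁻¹ * p * g * v * (g⁻¹ * p * g)⁻¹ * v⁻¹) * g⁻¹ := by group
      rw [e]
      exact conj_mem_of_normalizer (hPN hg) h1
  intro p hp
  rw [mem_centralizer_iff]
  intro d hd
  have h1 : p * d * p⁻¹ * d⁻¹ ∈ N := (hC (cv_le_zl _ _ hd)).2 p hp
  have h2 : p * d * p⁻¹ * d⁻¹ ∈ cv (S : Subgroup G) P :=
    mul_mem (conj_mem_of_normalizer (le_normalizer_cv' _ _ hp) hd) (inv_mem hd)
  have h3 : p * d * p⁻¹ * d⁻¹ ∈ N ⊓ cv (S : Subgroup G) P := ⟨h1, h2⟩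
  have h4 : N ⊓ cv (S : Subgroup G) P = ⊥ := hsp
  rw [h4, mem_bot] at h3
  exact (mul_inv_eq_iff_eq_mul.1 (mul_inv_eq_one.1 h3)).symm

/-- **The data of a split one-factor parabolic.** -/
theorem exists_spl (hG : IsCharacteristicTwoType G) (hP : IsParS (S : Subgroup G) P) {F : Type} [Field F] [Finite F]
    [CharP F 2] (o : NatOver F P (zl (S : Subgroup G) P) (cv (S : Subgroup G) P))
    (hsp : SplitPar (S : Subgroup G) P) : ∃ (K : Subgroup G) (M : RMod F (vx (S : Subgroup G) P) K),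
      Spl P (zl (S : Subgroup G) P) (cv (S : Subgroup G) P) M := by
  have hS : (S : Subgroup G) ≤ P := hP.le
  have hVa : ∀ v ∈ zl (S : Subgroup G) P, ∀ w ∈ zl (S : Subgroup G) P, v * w = w * v := fun v hv w hw =>
    MinSimple.VModule.zc_comm _ _ (hP.isLoc.zl_le S hG hv) _ (hP.isLoc.zl_le S hG hw)
  have hdec := dec_of_natOver o (le_normalizer_zl _ _)
  have hVND : zl (S : Subgroup G) P ≤ vx (S : Subgroup G) P ⊔ cv (S : Subgroup G) P := by
    intro v hv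
    obtain ⟨n, hn, d, hd, rfl⟩ := hdec v hv
    exact mul_mem ((le_sup_left : vx (S : Subgroup G) P ≤ _) hn) ((le_sup_right : cv (S : Subgroup G) P ≤ _) hd)
  let o' := natOverSplit o hVa (vx_le_zl _ _) (cv_le_zl _ _) (le_normalizer_vx _ _) (le_normalizer_cv' _ _) hsp hVND
  obtain ⟨K, hPK, ⟨M⟩⟩ := exists_rmod o' (le_normalizer_vx _ _)
  refine ⟨K, M, ?_⟩
  exact
    { PK := hPK
      PV := le_normalizer_zl _ _
      NV := vx_le_zl _ _
      DV := cv_le_zl _ _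
      dec := hdec
      comm := hVa
      inf := hsp
      cen := le_centralizer_cv hS hVa hsp
      trans := by
        intro v hv hv1 v' hv' hv1'
        have k1 : o'.e v ≠ 0 := fun h => hv1 (mem_bot.1 ((o'.ker v hv).1 h))
        have k2 : o'.e v' ≠ 0 := fun h => hv1' (mem_bot.1 ((o'.ker v' hv').1 h))
        obtain ⟨A, hA⟩ := exists_ap k1 k2
        obtain ⟨g, hg, hgA, -⟩ := o'.lift A
        refine ⟨g, hg, ?_⟩
        have h1 : g * v * g⁻¹ ∈ vx (S : Subgroup G) P := conj_mem_of_normalizer (le_normalizer_vx _ _ hg) hv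
        have h2 : o'.e (g * v * g⁻¹ * v'⁻¹) = 0 := by
          have h3 := o'.mul (g * v * g⁻¹ * v'⁻¹) (mul_mem h1 (inv_mem hv')) v' hv'
          rw [inv_mul_cancel_right, hgA v hv, hA] at h3
          exact right_eq_add.1 h3
        exact mul_inv_eq_one.1 (mem_bot.1 ((o'.ker _ (mul_mem h1 (inv_mem hv'))).1 h2)) }

end par

/-! ### Mutual pairs -/

theorem NoSame.conj {V : Subgroup G} (h : NoSame V) (k : G) : NoSame (cj k V) := cj_no k h

/-- a mutual pair can be moved to `V' ≤ S`, `V ≤ S'` -/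
theorem exists_move [Finite G] (S : Sylow 2 G) {P₁ P₂ : Subgroup G} {x : G}
    (hG : IsCharacteristicTwoType G) (h : Mutual (S : Subgroup G) P₁ P₂ x) :
    ∃ y : G, cj y (zl (S : Subgroup G) P₂) ≤ (S : Subgroup G) ∧
      zl (S : Subgroup G) P₁ ≤ cj y (S : Subgroup G) ∧
      ∃ v ∈ zl (S : Subgroup G) P₁, ∃ w ∈ cj y (zl (S : Subgroup G) P₂), v * w ≠ w * v := by
  set V₁ := zl (S : Subgroup G) P₁ with hV₁
  set V₂ := zl (S : Subgroup G) P₂ with hV₂
  have k1 : V₁ ≤ normalizer (cj x V₂ : Set G) := h.le₁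
  have k2 : cj x V₂ ≤ normalizer (V₁ : Set G) := h.le₂
  have hp1 : IsPGroup 2 V₁ := S.isPGroup'.to_le (((h.star₁.isLoc.zl_le S hG).trans
    (MinSimple.VModule.zc_le _)).trans (h.star₁.isLoc.o2_le S))
  have hp2 : IsPGroup 2 V₂ := S.isPGroup'.to_le (((h.star₂.isLoc.zl_le S hG).trans
    (MinSimple.VModule.zc_le _)).trans (h.star₂.isLoc.o2_le S))
  have hne : ∃ v ∈ V₁, ∃ w ∈ cj x V₂, v * w ≠ w * v := by
    by_contra hcon
    push Not at hcon
    refine h.ne ((commutator_eq_bot_iff_le_centralizer).2 fun v hv => mem_centralizer_iff.2 fun w hw => ?_)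
    exact (hcon v hv w hw).symm
  have hSV₁ : (S : Subgroup G) ≤ normalizer (V₁ : Set G) := h.star₁.le.trans (le_normalizer_zl _ _)
  obtain ⟨n, hn, hn'⟩ := exists_conj_sylow S hSV₁ (isPGroup_cj hp2) k2
  -- `y₁ = n⁻¹ x`
  have hnV : cj n⁻¹ V₁ = V₁ := cj_eq_self_iff.2 (inv_mem hn)
  have k3 : cj (n⁻¹ * x) V₂ ≤ (S : Subgroup G) := by
    have := cj_mono (g := n⁻¹) hn'
    rwa [← cj_mul, cj_inv_cj] at this
  have k4 : V₁ ≤ normalizer (cj (n⁻¹ * x) V₂ : Set G) := by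
    rw [cj_mul, normalizer_cj, ← hnV]
    exact cj_mono k1
  have hSV₂ : (((n⁻¹ * x) • S : Sylow 2 G) : Subgroup G) ≤ normalizer (cj (n⁻¹ * x) V₂ : Set G) := by
    rw [coe_smul_eq, normalizer_cj]
    exact cj_mono (h.star₂.le.trans (le_normalizer_zl _ _))
  obtain ⟨m, hm, hm'⟩ := exists_conj_sylow ((n⁻¹ * x) • S : Sylow 2 G) hSV₂ hp1 k4
  have hmV : cj m (cj (n⁻¹ * x) V₂) = cj (n⁻¹ * x) V₂ := cj_eq_self_iff.2 hm
  refine ⟨m * (n⁻¹ * x), ?_, ?_, ?_⟩
  · rw [cj_mul, hmV]; exact k3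
  · rw [cj_mul]; exact hm'
  · obtain ⟨v, hv, w, hw, hvw⟩ := hne
    refine ⟨n⁻¹ * v * n, ?_, n⁻¹ * w * n, ?_, ?_⟩
    · exact conj_inv_mem_of_normalizer hn hv
    · rw [cj_mul m, hmV, cj_mul]
      have := conj_mem_cj (g := n⁻¹) hw
      rwa [inv_inv] at this
    · intro h1
      apply hvw
      calc v * w = n * (n⁻¹ * v * n * (n⁻¹ * w * n)) * n⁻¹ := by group
        _ = n * (n⁻¹ * w * n * (n⁻¹ * v * n)) * n⁻¹ := by rw [h1]
        _ = w * v := by group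

/-- no non-free mutual pair of one type -/
theorem noSame_of {S P : Subgroup G} (hP : IsParS S P) (hne : cv S P ≠ ⊥)
    (hno : ∀ g : G, ¬ NonFree S P P g) : NoSame (zl S P) := by
  intro n h1 h2
  by_contra hcon
  refine hno n ⟨⟨hP, hP, h1, h2, fun h3 => hcon ?_⟩, hne, hne⟩
  intro v hv w hw
  have h4 : ⁅v, w⁆ ∈ ⁅zl S P, MulAut.conj n • zl S P⁆ := commutator_mem_commutator hv hw
  rw [h3, mem_bot] at h4
  exact commutatorElement_eq_one_iff_mul_comm.1 h4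

/-- **The normal form** of a non-free split mutual pair, if there is no such pair of one type (all `q`). -/
theorem exists_mixedW [Finite G] (hG : IsCharacteristicTwoType G) (S : Sylow 2 G)
    (hno : ∀ (P : Subgroup G) (g : G), ¬ NonFree (S : Subgroup G) P P g) {P₁ P₂ : Subgroup G} {x : G}
    (h : NonFree (S : Subgroup G) P₁ P₂ x) (hs₁ : SplitPar (S : Subgroup G) P₁)
    (hs₂ : SplitPar (S : Subgroup G) P₂) {F₁ F₂ : Type} [Field F₁] [Finite F₁] [CharP F₁ 2] [Field F₂] [Finite F₂]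
    [CharP F₂ 2] (o₁ : NatOver F₁ P₁ (zl (S : Subgroup G) P₁) (cv (S : Subgroup G) P₁))
    (o₂ : NatOver F₂ P₂ (zl (S : Subgroup G) P₂) (cv (S : Subgroup G) P₂)) :
    ∃ (K₁ N₂ K₂ : Subgroup G) (M₁ : RMod F₁ (vx (S : Subgroup G) P₁) K₁) (M₂ : RMod F₂ N₂ K₂) (k : G)
      (R : Subgroup G) (T : Sylow 2 G), N₂ = cj k (vx (S : Subgroup G) P₂) ∧
      Spl P₁ (zl (S : Subgroup G) P₁) (cv (S : Subgroup G) P₁) M₁ ∧
      Spl (cj k P₂) (cj k (zl (S : Subgroup G) P₂)) (cj k (cv (S : Subgroup G) P₂)) M₂ ∧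
      (T : Subgroup G) ≤ P₁ ∧ (T : Subgroup G) ≤ cj k P₂ ∧ (T : Subgroup G) ≤ normalizer (R : Set G) ∧
      MixedW M₁ M₂ R := by
  obtain ⟨K₁, M₁, s₁⟩ := exists_spl hG h.mp.star₁ o₁ hs₁
  obtain ⟨K₂, M₂, s₂⟩ := exists_spl hG h.mp.star₂ o₂ hs₂
  obtain ⟨y, hy1, hy2, hy3⟩ := exists_move S hG h.mp
  have hS₂ : ((y • S : Sylow 2 G) : Subgroup G) ≤ cj y P₂ := by
    rw [coe_smul_eq]; exact cj_mono h.mp.star₂.le
  have hn₁ := noSame_of h.mp.star₁ h.ne₁ (hno P₁)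
  have hn₂ := (noSame_of h.mp.star₂ h.ne₂ (hno P₂)).conj y
  obtain ⟨k, -, T, hT1, hT2, hT3, m⟩ := s₁.mixedW (fun K h1 h2 => char2_normalizer hG h1 h2) (s₂.conj y) S (y • S)
    h.mp.star₁.le hS₂ hy1 (by rw [coe_smul_eq]; exact hy2) hy3 hn₁ hn₂
  have e : ∀ X : Subgroup G, cj k (cj y X) = cj (k * y) X := fun X => (cj_mul k y X).symm
  have s₃ := (s₂.conj y).conj k
  rw [e P₂] at hT2
  rw [e P₂, e (zl (S : Subgroup G) P₂), e (cv (S : Subgroup G) P₂)] at s₃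
  exact ⟨K₁, _, _, M₁, _, k * y, _, T, e _, s₁, s₃, hT1, hT2, hT3, m⟩

/-- **The socket `Mixed4`**: there is no such pair for `|F| ≥ 4`. -/
theorem mixed4 {K : Cls.{u}} : Mixed4 K := by
  intro G _ _ hG _ S _ _ hS hs hno P₁ P₂ x h F _ _ _ o₁ h4
  obtain ⟨F₂, _, _, _, ⟨o₂⟩⟩ := (hS P₁ P₂ x h.mp).2
  obtain ⟨hs₁, hs₂⟩ := hs P₁ P₂ x h.mp
  obtain ⟨K₁, N₂, K₂, M₁, M₂, k, R, T, -, s₁, s₂, hT1, hT2, hT3, m⟩ :=
    exists_mixedW hG.char2 S hno h hs₁ hs₂ o₁ o₂
  exfalso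
  apply h.ne₁
  rw [eq_bot_iff]
  intro d hd
  have h5 : d ∈ R := m.center_le h4 (hT1.trans s₁.PK) (hT2.trans s₂.PK) hT3 (fun t ht =>
    (mem_centralizer_iff.1 (s₁.cen (hT1 ht)) d hd).symm)
  have h6 : d ∈ vx (S : Subgroup G) P₁ ⊓ cv (S : Subgroup G) P₁ := ⟨m.RV h5, hd⟩
  rwa [s₁.inf] at h6

end Cfsg.Agent.Omega.MixOne
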