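import Cfsg.Agent.Omega.BTwo.Conj
import Mathlib.GroupTheory.Commutator.Basic

/-!
# II.0h1, mixed pairs, `q = 2` (bb OMEGA #14746): the contradiction from the two sides

`Sd S r s d V W U Z X` : the facts at the side of `V = {1, r, s, rs}`: `W = W₁`, `U = W₂`, `Z = C_G(W₁ W₂) = {1, r, d, rd}`,
`X` generated by the `W₂(v)`, `v ∈ V^#`; `[W, X] ≤ V`, `[W, U^x] ≤ ⟨r^x⟩`, `C_S(V)^x ≤ S`, `[C_U(V), C_U(V)^x] ≤ ⟨d⟩`.

`kill` : the two sides together are impossible if `|S| > 16`.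
-/

set_option autoImplicit false
set_option linter.unusedSectionVars false

namespace Cfsg.Agent.Omega.MixOne.QTwoKill

open Subgroup Cfsg.Agent.Omega.BTwo
open scoped commutatorElement

variable {G : Type*} [Group G]

/-! ### Commutators -/

theorem ce_one {a b : G} : ⁅a, b⁆ = 1 ↔ a * b = b * a := commutatorElement_eq_one_iff_mul_comm

theorem ce_mul_left (a b c : G) : ⁅a * b, c⁆ = a * ⁅b, c⁆ * a⁻¹ * ⁅a, c⁆ := by
  simp only [commutatorElement_def]; group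

theorem ce_mul_right (a b c : G) : ⁅a, b * c⁆ = ⁅a, b⁆ * (b * ⁅a, c⁆ * b⁻¹) := by
  simp only [commutatorElement_def]; group

theorem ce_conj (g a b : G) : g * ⁅a, b⁆ * g⁻¹ = ⁅g * a * g⁻¹, g * b * g⁻¹⁆ := by
  simp only [commutatorElement_def]; group

theorem conj_of_comm {g a : G} (h : g * a = a * g) : g * a * g⁻¹ = a := by rw [h, mul_inv_cancel_right]

theorem comm_of_conj {g a : G} (h : g * a * g⁻¹ = a) : g * a = a * g := mul_inv_eq_iff_eq_mul.1 h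

theorem comm_conj (g : G) {a b : G} (h : a * b = b * a) :
    g * a * g⁻¹ * (g * b * g⁻¹) = g * b * g⁻¹ * (g * a * g⁻¹) := by
  calc g * a * g⁻¹ * (g * b * g⁻¹) = g * (a * b) * g⁻¹ := by group
    _ = g * (b * a) * g⁻¹ := by rw [h]
    _ = g * b * g⁻¹ * (g * a * g⁻¹) := by group

theorem comm_of_comm_conj (g : G) {a b : G} (h : g * a * g⁻¹ * (g * b * g⁻¹) = g * b * g⁻¹ * (g * a * g⁻¹)) :
    a * b = b * a := by
  have := comm_conj g⁻¹ h
  have e : ∀ x : G, g⁻¹ * (g * x * g⁻¹) * g⁻¹⁻¹ = x := fun x => by group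
  rwa [e, e] at this

theorem comm_mul {a b c : G} (h1 : a * b = b * a) (h2 : a * c = c * a) : a * (b * c) = b * c * a := by
  rw [← mul_assoc, h1, mul_assoc, h2, mul_assoc]

theorem comm_inv {a b : G} (h : a * b = b * a) : a⁻¹ * b = b * a⁻¹ := by
  calc a⁻¹ * b = a⁻¹ * (b * a) * a⁻¹ := by group
    _ = a⁻¹ * (a * b) * a⁻¹ := by rw [h]
    _ = b * a⁻¹ := by group

/-- the facts at one side -/
structure Sd [Finite G] (S : Sylow 2 G) (r s d : G) (V W U Z X : Subgroup G) : Prop where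
  r1 : r ≠ 1
  rr : r * r = 1
  d1 : d ≠ 1
  dd : d * d = 1
  dr : d ≠ r
  rZ : r ∈ Z
  dZ : d ∈ Z
  Z_iff : ∀ z, z ∈ Z ↔ (∀ w ∈ W, z * w = w * z) ∧ ∀ u ∈ U, z * u = u * z
  Zc : ∀ h, h * r = r * h → ∀ z ∈ Z, h * z = z * h
  Z_mem : ∀ z ∈ Z, z = 1 ∨ z = r ∨ z = d ∨ z = r * d
  rV : r ∈ V
  sV : s ∈ V
  V_mem : ∀ v ∈ V, v = 1 ∨ v = r ∨ v = s ∨ v = r * s
  VZ : ∀ v ∈ V, v ∈ Z → v = 1 ∨ v = r
  VW : V ≤ W
  WW : ∀ a ∈ W, ∀ b ∈ W, a * b = b * a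
  sq : ∀ a ∈ W, a * a = 1
  nW : ∀ h, h * r = r * h → ∀ w ∈ W, h * w * h⁻¹ ∈ W
  cW : ∀ w ∈ W, ∀ u ∈ U, ⁅w, u⁆ = 1 ∨ ⁅w, u⁆ = r
  cQ : ∀ w ∈ W, ∀ q ∈ O2 (centralizer ({r} : Set G)), ⁅w, q⁆ = 1 ∨ ⁅w, q⁆ = r
  WS : W ≤ S
  SV : ∀ g ∈ S, ∀ v ∈ V, g * v * g⁻¹ ∈ V
  Sr : ∀ g ∈ S, g * r = r * g
  XV : ∀ x ∈ X, ∀ v ∈ V, x * v * x⁻¹ ∈ V
  Xd : ∀ x ∈ X, x * d = d * x
  cX : ∀ w ∈ W, ∀ x ∈ X, ⁅w, x⁆ ∈ V
  cU : ∀ x ∈ X, ∀ w ∈ W, ∀ u ∈ U, ⁅w, x * u * x⁻¹⁆ = 1 ∨ ⁅w, x * u * x⁻¹⁆ = x * r * x⁻¹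
  TT : ∀ x ∈ X, ∀ a ∈ U, ∀ b ∈ U, (∀ v ∈ V, a * v = v * a) → (∀ v ∈ V, b * v = v * b) →
    ⁅a, x * b * x⁻¹⁆ = 1 ∨ ⁅a, x * b * x⁻¹⁆ = d
  Cn : ∀ x ∈ X, ∀ c ∈ S, (∀ v ∈ V, c * v = v * c) → x * c * x⁻¹ ∈ S
  three : ∃ x ∈ X, (∃ n : ℕ, x ^ 3 ^ n = 1) ∧ x * r * x⁻¹ = s ∧ x * s * x⁻¹ = r * s

variable [Finite G] {S : Sylow 2 G} {r s t d e : G} {V W U Z X V₁ W₁ X₁ V₂ W₂ X₂ : Subgroup G}

namespace Sd

section one

variable (k : Sd S r s d V W U Z X)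
include k

theorem rW {w : G} (hw : w ∈ W) : w * r = r * w := (((k.Z_iff r).1 k.rZ).1 w hw).symm

theorem rU {u : G} (hu : u ∈ U) : u * r = r * u := (((k.Z_iff r).1 k.rZ).2 u hu).symm

theorem sW : s ∈ W := k.VW k.sV

theorem s_ne_one : s ≠ 1 := by
  obtain ⟨x, -, -, h, -⟩ := k.three
  rintro rfl
  apply k.r1
  have e : x⁻¹ * (x * r * x⁻¹) * x = r := by group
  rw [← e, h]; group

theorem s_ne_r : s ≠ r := by
  obtain ⟨x, -, -, h, h'⟩ := k.three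
  intro hs
  rw [hs] at h h'
  rw [h, k.rr] at h'
  exact k.r1 h'

theorem sZ : s ∉ Z := fun h => by
  rcases k.VZ s k.sV h with h1 | h1
  · exact k.s_ne_one h1
  · exact k.s_ne_r h1

theorem rs_ne_one : r * s ≠ 1 := by
  intro h
  apply k.s_ne_r
  calc s = r * r * s := by rw [k.rr, one_mul]
    _ = r * (r * s) := by group
    _ = r := by rw [h, mul_one]

/-- an element commuting with `r` and `s` commutes with `V` -/
theorem comm_V {g : G} (hr : g * r = r * g) (hs : g * s = s * g) : ∀ v ∈ V, g * v = v * g := by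
  intro v hv
  rcases k.V_mem v hv with rfl | rfl | rfl | rfl
  · rw [mul_one, one_mul]
  · exact hr
  · exact hs
  · exact comm_mul hr hs

theorem S_s {g : G} (hg : g ∈ S) : g * s * g⁻¹ = s ∨ g * s * g⁻¹ = r * s := by
  have h1 := k.SV g hg s k.sV
  have e : g⁻¹ * (g * s * g⁻¹) * g = s := by group
  rcases k.V_mem _ h1 with h | h | h | h
  · exfalso
    apply k.s_ne_one
    rw [← e, h]; group
  · exfalso
    apply k.s_ne_r
    rw [← e, h, mul_assoc, ← k.Sr g hg]; group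
  · exact Or.inl h
  · exact Or.inr h

theorem Z_sq {z : G} (hz : z ∈ Z) : z * z = 1 := by
  rcases k.Z_mem z hz with rfl | rfl | rfl | rfl
  · rw [mul_one]
  · exact k.rr
  · exact k.dd
  · have h : r * d = d * r := (k.Zc r rfl d k.dZ)
    calc r * d * (r * d) = r * (d * r) * d := by group
      _ = (r * r) * (d * d) := by rw [← h]; group
      _ = 1 := by rw [k.rr, k.dd, one_mul]

/-- bilinearity of `⟨w, u⟩ := [w, u]` -/
theorem bl {a b u : G} (ha : a * r = r * a) (hb : ⁅b, u⁆ = 1 ∨ ⁅b, u⁆ = r) : ⁅a * b, u⁆ = ⁅b, u⁆ * ⁅a, u⁆ := by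
  rw [ce_mul_left]
  rcases hb with h | h
  · rw [h, mul_one, mul_inv_cancel]
  · rw [h, conj_of_comm ha]

theorem br {a b u : G} (ha : a * r = r * a) (hb : ⁅u, b⁆ = 1 ∨ ⁅u, b⁆ = r) : ⁅u, a * b⁆ = ⁅u, a⁆ * ⁅u, b⁆ := by
  rw [ce_mul_right]
  rcases hb with h | h
  · rw [h, mul_one, mul_one, mul_inv_cancel, mul_one]
  · rw [h, conj_of_comm ha]

theorem exists_u : ∃ u ∈ U, ⁅s, u⁆ = r := by
  by_contra hcon
  push Not at hcon
  apply k.sZ
  rw [k.Z_iff]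
  refine ⟨fun w hw => k.WW s k.sW w hw, fun u hu => ?_⟩
  rcases k.cW s k.sW u hu with h | h
  · exact ce_one.1 h
  · exact absurd h (hcon u hu)

theorem conjX {x w : G} (hx : x ∈ X) (hw : w ∈ W) : x * w * x⁻¹ ∈ W := by
  have h1 := k.VW (k.cX w hw x hx)
  have e : x * w * x⁻¹ = (⁅w, x⁆)⁻¹ * w := by simp only [commutatorElement_def]; group
  rw [e]
  exact mul_mem (inv_mem h1) hw

/-- `w^x = v w` with `v ∈ V` -/
theorem conjX' {x w : G} (hx : x ∈ X) (hw : w ∈ W) : ∃ v ∈ V, x * w * x⁻¹ = v * w := by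
  refine ⟨(⁅w, x⁆)⁻¹, inv_mem (k.cX w hw x hx), ?_⟩
  simp only [commutatorElement_def]; group

/-- `C_W(C_U(V)) ≤ V Z` -/
theorem dual {w : G} (hw : w ∈ W) (h : ∀ u ∈ U, u * s = s * u → w * u = u * w) : w ∈ Z ∨ s * w ∈ Z := by
  obtain ⟨u₀, hu₀, h0⟩ := k.exists_u
  have key : ∀ a ∈ W, a * u₀ = u₀ * a → (∀ u ∈ U, u * s = s * u → a * u = u * a) → a ∈ Z := by
    intro a ha h1 h2
    rw [k.Z_iff]
    refine ⟨fun w hw => k.WW a ha w hw, fun u hu => ?_⟩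
    rcases k.cW s k.sW u hu with h3 | h3
    · exact h2 u hu (ce_one.1 h3).symm
    · have h4 : ⁅s, u₀ * u⁆ = 1 := by
        rw [k.br (k.rU hu₀) (Or.inr h3), h0, h3, k.rr]
      have h5 := h2 (u₀ * u) (mul_mem hu₀ hu) (ce_one.1 h4).symm
      have h6 : u₀ * (a * u) = u₀ * (u * a) := by
        calc u₀ * (a * u) = (u₀ * a) * u := by group
          _ = a * (u₀ * u) := by rw [← h1]; group
          _ = u₀ * u * a := h5
          _ = u₀ * (u * a) := by group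
      exact mul_left_cancel h6
  rcases k.cW w hw u₀ hu₀ with h1 | h1
  · exact Or.inl (key w hw (ce_one.1 h1) h)
  · right
    refine key (s * w) (mul_mem k.sW hw) ?_ fun u hu hus => ?_
    · apply ce_one.1
      rw [k.bl (k.rW k.sW) (Or.inr h1), h1, h0, k.rr]
    · have h2 := h u hu hus
      calc s * w * u = s * (w * u) := by group
        _ = (s * u) * w := by rw [h2]; group
        _ = u * (s * w) := by rw [← hus]; group

end one

/-- **(2)** `[V₁, V₂] ≠ 1` implies `C_{W₂}(V₁) ≤ Z` -/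
theorem E_le (k₁ : Sd S r s d V₁ W₁ W₂ Z X₁) (k₂ : Sd S r t e V₂ W₂ W₁ Z X₂) (hst : s * t ≠ t * s) {u : G}
    (hu : u ∈ W₂) (hus : u * s = s * u) : u ∈ Z := by
  obtain ⟨x, hx, -, hxr, hxs⟩ := k₁.three
  have huV : ∀ v ∈ V₁, u * v = v * u := k₁.comm_V (k₂.rW hu) hus
  have huS : u ∈ S := k₂.WS hu
  have hu'S : x * u * x⁻¹ ∈ S := k₁.Cn x hx u huS huV
  have hu's : x * u * x⁻¹ * s = s * (x * u * x⁻¹) := by
    rw [← hxr]
    exact comm_conj x (k₂.rW hu)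
  set u' := x * u * x⁻¹ with hu'
  -- `C_{W₁}(t)` commutes with `u'`
  have h1 : ∀ w ∈ W₁, w * t = t * w → w * u' = u' * w := by
    intro w hw hwt
    rcases k₁.cU x hx w hw u hu with h | h
    · exact ce_one.1 h
    · exfalso
      rw [hxr] at h
      apply hst
      have hw1 : w⁻¹ * t = t * w⁻¹ := comm_inv hwt
      have hwr : w⁻¹ * r = r * w⁻¹ := k₁.rW (inv_mem hw)
      have h2 : (u' * w⁻¹ * u'⁻¹) * t = t * (u' * w⁻¹ * u'⁻¹) := by
        apply comm_of_comm_conj u'⁻¹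
        have e1 : u'⁻¹ * (u' * w⁻¹ * u'⁻¹) * u'⁻¹⁻¹ = w⁻¹ := by group
        rw [e1]
        rcases k₂.S_s (inv_mem hu'S) with h3 | h3
        · rw [h3]; exact hw1
        · rw [h3]; exact comm_mul hwr hw1
      have h4 : s = w * (u' * w⁻¹ * u'⁻¹) := by rw [← h]; simp only [commutatorElement_def, hu']; group
      rw [h4]
      exact (comm_mul hwt.symm h2.symm).symm
  have h2 : ∀ w ∈ W₁, w * u' = u' * w := by
    intro w hw
    rcases k₁.cW w hw t (k₂.VW k₂.sV) with h | h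
    · exact h1 w hw (ce_one.1 h)
    · have hst' : ⁅s, t⁆ = r := by
        rcases k₁.cW s k₁.sW t (k₂.VW k₂.sV) with h3 | h3
        · exact absurd (ce_one.1 h3) hst
        · exact h3
      have h3 : ⁅s * w, t⁆ = 1 := by
        rw [k₁.bl (k₁.rW k₁.sW) (Or.inr h), h, hst', k₁.rr]
      have h4 := h1 (s * w) (mul_mem k₁.sW hw) (ce_one.1 h3)
      have h5 : s * (w * u') = s * (u' * w) := by
        calc s * (w * u') = s * w * u' := by group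
          _ = u' * (s * w) := h4
          _ = (u' * s) * w := by group
          _ = s * (u' * w) := by rw [hu's]; group
      exact mul_left_cancel h5
  rw [k₁.Z_iff]
  refine ⟨fun w hw => ?_, fun w hw => k₂.WW u hu w hw⟩
  exact comm_of_comm_conj x (h2 _ (k₁.conjX hx hw)).symm

/-- **(7)** `[V₁, V₂] ≠ 1` implies `|S| ≤ 16` -/
theorem card_le (k₁ : Sd S r s d V₁ W₁ W₂ Z X₁) (k₂ : Sd S r t e V₂ W₂ W₁ Z X₂) (hst : s * t ≠ t * s) :
    Nat.card S ≤ 16 := by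
  classical
  have half : ∀ {s t d e : G} {V₁ V₂ W₁ W₂ X₁ X₂ : Subgroup G}, Sd S r s d V₁ W₁ W₂ Z X₁ → Sd S r t e V₂ W₂ W₁ Z X₂ →
      s * t ≠ t * s → ∀ g ∈ S, g * s = s * g → ∀ w ∈ W₁, g * w = w * g := by
    intro s t d e V₁ V₂ W₁ W₂ X₁ X₂ k₁ k₂ hst g hg hgs w hw
    have hgZ := k₁.Zc g (k₁.Sr g hg)
    rcases k₁.cW w hw t (k₂.VW k₂.sV) with h | h
    · exact hgZ w (k₂.E_le k₁ hst.symm hw (ce_one.1 h))
    · have hst' : ⁅s, t⁆ = r := by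
        rcases k₁.cW s k₁.sW t (k₂.VW k₂.sV) with h3 | h3
        · exact absurd (ce_one.1 h3) hst
        · exact h3
      have h3 : ⁅s * w, t⁆ = 1 := by
        rw [k₁.bl (k₁.rW k₁.sW) (Or.inr h), h, hst', k₁.rr]
      have h4 := hgZ _ (k₂.E_le k₁ hst.symm (mul_mem k₁.sW hw) (ce_one.1 h3))
      have h5 : s * (g * w) = s * (w * g) := by
        calc s * (g * w) = (s * g) * w := by group
          _ = g * (s * w) := by rw [← hgs]; group
          _ = s * w * g := h4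
          _ = s * (w * g) := by group
      exact mul_left_cancel h5
  have hC : ∀ g ∈ S, g * s = s * g → g * t = t * g → g ∈ Z := by
    intro g hg hgs hgt
    rw [k₁.Z_iff]
    exact ⟨half k₁ k₂ hst g hg hgs, half k₂ k₁ (Ne.symm hst) g hg hgt⟩
  -- the map
  have hZc : Nat.card (Z.subgroupOf (S : Subgroup G)) ≤ 4 := by
    have h1 : Nat.card (Z.subgroupOf (S : Subgroup G)) ≤ Nat.card Z :=
      Nat.card_le_card_of_injective (fun z => (⟨(z : S), z.2⟩ : Z)) fun a b hab => by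
        apply Subtype.ext; apply Subtype.ext
        exact congrArg (fun z : Z => (z : G)) hab
    refine h1.trans ?_
    have hs : (Z : Set G) ⊆ (({1, r, d, r * d} : Finset G) : Set G) := by
      intro z hz
      rcases k₁.Z_mem z hz with rfl | rfl | rfl | rfl <;> simp
    have h2 := Set.ncard_le_ncard hs (Finset.finite_toSet _)
    rw [Set.ncard_coe_finset] at h2
    exact h2.trans Finset.card_le_four
  have h2 : ∀ x y : G, Nat.card {g : G // g = x ∨ g = y} ≤ 2 := by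
    intro x y
    have hs : {g : G | g = x ∨ g = y} ⊆ (({x, y} : Finset G) : Set G) := by
      intro z hz
      simpa using hz
    have := Set.ncard_le_ncard hs (Finset.finite_toSet _)
    rw [Set.ncard_coe_finset] at this
    exact this.trans Finset.card_le_two
  let F : (S ⧸ Z.subgroupOf (S : Subgroup G)) → {g : G // g = s ∨ g = r * s} × {g : G // g = t ∨ g = r * t} :=
    fun q => (⟨(q.out : G) * s * (q.out : G)⁻¹, k₁.S_s q.out.2⟩, ⟨(q.out : G) * t * (q.out : G)⁻¹, k₂.S_s q.out.2⟩)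
  have hF : Function.Injective F := by
    intro p q hpq
    have e1 : (p.out : G) * s * (p.out : G)⁻¹ = (q.out : G) * s * (q.out : G)⁻¹ :=
      congrArg (fun r => (r.1 : G)) hpq
    have e2 : (p.out : G) * t * (p.out : G)⁻¹ = (q.out : G) * t * (q.out : G)⁻¹ :=
      congrArg (fun r => (r.2 : G)) hpq
    have key : ∀ x : G, (p.out : G) * x * (p.out : G)⁻¹ = (q.out : G) * x * (q.out : G)⁻¹ →
        ((p.out : G)⁻¹ * (q.out : G)) * x = x * ((p.out : G)⁻¹ * (q.out : G)) := by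
      intro x hx
      calc ((p.out : G)⁻¹ * (q.out : G)) * x = (p.out : G)⁻¹ * ((q.out : G) * x * (q.out : G)⁻¹) * (q.out : G) := by
            group
        _ = (p.out : G)⁻¹ * ((p.out : G) * x * (p.out : G)⁻¹) * (q.out : G) := by rw [hx]
        _ = x * ((p.out : G)⁻¹ * (q.out : G)) := by group
    have h3 : (p.out : G)⁻¹ * (q.out : G) ∈ Z :=
      hC _ (mul_mem (inv_mem p.out.2) q.out.2) (key s e1) (key t e2)
    have h4 : p.out⁻¹ * q.out ∈ Z.subgroupOf (S : Subgroup G) := h3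
    rw [← QuotientGroup.eq] at h4
    rwa [QuotientGroup.out_eq', QuotientGroup.out_eq'] at h4
  have h1 := Nat.card_le_card_of_injective F hF
  rw [Nat.card_prod] at h1
  have h5 := card_eq_card_quotient_mul_card_subgroup (Z.subgroupOf (S : Subgroup G))
  have h6 : Nat.card {g : G // g = s ∨ g = r * s} * Nat.card {g : G // g = t ∨ g = r * t} ≤ 2 * 2 :=
    Nat.mul_le_mul (h2 _ _) (h2 _ _)
  rw [h5]
  calc Nat.card (S ⧸ Z.subgroupOf (S : Subgroup G)) * Nat.card (Z.subgroupOf (S : Subgroup G)) ≤ 4 * 4 :=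
        Nat.mul_le_mul (h1.trans h6) hZc
    _ = 16 := by norm_num

/-! ### The case `[V₁, V₂] = 1` -/

/-- the elements of `C(r)` which are trivial on `W₁ Z / Z`, `W₂ Z / Z` -/
def Tr (k₁ : Sd S r s d V₁ W₁ W₂ Z X₁) : Subgroup G where
  carrier := {h | h * r = r * h ∧ (∀ w ∈ W₁, h * w * h⁻¹ * w⁻¹ ∈ Z) ∧ ∀ u ∈ W₂, h * u * h⁻¹ * u⁻¹ ∈ Z}
  one_mem' := by
    refine ⟨by rw [one_mul, mul_one], fun w _ => ?_, fun w _ => ?_⟩ <;>
    · have e : 1 * w * 1⁻¹ * w⁻¹ = 1 := by group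
      rw [e]; exact one_mem _
  mul_mem' := by
    rintro g h ⟨g1, g2, g3⟩ ⟨h1, h2, h3⟩
    have key : ∀ w, g * w * g⁻¹ * w⁻¹ ∈ Z → h * w * h⁻¹ * w⁻¹ ∈ Z → g * h * w * (g * h)⁻¹ * w⁻¹ ∈ Z := by
      intro w hg hh
      have e : g * h * w * (g * h)⁻¹ * w⁻¹ = (g * (h * w * h⁻¹ * w⁻¹) * g⁻¹) * (g * w * g⁻¹ * w⁻¹) := by group
      rw [e, conj_of_comm (k₁.Zc g g1 _ hh)]
      exact mul_mem hh hg
    refine ⟨?_, fun w hw => key w (g2 w hw) (h2 w hw), fun w hw => key w (g3 w hw) (h3 w hw)⟩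
    calc g * h * r = g * (h * r) := by group
      _ = (g * r) * h := by rw [h1]; group
      _ = r * (g * h) := by rw [g1]; group
  inv_mem' := by
    rintro g ⟨g1, g2, g3⟩
    have hr : g⁻¹ * r = r * g⁻¹ := comm_inv g1
    have key : ∀ w, g * w * g⁻¹ * w⁻¹ ∈ Z → g⁻¹ * w * g⁻¹⁻¹ * w⁻¹ ∈ Z := by
      intro w hw
      have e : g⁻¹ * w * g⁻¹⁻¹ * w⁻¹ = g⁻¹ * (g * w * g⁻¹ * w⁻¹)⁻¹ * g⁻¹⁻¹ := by group
      rw [e, conj_of_comm (k₁.Zc g⁻¹ hr _ (inv_mem hw))]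
      exact inv_mem hw
    exact ⟨hr, fun w hw => key w (g2 w hw), fun w hw => key w (g3 w hw)⟩

theorem mem_Tr (k₁ : Sd S r s d V₁ W₁ W₂ Z X₁) {h : G} : h ∈ k₁.Tr ↔ h * r = r * h ∧
    (∀ w ∈ W₁, h * w * h⁻¹ * w⁻¹ ∈ Z) ∧ ∀ u ∈ W₂, h * u * h⁻¹ * u⁻¹ ∈ Z := Iff.rfl

theorem Tr_le (k₁ : Sd S r s d V₁ W₁ W₂ Z X₁) (k₂ : Sd S r t e V₂ W₂ W₁ Z X₂) :
    k₁.Tr ≤ O2 (centralizer ({r} : Set G)) := by
  refine le_O2_of_normal (fun h hh => mem_centralizer_singleton_iff.2 hh.1) ?_ ?_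
  · rintro ⟨h, hh⟩
    refine ⟨2, ?_⟩
    apply Subtype.ext
    change h ^ 2 ^ 2 = 1
    obtain ⟨h1, h2, h3⟩ := hh
    have key : ∀ w, h * w * h⁻¹ * w⁻¹ ∈ Z → h * h * w = w * (h * h) := by
      intro w hw
      have hc := k₁.Zc h h1 _ hw
      have hs := k₁.Z_sq hw
      set z := h * w * h⁻¹ * w⁻¹ with hz
      have e1 : h * w * h⁻¹ = z * w := by rw [hz]; group
      apply comm_of_conj
      calc h * h * w * (h * h)⁻¹ = h * (h * w * h⁻¹) * h⁻¹ := by group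
        _ = h * (z * w) * h⁻¹ := by rw [e1]
        _ = (h * z) * w * h⁻¹ := by group
        _ = z * (h * w * h⁻¹) := by rw [hc]; group
        _ = (z * z) * w := by rw [e1]; group
        _ = w := by rw [hs, one_mul]
    have h4 : h * h ∈ Z := by
      rw [k₁.Z_iff]
      exact ⟨fun w hw => key w (h2 w hw), fun w hw => key w (h3 w hw)⟩
    have h5 := k₁.Z_sq h4
    calc h ^ 2 ^ 2 = h * h * (h * h) := by
          rw [show (2 : ℕ) ^ 2 = 2 + 2 from rfl, pow_add, pow_two]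
      _ = 1 := h5
  · intro g hg h hh
    have hgr := mem_centralizer_singleton_iff.1 hg
    have hgr' : g⁻¹ * r = r * g⁻¹ := comm_inv hgr
    obtain ⟨h1, h2, h3⟩ := hh
    have key : ∀ w, h * (g⁻¹ * w * g) * h⁻¹ * (g⁻¹ * w * g)⁻¹ ∈ Z →
        g * h * g⁻¹ * w * (g * h * g⁻¹)⁻¹ * w⁻¹ ∈ Z := by
      intro w hw
      have e : g * h * g⁻¹ * w * (g * h * g⁻¹)⁻¹ * w⁻¹ =
          g * (h * (g⁻¹ * w * g) * h⁻¹ * (g⁻¹ * w * g)⁻¹) * g⁻¹ := by group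
      rw [e, conj_of_comm (k₁.Zc g hgr _ hw)]
      exact hw
    refine ⟨?_, fun w hw => key w (h2 _ ?_), fun w hw => key w (h3 _ ?_)⟩
    · calc g * h * g⁻¹ * r = g * h * (g⁻¹ * r) := by group
        _ = g * (h * r) * g⁻¹ := by rw [hgr']; group
        _ = (g * r) * h * g⁻¹ := by rw [h1]; group
        _ = r * (g * h * g⁻¹) := by rw [hgr]; group
    · have := k₁.nW g⁻¹ hgr' w hw
      rwa [inv_inv] at this
    · have := k₂.nW g⁻¹ hgr' w hw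
      rwa [inv_inv] at this

/-- `A = C_G(E₁ E₂)` -/
def InA (s t : G) (W₁ W₂ : Subgroup G) (g : G) : Prop :=
  (∀ w ∈ W₁, w * t = t * w → g * w = w * g) ∧ ∀ u ∈ W₂, u * s = s * u → g * u = u * g

theorem InA.mul {g h : G} (hg : InA s t W₁ W₂ g) (hh : InA s t W₁ W₂ h) : InA s t W₁ W₂ (g * h) := by
  have key : ∀ w, g * w = w * g → h * w = w * h → g * h * w = w * (g * h) := by
    intro w h1 h2
    calc g * h * w = g * (h * w) := by group
      _ = (g * w) * h := by rw [h2]; group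
      _ = w * (g * h) := by rw [h1]; group
  exact ⟨fun w hw hwt => key w (hg.1 w hw hwt) (hh.1 w hw hwt),
    fun w hw hws => key w (hg.2 w hw hws) (hh.2 w hw hws)⟩

theorem InA.inv {g : G} (hg : InA s t W₁ W₂ g) : InA s t W₁ W₂ g⁻¹ :=
  ⟨fun w hw hwt => comm_inv (hg.1 w hw hwt), fun w hw hws => comm_inv (hg.2 w hw hws)⟩

theorem InA.swap {g : G} (hg : InA s t W₁ W₂ g) : InA t s W₂ W₁ g := ⟨hg.2, hg.1⟩

/-- `g ∈ V₁ V₂ Z` -/
def InP (V₁ V₂ Z : Subgroup G) (g : G) : Prop := ∃ v₁ ∈ V₁, ∃ v₂ ∈ V₂, ∃ z ∈ Z, g = v₁ * v₂ * z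

section two

variable (k₁ : Sd S r s d V₁ W₁ W₂ Z X₁) (k₂ : Sd S r t e V₂ W₂ W₁ Z X₂) (hst : s * t = t * s)
include k₁ k₂ hst

theorem inA_r {g : G} (hg : InA s t W₁ W₂ g) : g * r = r * g :=
  hg.1 r (k₁.VW k₁.rV) (k₂.rW k₂.sW).symm

theorem inA_s {g : G} (hg : InA s t W₁ W₂ g) : g * s = s * g := hg.1 s k₁.sW hst

theorem inA_V {g : G} (hg : InA s t W₁ W₂ g) : ∀ v ∈ V₁, g * v = v * g :=
  k₁.comm_V (k₁.inA_r k₂ hst hg) (k₁.inA_s k₂ hst hg)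

theorem inA_Z {z : G} (hz : z ∈ Z) : InA s t W₁ W₂ z :=
  ⟨fun w hw _ => ((k₁.Z_iff z).1 hz).1 w hw, fun w hw _ => ((k₁.Z_iff z).1 hz).2 w hw⟩

theorem inA_V₁ {v : G} (hv : v ∈ V₁) : InA s t W₁ W₂ v := by
  refine ⟨fun w hw _ => k₁.WW v (k₁.VW hv) w hw, fun u hu hus => ?_⟩
  exact (k₁.comm_V (k₁.rU hu) hus v hv).symm

theorem inA_V₂ {v : G} (hv : v ∈ V₂) : InA s t W₁ W₂ v :=
  (k₂.inA_V₁ k₁ hst.symm hv).swap

theorem s_inv (k₁ : Sd S r s d V₁ W₁ W₂ Z X₁) : s⁻¹ = s := inv_eq_of_mul_eq_one_left (k₁.sq s k₁.sW)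

/-- an element of `A` which is trivial on `W₁ Z / Z`, `W₂ Z / Z` is in `V₁ V₂ Z` -/
theorem inP_of {w u : G} (hw : w ∈ W₁) (hwt : ⁅w, t⁆ = r) (hu : u ∈ W₂) (hus : ⁅u, s⁆ = r) {g : G}
    (hg : InA s t W₁ W₂ g) (h1 : g * w * g⁻¹ * w ∈ Z) (h2 : g * u * g⁻¹ * u ∈ Z) : InP V₁ V₂ Z g := by
  -- `W₁ = E₁ ∪ w E₁`
  have dec : ∀ {s t d e : G} {V₁ V₂ W₁ W₂ X₁ X₂ : Subgroup G}, Sd S r s d V₁ W₁ W₂ Z X₁ → Sd S r t e V₂ W₂ W₁ Z X₂ →
      ∀ {w : G}, w ∈ W₁ → ⁅w, t⁆ = r → ∀ a ∈ W₁, a * t = t * a ∨ ∃ b ∈ W₁, b * t = t * b ∧ a = w * b := by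
    intro s t d e V₁ V₂ W₁ W₂ X₁ X₂ k₁ k₂ w hw hwt a ha
    rcases k₁.cW a ha t k₂.sW with h | h
    · exact Or.inl (ce_one.1 h)
    · right
      refine ⟨w * a, mul_mem hw ha, ce_one.1 ?_, ?_⟩
      · rw [k₁.bl (k₁.rW hw) (Or.inr h), h, hwt, k₁.rr]
      · rw [← mul_assoc, k₁.sq w hw, one_mul]
  have hwi : w⁻¹ = w := inv_eq_of_mul_eq_one_left (k₁.sq w hw)
  have hui : u⁻¹ = u := inv_eq_of_mul_eq_one_left (k₂.sq u hu)
  -- `g` is trivial on `W₁ Z / Z`, `W₂ Z / Z`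
  have hgr := k₁.inA_r k₂ hst hg
  have hgT : g ∈ k₁.Tr := by
    have key : ∀ w b : G, g * w * g⁻¹ * w⁻¹ ∈ Z → g * b = b * g → g * (w * b) * g⁻¹ * (w * b)⁻¹ ∈ Z := by
      intro w b h3 h4
      have e : g * (w * b) * g⁻¹ * (w * b)⁻¹ = g * w * g⁻¹ * w⁻¹ := by
        calc g * (w * b) * g⁻¹ * (w * b)⁻¹ = g * w * g⁻¹ * (g * b * g⁻¹) * b⁻¹ * w⁻¹ := by group
          _ = g * w * g⁻¹ * w⁻¹ := by rw [conj_of_comm h4]; group
      rw [e]; exact h3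
    have key2 : ∀ b : G, g * b = b * g → g * b * g⁻¹ * b⁻¹ ∈ Z := by
      intro b hb
      rw [conj_of_comm hb, mul_inv_cancel]
      exact one_mem _
    rw [k₁.mem_Tr]
    refine ⟨hgr, fun a ha => ?_, fun a ha => ?_⟩
    · rcases dec k₁ k₂ hw hwt a ha with h | ⟨b, hb, hbt, rfl⟩
      · exact key2 a (hg.1 a ha h)
      · exact key w b (by rw [hwi]; exact h1) (hg.1 b hb hbt)
    · rcases dec k₂ k₁ hu hus a ha with h | ⟨b, hb, hbt, rfl⟩
      · exact key2 a (hg.2 a ha h)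
      · exact key u b (by rw [hui]; exact h2) (hg.2 b hb hbt)
  have hgQ := k₁.Tr_le k₂ hgT
  have c1 := k₁.cQ w hw g hgQ
  have c2 := k₂.cQ u hu g hgQ
  -- correct by `t`, `s`
  have hwr := k₁.rW hw
  have hur := k₂.rW hu
  have hsr := k₁.rW k₁.sW
  have htr := k₂.rW k₂.sW
  have hus' : ⁅u, s⁆ = r := hus
  have key : ∀ a b : G, a = 1 ∨ a = t → b = 1 ∨ b = s → ⁅w, g * a⁆ = 1 → ⁅u, g * b⁆ = 1 → InP V₁ V₂ Z g := by
    intro a b ha hb h3 h4
    have haV : a ∈ V₂ := by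
      rcases ha with rfl | rfl
      · exact one_mem _
      · exact k₂.sV
    have hbV : b ∈ V₁ := by
      rcases hb with rfl | rfl
      · exact one_mem _
      · exact k₁.sV
    have hab : a * b = b * a := by
      rcases ha with rfl | rfl
      · rw [one_mul, mul_one]
      · rcases hb with rfl | rfl
        · rw [one_mul, mul_one]
        · exact hst.symm
    have haa : a * a = 1 := k₂.sq a (k₂.VW haV)
    have hbb : b * b = 1 := k₁.sq b (k₁.VW hbV)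
    have hA : InA s t W₁ W₂ (g * a * b) := (hg.mul (k₁.inA_V₂ k₂ hst haV)).mul (k₁.inA_V₁ k₂ hst hbV)
    have hw' : w * (g * a * b) = g * a * b * w :=
      comm_mul (ce_one.1 h3) (k₁.WW w hw b (k₁.VW hbV))
    have hu' : u * (g * a * b) = g * a * b * u := by
      have : g * a * b = g * b * a := by rw [mul_assoc, hab, ← mul_assoc]
      rw [this]
      exact comm_mul (ce_one.1 h4) (k₂.WW u hu a (k₂.VW haV))
    have hz : g * a * b ∈ Z := by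
      rw [k₁.Z_iff]
      constructor
      · intro c hc
        rcases dec k₁ k₂ hw hwt c hc with h | ⟨b', hb', hbt, rfl⟩
        · exact hA.1 c hc h
        · exact comm_mul hw'.symm (hA.1 b' hb' hbt)
      · intro c hc
        rcases dec k₂ k₁ hu hus c hc with h | ⟨b', hb', hbt, rfl⟩
        · exact hA.2 c hc h
        · exact comm_mul hu'.symm (hA.2 b' hb' hbt)
    refine ⟨b, hbV, a, haV, _, hz, ?_⟩
    have hzb := (((k₁.Z_iff _).1 hz).1 b (k₁.VW hbV))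
    have hza := (((k₁.Z_iff _).1 hz).2 a (k₂.VW haV))
    symm
    calc b * a * (g * a * b) = b * (g * a * b * a) := by rw [hza]; group
      _ = b * (g * a * (a * b)) := by rw [hab]; group
      _ = b * (g * (a * a) * b) := by group
      _ = b * (g * b) := by rw [haa, mul_one]
      _ = (b * b) * g := by
        have : g * b = b * g := k₁.inA_V k₂ hst hg b hbV
        rw [this]; group
      _ = g := by rw [hbb, one_mul]
  have hg1 : ⁅w, g⁆ = 1 → ⁅w, g * 1⁆ = 1 := fun h => by rw [mul_one]; exact h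
  have hg2 : ⁅w, g⁆ = r → ⁅w, g * t⁆ = 1 := fun h => by rw [k₁.br hgr (Or.inr hwt), h, hwt, k₁.rr]
  have hg3 : ⁅u, g⁆ = 1 → ⁅u, g * 1⁆ = 1 := fun h => by rw [mul_one]; exact h
  have hg4 : ⁅u, g⁆ = r → ⁅u, g * s⁆ = 1 := fun h => by rw [k₁.br hgr (Or.inr hus), h, hus, k₁.rr]
  rcases c1 with c1 | c1 <;> rcases c2 with c2 | c2
  · exact key 1 1 (Or.inl rfl) (Or.inl rfl) (hg1 c1) (hg3 c2)
  · exact key 1 s (Or.inl rfl) (Or.inr rfl) (hg1 c1) (hg4 c2)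
  · exact key t 1 (Or.inr rfl) (Or.inl rfl) (hg2 c1) (hg3 c2)
  · exact key t s (Or.inr rfl) (Or.inr rfl) (hg2 c1) (hg4 c2)

/-- `g w g⁻¹ w ∈ Z ∪ s Z` -/
theorem shift {w : G} (hw : w ∈ W₁) {g : G} (hg : InA s t W₁ W₂ g) :
    g * w * g⁻¹ * w ∈ Z ∨ s * (g * w * g⁻¹ * w) ∈ Z := by
  have hgr := k₁.inA_r k₂ hst hg
  have hgw := k₁.nW g hgr w hw
  refine k₁.dual (mul_mem hgw hw) fun u hu hus => ?_
  apply ce_one.1
  have hgu := hg.2 u hu hus
  have h1 : ⁅g * w * g⁻¹, u⁆ = ⁅w, u⁆ := by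
    have e : ⁅g * w * g⁻¹, u⁆ = g * ⁅w, u⁆ * g⁻¹ := by
      rw [ce_conj, conj_of_comm hgu]
    rw [e]
    rcases k₁.cW w hw u hu with h | h
    · rw [h]; group
    · rw [h, conj_of_comm hgr]
  rw [k₁.bl (k₁.rW hgw) (k₁.cW w hw u hu), h1]
  rcases k₁.cW w hw u hu with h | h
  · rw [h, one_mul]
  · rw [h, k₁.rr]

/-- the two shifts are trivial simultaneously -/
theorem shift_iff {w u : G} (hw : w ∈ W₁) (hwt : ⁅w, t⁆ = r) (hu : u ∈ W₂) {g : G}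
    (hg : InA s t W₁ W₂ g) (h1 : g * w * g⁻¹ * w ∈ Z) : g * u * g⁻¹ * u ∈ Z := by
  rcases k₂.shift k₁ hst.symm hu hg.swap with h | h
  · exact h
  exfalso
  have hgr := k₁.inA_r k₂ hst hg
  have hgw := k₁.nW g hgr w hw
  have hgu := k₂.nW g hgr u hu
  set b := g * u * g⁻¹ * u with hb
  have hbW : b ∈ W₂ := mul_mem hgu hu
  -- `[w^g, u^g] = [w, u]`
  have e1 : ⁅g * w * g⁻¹, g * u * g⁻¹⁆ = ⁅w, u⁆ := by
    rw [← ce_conj]
    rcases k₁.cW w hw u hu with h | h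
    · rw [h]; group
    · rw [h, conj_of_comm hgr]
  have e2 : g * w * g⁻¹ = (g * w * g⁻¹ * w) * w := by
    rw [mul_assoc (g * w * g⁻¹) w w, k₁.sq w hw, mul_one]
  have e3 : g * u * g⁻¹ = b * u := by rw [hb, mul_assoc (g * u * g⁻¹) u u, k₂.sq u hu, mul_one]
  have hzc := (k₁.Z_iff _).1 h1
  have e4 : ⁅(g * w * g⁻¹ * w) * w, b * u⁆ = ⁅w, b⁆ * ⁅w, u⁆ := by
    have h5 : ⁅g * w * g⁻¹ * w, b * u⁆ = 1 := ce_one.2 (hzc.2 _ (mul_mem hbW hu))
    rw [k₁.bl (k₁.rW (mul_mem hgw hw)) (k₁.cW w hw _ (mul_mem hbW hu)), h5, mul_one,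
      k₁.br (k₂.rW hbW) (k₁.cW w hw u hu)]
  rw [e2, e3, e4] at e1
  have e5 : ⁅w, b⁆ = 1 := mul_eq_right.1 e1
  have e6 : ⁅w, t * b⁆ = 1 := ce_one.2 (((k₁.Z_iff _).1 h).1 w hw).symm
  rw [k₁.br (k₂.rW k₂.sW) (k₁.cW w hw b hbW), hwt, e5, mul_one] at e6
  exact k₁.r1 e6

theorem exists_wu : ∃ w ∈ W₁, ⁅w, t⁆ = r ∧ ∃ u ∈ W₂, ⁅u, s⁆ = r := by
  obtain ⟨w, hw, h1⟩ := k₂.exists_u
  obtain ⟨u, hu, h2⟩ := k₁.exists_u
  have hri : r⁻¹ = r := inv_eq_of_mul_eq_one_left k₁.rr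
  refine ⟨w, hw, ?_, u, hu, ?_⟩
  · rw [← commutatorElement_inv, h1, hri]
  · rw [← commutatorElement_inv, h2, hri]

/-- **(3)** `|A : V₁ V₂ Z| ≤ 2` -/
theorem inP_mul {g h : G} (hg : InA s t W₁ W₂ g) (hh : InA s t W₁ W₂ h) (hg' : ¬ InP V₁ V₂ Z g)
    (hh' : ¬ InP V₁ V₂ Z h) : InP V₁ V₂ Z (g * h) := by
  obtain ⟨w, hw, hwt, u, hu, hus⟩ := k₁.exists_wu k₂ hst
  have key : ∀ g, InA s t W₁ W₂ g → ¬ InP V₁ V₂ Z g → s * (g * w * g⁻¹ * w) ∈ Z := by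
    intro g hg hg'
    rcases k₁.shift k₂ hst hw hg with h1 | h1
    · exact absurd (k₁.inP_of k₂ hst hw hwt hu hus hg h1 (k₁.shift_iff k₂ hst hw hwt hu hg h1)) hg'
    · exact h1
  have h1 := key g hg hg'
  have h2 := key h hh hh'
  have hgh := hg.mul hh
  have h3 : g * h * w * (g * h)⁻¹ * w ∈ Z := by
    -- `g` commutes with `a := h w h⁻¹ w`
    have ha : h * w * h⁻¹ * w ∈ W₁ := mul_mem (k₁.nW h (k₁.inA_r k₂ hst hh) w hw) hw
    have hss : s * s = 1 := k₁.sq s k₁.sW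
    have hwi : w * w = 1 := k₁.sq w hw
    have hga : g * (h * w * h⁻¹ * w) = h * w * h⁻¹ * w * g := by
      have e : h * w * h⁻¹ * w = s * (s * (h * w * h⁻¹ * w)) := by
        rw [← mul_assoc s s, hss, one_mul]
      rw [e]
      exact comm_mul (k₁.inA_s k₂ hst hg) (k₁.Zc g (k₁.inA_r k₂ hst hg) _ h2)
    have e : g * h * w * (g * h)⁻¹ * w = (s * (h * w * h⁻¹ * w)) * (s * (g * w * g⁻¹ * w)) := by
      calc g * h * w * (g * h)⁻¹ * w = g * (h * w * h⁻¹ * (w * w)) * g⁻¹ * w := by rw [hwi]; group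
        _ = (g * (h * w * h⁻¹ * w)) * w * g⁻¹ * w := by group
        _ = (h * w * h⁻¹ * w) * (g * w * g⁻¹ * w) := by rw [hga]; group
        _ = ((h * w * h⁻¹ * w) * (s * s)) * (g * w * g⁻¹ * w) := by rw [hss, mul_one]
        _ = ((h * w * h⁻¹ * w) * s) * (s * (g * w * g⁻¹ * w)) := by group
        _ = (s * (h * w * h⁻¹ * w)) * (s * (g * w * g⁻¹ * w)) := by rw [k₁.WW _ ha s k₁.sW]
    rw [e]
    exact mul_mem h2 h1
  exact k₁.inP_of k₂ hst hw hwt hu hus hgh h3 (k₁.shift_iff k₂ hst hw hwt hu hgh h3)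

/-- **(4)** `V₂^x ≤ A` for `x ∈ X₁` -/
theorem inA_conj {x v : G} (hx : x ∈ X₁) (hv : v ∈ V₂) : InA s t W₁ W₂ (x * v * x⁻¹) := by
  have hvA := k₁.inA_V₂ k₂ hst hv
  constructor
  · intro w hw hwt
    obtain ⟨v₁, hv₁, e⟩ := k₁.conjX' (inv_mem hx) hw
    apply comm_of_comm_conj x⁻¹
    have e1 : x⁻¹ * (x * v * x⁻¹) * x⁻¹⁻¹ = v := by group
    rw [e1, e]
    exact comm_mul (k₁.inA_V k₂ hst hvA v₁ hv₁) (hvA.1 w hw hwt)
  · intro u hu hus
    have huV : ∀ v ∈ V₁, u * v = v * u := k₁.comm_V (k₁.rU hu) hus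
    have hvV : ∀ v' ∈ V₁, v * v' = v' * v := k₁.inA_V k₂ hst hvA
    rcases k₁.TT x hx u hu v (k₂.VW hv) huV hvV with h1 | h1
    · exact (ce_one.1 h1).symm
    exfalso
    -- `[u, v^x] = [u^(x⁻¹), v]^x ∈ ⟨r^x⟩`
    have hu' : x⁻¹ * u * x⁻¹⁻¹ ∈ S := k₁.Cn x⁻¹ (inv_mem hx) u (k₂.WS hu) huV
    set u' := x⁻¹ * u * x⁻¹⁻¹ with hu'e
    have e1 : ⁅u, x * v * x⁻¹⁆ = x * ⁅u', v⁆ * x⁻¹ := by
      rw [ce_conj]
      congr 1
      rw [hu'e]; group
    have h2 : ⁅u', v⁆ = 1 ∨ ⁅u', v⁆ = r := by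
      have hrr := k₁.rr
      have hur : u' * r = r * u' := k₁.Sr u' hu'
      have ht := k₂.S_s hu'
      have key : ∀ v, ⁅u', v⁆ = u' * v * u'⁻¹ * v⁻¹ := fun v => rfl
      have htt : t * t = 1 := k₂.sq t k₂.sW
      rcases k₂.V_mem v hv with rfl | rfl | rfl | rfl
      · left; rw [key]; group
      · left; exact ce_one.2 hur
      · rcases ht with h | h
        · left; exact ce_one.2 (comm_of_conj h)
        · right; rw [key, h, mul_inv_cancel_right]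
      · rcases ht with h | h
        · left; exact ce_one.2 (comm_mul hur (comm_of_conj h))
        · right
          rw [key]
          calc u' * (r * t) * u'⁻¹ * (r * t)⁻¹ = (u' * r * u'⁻¹) * (u' * t * u'⁻¹) * t⁻¹ * r⁻¹ := by group
            _ = r * (r * t) * t⁻¹ * r⁻¹ := by rw [h, conj_of_comm hur]
            _ = r := by group
    rw [h1] at e1
    rcases h2 with h2 | h2
    · rw [h2, mul_one, mul_inv_cancel] at e1
      exact k₁.d1 e1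
    · rw [h2] at e1
      have h3 : d ∈ V₁ := by rw [e1]; exact k₁.XV x hx r k₁.rV
      rcases k₁.VZ d h3 k₁.dZ with h4 | h4
      · exact k₁.d1 h4
      · exact k₁.dr h4

/-- the functional `w` on `V₁ V₂ Z` -/
theorem ce_prod {w : G} (hw : w ∈ W₁) {v₁ v₂ z : G} (hv₁ : v₁ ∈ V₁) (hv₂ : v₂ ∈ V₂) (hz : z ∈ Z) :
    ⁅w, v₁ * v₂ * z⁆ = ⁅w, v₂⁆ := by
  have hzw : ⁅w, z⁆ = 1 := ce_one.2 (((k₁.Z_iff z).1 hz).1 w hw).symm
  have h1 : ⁅w, v₁⁆ = 1 := ce_one.2 (k₁.WW w hw v₁ (k₁.VW hv₁))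
  have h2 := k₁.cW w hw v₂ (k₂.VW hv₂)
  have hr1 := k₁.rW (k₁.VW hv₁)
  have hr2 := k₂.rW (k₂.VW hv₂)
  have hr3 : v₁ * v₂ * r = r * (v₁ * v₂) := (comm_mul hr1.symm hr2.symm).symm
  rw [k₁.br hr3 (Or.inl hzw), hzw, mul_one, k₁.br hr1 h2, h1, one_mul]

theorem InP.ce {w : G} (hw : w ∈ W₁) {g : G} (hg : InP V₁ V₂ Z g) : ⁅w, g⁆ = 1 ∨ ⁅w, g⁆ = r := by
  obtain ⟨v₁, hv₁, v₂, hv₂, z, hz, rfl⟩ := hg
  rw [k₁.ce_prod k₂ hst hw hv₁ hv₂ hz]
  exact k₁.cW w hw v₂ (k₂.VW hv₂)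

/-- `V₂^x ≰ V₁ V₂ Z` -/
theorem not_inP {x : G} (hx : x ∈ X₁) (hxr : x * r * x⁻¹ = s) : ¬ InP V₁ V₂ Z (x * t * x⁻¹) := by
  intro h
  obtain ⟨w, hw, hwt, -⟩ := k₁.exists_wu k₂ hst
  have h1 := InP.ce k₁ k₂ hst hw h
  obtain ⟨v, hv, e⟩ := k₁.conjX' (inv_mem hx) hw
  have h2 : ⁅w, x * t * x⁻¹⁆ = s := by
    have e1 : ⁅w, x * t * x⁻¹⁆ = x * ⁅v * w, t⁆ * x⁻¹ := by
      rw [ce_conj, ← e]
      congr 1
      group
    have e2 : ⁅v * w, t⁆ = r := by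
      have h3 : ⁅v, t⁆ = 1 := ce_one.2 (k₁.inA_V k₂ hst (k₁.inA_V₂ k₂ hst k₂.sV) v hv).symm
      rw [k₁.bl (k₁.rW (k₁.VW hv)) (Or.inr hwt), hwt, h3, mul_one]
    rw [e1, e2, hxr]
  rw [h2] at h1
  rcases h1 with h1 | h1
  · exact k₁.s_ne_one h1
  · exact k₁.s_ne_r h1

/-- **(4)** `A = V₁ V₂ Z ⟨t^x⟩` -/
theorem inA_cases {x : G} (hx : x ∈ X₁) (hxr : x * r * x⁻¹ = s) {a : G} (ha : InA s t W₁ W₂ a) :
    InP V₁ V₂ Z a ∨ InP V₁ V₂ Z (a * (x * t * x⁻¹)) := by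
  by_cases h : InP V₁ V₂ Z a
  · exact Or.inl h
  · exact Or.inr (k₁.inP_mul k₂ hst ha (k₁.inA_conj k₂ hst hx k₂.sV) h (k₁.not_inP k₂ hst hx hxr))

/-- **(4)** `A` is `X₁`-invariant -/
theorem inA_X {y : G} (hy : y ∈ X₁) {a : G} (ha : InA s t W₁ W₂ a) : InA s t W₁ W₂ (y * a * y⁻¹) := by
  obtain ⟨x, hx, -, hxr, -⟩ := k₁.three
  have key : ∀ g, InP V₁ V₂ Z g → InA s t W₁ W₂ (y * g * y⁻¹) := by
    rintro g ⟨v₁, hv₁, v₂, hv₂, z, hz, rfl⟩
    have e : y * (v₁ * v₂ * z) * y⁻¹ = (y * v₁ * y⁻¹) * (y * v₂ * y⁻¹) * (y * z * y⁻¹) := by group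
    have hV := k₁.inA_V₁ k₂ hst (k₁.XV y hy _ hv₁)
    have hr := k₁.inA_V₁ k₂ hst (k₁.XV y hy _ k₁.rV)
    have hd : InA s t W₁ W₂ (y * d * y⁻¹) := by
      rw [conj_of_comm (k₁.Xd y hy)]; exact k₁.inA_Z k₂ hst k₁.dZ
    rw [e]
    refine (hV.mul (k₁.inA_conj k₂ hst hy hv₂)).mul ?_
    rcases k₁.Z_mem z hz with rfl | rfl | rfl | rfl
    · have e1 : y * 1 * y⁻¹ = 1 := by group
      rw [e1]; exact k₁.inA_Z k₂ hst (one_mem _)
    · exact hr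
    · exact hd
    · have e1 : y * (r * d) * y⁻¹ = (y * r * y⁻¹) * (y * d * y⁻¹) := by group
      rw [e1]; exact hr.mul hd
  rcases k₁.inA_cases k₂ hst hx hxr ha with h | h
  · exact key a h
  · have h1 := (key _ h).mul (k₁.inA_conj k₂ hst (mul_mem hy hx) (inv_mem k₂.sV))
    have e : y * (a * (x * t * x⁻¹)) * y⁻¹ * (y * x * t⁻¹ * (y * x)⁻¹) = y * a * y⁻¹ := by group
    rwa [e] at h1

/-- **(5)** `C_A(x) ≤ ⟨d⟩` -/
theorem fixed {x : G} (hx : x ∈ X₁) (hxr : x * r * x⁻¹ = s) (hxs : x * s * x⁻¹ = r * s) {a : G}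
    (ha : InA s t W₁ W₂ a) (hxa : x * a = a * x) : a = 1 ∨ a = d := by
  obtain ⟨w, hw, hwt, u, hu, hus⟩ := k₁.exists_wu k₂ hst
  have haV := k₁.inA_V k₂ hst ha
  have hrr := k₁.rr
  have hss : s * s = 1 := k₁.sq s k₁.sW
  have hsr : s * r = r * s := k₁.rW k₁.sW
  -- fixed points of `x` on `V₁`
  have hfix : ∀ v ∈ V₁, x * v = v * x → v = 1 := by
    intro v hv h
    have h' := conj_of_comm h
    rcases k₁.V_mem v hv with rfl | rfl | rfl | rfl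
    · rfl
    · rw [hxr] at h'
      exact absurd h' k₁.s_ne_r
    · rw [hxs] at h'
      exact absurd (mul_eq_right.1 h') k₁.r1
    · exfalso
      have e1 : x * (r * s) * x⁻¹ = (x * r * x⁻¹) * (x * s * x⁻¹) := by group
      rw [e1, hxr, hxs, ← mul_assoc, hsr, mul_assoc, hss, mul_one] at h'
      exact k₁.s_ne_one (mul_eq_left.1 h'.symm)
  -- `[w, a] ∈ V₁`
  have hφ : ⁅w, a⁆ ∈ V₁ := by
    have hP : ∀ g, InP V₁ V₂ Z g → ⁅w, g⁆ ∈ V₁ := by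
      intro g hg
      rcases InP.ce k₁ k₂ hst hw hg with h | h
      · rw [h]; exact one_mem _
      · rw [h]; exact k₁.rV
    rcases k₁.inA_cases k₂ hst hx hxr ha with h | h
    · exact hP a h
    · have e : a = a * (x * t * x⁻¹) * (x * t⁻¹ * x⁻¹) := by group
      have h2 : ⁅w, x * t⁻¹ * x⁻¹⁆ ∈ V₁ := by
        rcases k₁.cU x hx w hw t⁻¹ (inv_mem k₂.sW) with h3 | h3
        · rw [h3]; exact one_mem _
        · rw [h3]; exact k₁.XV x hx r k₁.rV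
      have h4 := k₁.inA_V k₂ hst (ha.mul (k₁.inA_conj k₂ hst hx k₂.sV))
      rw [e, ce_mul_right, conj_of_comm (h4 _ h2)]
      exact mul_mem (hP _ h) h2
  have hφ1 : ⁅w, a⁆ = 1 := by
    apply hfix _ hφ
    apply comm_of_conj
    obtain ⟨v, hv, e⟩ := k₁.conjX' hx hw
    rw [ce_conj, e, conj_of_comm hxa, ce_mul_left, ce_one.2 (haV v hv).symm, mul_one,
      conj_of_comm (k₁.WW v (k₁.VW hv) _ (k₁.VW hφ))]
  have hwa : w * a = a * w := ce_one.1 hφ1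
  have hww : w * w = 1 := k₁.sq w hw
  have h1 : a * w * a⁻¹ * w ∈ Z := by
    rw [← hwa, mul_inv_cancel_right, hww]; exact one_mem _
  obtain ⟨v₁, hv₁, v₂, hv₂, z, hz, e⟩ :=
    k₁.inP_of k₂ hst hw hwt hu hus ha h1 (k₁.shift_iff k₂ hst hw hwt hu ha h1)
  have h2 : ⁅w, v₂⁆ = 1 := by rw [← hφ1, e, k₁.ce_prod k₂ hst hw hv₁ hv₂ hz]
  have hv₂' : v₂ ∈ V₁ := by
    rcases k₂.V_mem v₂ hv₂ with rfl | rfl | rfl | rfl
    · exact one_mem _
    · exact k₁.rV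
    · rw [hwt] at h2
      exact absurd h2 k₁.r1
    · rw [k₁.br rfl (Or.inr hwt), hwt, ce_one.2 (k₁.rW hw), one_mul] at h2
      exact absurd h2 k₁.r1
  -- `a ∈ V₁` or `a ∈ V₁ d`
  have h3 : (∃ v ∈ V₁, a = v) ∨ ∃ v ∈ V₁, a = v * d := by
    rcases k₁.Z_mem z hz with rfl | rfl | rfl | rfl
    · left; exact ⟨_, mul_mem hv₁ hv₂', by rw [e, mul_one]⟩
    · left; exact ⟨_, mul_mem (mul_mem hv₁ hv₂') k₁.rV, e⟩
    · right; exact ⟨_, mul_mem hv₁ hv₂', e⟩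
    · right; exact ⟨_, mul_mem (mul_mem hv₁ hv₂') k₁.rV, by rw [e]; group⟩
  rcases h3 with ⟨v, hv, rfl⟩ | ⟨v, hv, rfl⟩
  · exact Or.inl (hfix _ hv hxa)
  · right
    have hxd := k₁.Xd x hx
    have h4 : x * v = v * x := by
      have e1 : v = v * d * d⁻¹ := by group
      rw [e1]
      exact comm_mul hxa (comm_inv hxd.symm).symm
    rw [hfix v hv h4, one_mul]

end two

/-- **(0)** `r ≁ d` -/
theorem not_conj_rd (k₁ : Sd S r s d V₁ W₁ W₂ Z X₁) (g : G) : g * r * g⁻¹ ≠ d := by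
  intro h
  obtain ⟨x, hx, -, hxr, -⟩ := k₁.three
  have h1 : centralizer ({r} : Set G) ≤ centralizer ({d} : Set G) := fun c hc =>
    mem_centralizer_singleton_iff.2 (k₁.Zc c (mem_centralizer_singleton_iff.1 hc) d k₁.dZ)
  have h2 : centralizer ({d} : Set G) ≤ cj g (centralizer ({r} : Set G)) := by
    intro c hc
    rw [mem_cj, mem_centralizer_singleton_iff]
    have hc' := mem_centralizer_singleton_iff.1 hc
    apply comm_of_comm_conj g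
    have e : g * (g⁻¹ * c * g) * g⁻¹ = c := by group
    rw [e, h]
    exact hc'
  have h3 : Nat.card (centralizer ({d} : Set G)) ≤ Nat.card (centralizer ({r} : Set G)) := by
    rw [← card_cj g (centralizer ({r} : Set G))]
    exact card_le_of_le h2
  have h4 := eq_of_le_of_card_ge h1 h3
  have h5 : x ∈ centralizer ({r} : Set G) := by
    rw [h4]
    exact mem_centralizer_singleton_iff.2 (k₁.Xd x hx)
  have h6 := conj_of_comm (mem_centralizer_singleton_iff.1 h5)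
  rw [hxr] at h6
  exact k₁.s_ne_r h6

theorem Z_S (k₁ : Sd S r s d V₁ W₁ W₂ Z X₁) {z : G} (hz : z ∈ Z) : ∀ g ∈ S, g * z = z * g := fun g hg =>
  k₁.Zc g (k₁.Sr g hg) z hz

/-- **(0)** `d ≁ e` -/
theorem not_conj (k₁ : Sd S r s d V₁ W₁ W₂ Z X₁) (k₂ : Sd S r t e V₂ W₂ W₁ Z X₂) (hde : d ≠ e) (g : G) :
    g * d * g⁻¹ ≠ e := by
  intro h
  have hp : Fact (Nat.Prime 2) := ⟨Nat.prime_two⟩
  obtain ⟨n, hn, hn'⟩ := Sylow.conj_eq_normalizer_conj_of_mem_centralizer S d g⁻¹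
    (mem_centralizer_iff.2 fun c hc => k₁.Z_S k₁.dZ c hc)
    (mem_centralizer_iff.2 fun c hc => by rw [inv_inv, h]; exact k₁.Z_S k₂.dZ c hc)
  rw [inv_inv, h] at hn'
  have hni : n⁻¹ ∈ normalizer (S : Set G) := inv_mem hn
  have h1 : n⁻¹ * r * n ∈ Z := by
    rw [k₁.Z_iff]
    have key : ∀ c ∈ S, n⁻¹ * r * n * c = c * (n⁻¹ * r * n) := by
      intro c hc
      have h2 : n * c * n⁻¹ ∈ S := (mem_normalizer_iff.1 hn c).1 hc
      have h3 := k₁.Sr _ h2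
      apply comm_of_comm_conj n
      have e1 : n * (n⁻¹ * r * n) * n⁻¹ = r := by group
      rw [e1]
      exact h3.symm
    exact ⟨fun w hw => key w (k₁.WS hw), fun w hw => key w (k₂.WS hw)⟩
  have h5 : n⁻¹ * r * n = r := by
    rcases k₁.Z_mem _ h1 with h2 | h2 | h2 | h2
    · exfalso
      apply k₁.r1
      have e1 : n * (n⁻¹ * r * n) * n⁻¹ = r := by group
      rw [← e1, h2]; group
    · exact h2
    · exact absurd (by rw [inv_inv]; exact h2) (k₁.not_conj_rd n⁻¹)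
    · -- `r d = e`
      exfalso
      rcases k₁.Z_mem e k₂.dZ with h3 | h3 | h3 | h3
      · exact k₂.d1 h3
      · exact k₂.dr h3
      · exact hde h3.symm
      · rw [← h3] at h2
        exact k₂.not_conj_rd n⁻¹ (by rw [inv_inv]; exact h2)
  have h6 : n⁻¹ * r = r * n⁻¹ := by
    apply comm_of_conj
    rw [inv_inv]; exact h5
  have h7 := conj_of_comm (k₁.Zc n⁻¹ h6 d k₁.dZ)
  rw [inv_inv] at h7
  rw [h7] at hn'
  exact hde hn'.symm

end Sd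

/-! ### The orbit argument -/

/-- the orbit of `d` under `F`, acted on by a subgroup `P ≤ F` -/
theorem card_mod (F P : Subgroup G) (hP : P ≤ F) (h3 : IsPGroup 3 P) (d : G) :
    Nat.card {g : G // ∃ f ∈ F, f * d * f⁻¹ = g} ≡
      Nat.card {g : G // (∃ f ∈ F, f * d * f⁻¹ = g) ∧ ∀ h ∈ P, h * g = g * h} [MOD 3] := by
  have : Fact (Nat.Prime 3) := ⟨Nat.prime_three⟩
  let α := {g : G // ∃ f ∈ F, f * d * f⁻¹ = g}
  let _inst : MulAction P α :=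
    { smul := fun h g => ⟨(h : G) * g * (h : G)⁻¹, by
        obtain ⟨f, hf, e⟩ := g.2
        exact ⟨h * f, mul_mem (hP h.2) hf, by rw [← e]; group⟩⟩
      one_smul := fun g => Subtype.ext (by
        change ((1 : P) : G) * g * ((1 : P) : G)⁻¹ = g
        simp)
      mul_smul := fun x y g => Subtype.ext (by
        change ((x * y : P) : G) * g * ((x * y : P) : G)⁻¹ = (x : G) * ((y : G) * g * (y : G)⁻¹) * (x : G)⁻¹
        rw [Subgroup.coe_mul]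
        group) }
  have hsmul : ∀ (h : P) (g : α), ((h • g : α) : G) = (h : G) * g * (h : G)⁻¹ := fun _ _ => rfl
  have h1 := h3.card_modEq_card_fixedPoints α
  have h2 : Nat.card (MulAction.fixedPoints P α) =
      Nat.card {g : G // (∃ f ∈ F, f * d * f⁻¹ = g) ∧ ∀ h ∈ P, h * g = g * h} := by
    refine Nat.card_congr ⟨fun g => ⟨g.1.1, g.1.2, fun h hh => ?_⟩, fun g => ⟨⟨g.1, g.2.1⟩, fun h => ?_⟩,
      fun g => rfl, fun g => rfl⟩
    · have := congrArg Subtype.val (g.2 ⟨h, hh⟩)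
      rw [hsmul] at this
      exact comm_of_conj this
    · apply Subtype.ext
      rw [hsmul]
      exact conj_of_comm (g.2.2 h h.2)
  rw [h2] at h1
  exact h1

/-- **The contradiction** (bb OMEGA #14746) -/
theorem kill (k₁ : Sd S r s d V₁ W₁ W₂ Z X₁) (k₂ : Sd S r t e V₂ W₂ W₁ Z X₂) (hde : d ≠ e)
    (hS : 16 < Nat.card S) : False := by
  by_cases hst : s * t = t * s
  swap
  · exact absurd (k₁.card_le k₂ hst) (not_le.2 hS)
  obtain ⟨x, hx, ⟨n, hn⟩, hxr, hxs⟩ := k₁.three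
  obtain ⟨y, hy, ⟨m, hm⟩, hyr, hys⟩ := k₂.three
  let F : Subgroup G := closure {x, y}
  have hxF : x ∈ F := subset_closure (by simp)
  have hyF : y ∈ F := subset_closure (by simp)
  -- the orbit of `d` is in `A`
  have hA : ∀ f ∈ F, ∀ a, Sd.InA s t W₁ W₂ a → Sd.InA s t W₁ W₂ (f * a * f⁻¹) := by
    have h1 : F ≤ { carrier := {f | (∀ a, Sd.InA s t W₁ W₂ a → Sd.InA s t W₁ W₂ (f * a * f⁻¹)) ∧
                      ∀ a, Sd.InA s t W₁ W₂ a → Sd.InA s t W₁ W₂ (f⁻¹ * a * f)}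
                    one_mem' := ⟨fun a ha => by simpa using ha, fun a ha => by simpa using ha⟩
                    mul_mem' := by
                      rintro f g ⟨f1, f2⟩ ⟨g1, g2⟩
                      refine ⟨fun a ha => ?_, fun a ha => ?_⟩
                      · have := f1 _ (g1 a ha)
                        have e : f * (g * a * g⁻¹) * f⁻¹ = f * g * a * (f * g)⁻¹ := by group
                        rwa [e] at this
                      · have := g2 _ (f2 a ha)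
                        have e : g⁻¹ * (f⁻¹ * a * f) * g = (f * g)⁻¹ * a * (f * g) := by group
                        rwa [e] at this
                    inv_mem' := by
                      rintro f ⟨f1, f2⟩
                      refine ⟨fun a ha => ?_, fun a ha => ?_⟩
                      · rw [inv_inv]; exact f2 a ha
                      · rw [inv_inv]; exact f1 a ha : Subgroup G} := by
      rw [closure_le]
      rintro z hz
      rcases hz with rfl | hz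
      · refine ⟨fun a ha => k₁.inA_X k₂ hst hx ha, fun a ha => ?_⟩
        have := k₁.inA_X k₂ hst (inv_mem hx) ha
        rwa [inv_inv] at this
      · rw [Set.mem_singleton_iff] at hz
        subst hz
        refine ⟨fun a ha => (k₂.inA_X k₁ hst.symm hy ha.swap).swap, fun a ha => ?_⟩
        have := (k₂.inA_X k₁ hst.symm (inv_mem hy) ha.swap).swap
        rwa [inv_inv] at this
    exact fun f hf => (h1 hf).1
  have hΩ : ∀ g, (∃ f ∈ F, f * d * f⁻¹ = g) → Sd.InA s t W₁ W₂ g ∧ g ≠ 1 := by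
    rintro g ⟨f, hf, rfl⟩
    refine ⟨hA f hf d (k₁.inA_Z k₂ hst k₁.dZ), fun h => k₁.d1 ?_⟩
    have e : f⁻¹ * (f * d * f⁻¹) * f = d := by group
    rw [← e, h]; group
  have h3x : IsPGroup 3 (zpowers x) := by
    rintro ⟨_, k, rfl⟩
    refine ⟨n, Subtype.ext ?_⟩
    change (x ^ k) ^ 3 ^ n = 1
    rw [← zpow_natCast, ← zpow_mul, mul_comm, zpow_mul, zpow_natCast, hn, one_zpow]
  have h3y : IsPGroup 3 (zpowers y) := by
    rintro ⟨_, k, rfl⟩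
    refine ⟨m, Subtype.ext ?_⟩
    change (y ^ k) ^ 3 ^ m = 1
    rw [← zpow_natCast, ← zpow_mul, mul_comm, zpow_mul, zpow_natCast, hm, one_zpow]
  have c1 := card_mod F (zpowers x) (zpowers_le.2 hxF) h3x d
  have c2 := card_mod F (zpowers y) (zpowers_le.2 hyF) h3y d
  have e1 : Nat.card {g : G // (∃ f ∈ F, f * d * f⁻¹ = g) ∧ ∀ h ∈ zpowers x, h * g = g * h} = 1 := by
    rw [Nat.card_eq_one_iff_unique]
    refine ⟨⟨fun a b => ?_⟩, ⟨⟨d, ⟨1, one_mem _, by group⟩, ?_⟩⟩⟩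
    · have key : ∀ a : {g : G // (∃ f ∈ F, f * d * f⁻¹ = g) ∧ ∀ h ∈ zpowers x, h * g = g * h}, a.1 = d := by
        intro a
        obtain ⟨h1, h2⟩ := hΩ a.1 a.2.1
        rcases k₁.fixed k₂ hst hx hxr hxs h1 (a.2.2 x (mem_zpowers x)) with h | h
        · exact absurd h h2
        · exact h
      exact Subtype.ext ((key a).trans (key b).symm)
    · rintro _ ⟨k, rfl⟩
      have : Commute x d := k₁.Xd x hx
      exact (this.zpow_left k).eq
  have e2 : Nat.card {g : G // (∃ f ∈ F, f * d * f⁻¹ = g) ∧ ∀ h ∈ zpowers y, h * g = g * h} = 0 := by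
    have : IsEmpty {g : G // (∃ f ∈ F, f * d * f⁻¹ = g) ∧ ∀ h ∈ zpowers y, h * g = g * h} := by
      refine ⟨fun a => ?_⟩
      obtain ⟨h1, h2⟩ := hΩ a.1 a.2.1
      rcases k₂.fixed k₁ hst.symm hy hyr hys h1.swap (a.2.2 y (mem_zpowers y)) with h | h
      · exact h2 h
      · obtain ⟨f, hf, e⟩ := a.2.1
        rw [h] at e
        exact k₁.not_conj k₂ hde f e
    exact Nat.card_of_isEmpty
  rw [e1] at c1
  rw [e2] at c2
  have := c1.symm.trans c2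
  exact absurd this (by decide)

end Cfsg.Agent.Omega.MixOne.QTwoKill
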