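import Cfsg.Agent.Omega.MixOne.QTwoSide
import Cfsg.Agent.Omega.MixOne.QTwoKill

/-!
# II.0h1, mixed pairs, `q = 2`: from the two sides (`TwoW`, `|V₁| = |V₂| = 4`, `R = {1, r}`, `Z(S) ≰ R`) to `QTwoKill.Sd`

`TwoQ.false` : `|S| ≤ 16`.
-/

set_option autoImplicit false
set_option linter.unusedSectionVars false

namespace Cfsg.Agent.Omega.MixOne

open Subgroup Cfsg.Agent.Omega.BTwo Cfsg.Agent.Omega.Mix
open Cfsg.Agent.Omega.MixOne.QTwoKill (Sd ce_one conj_of_comm comm_of_conj comm_conj comm_of_comm_conj comm_mul comm_inv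
  ce_conj)
open scoped commutatorElement

variable {G : Type*} [Group G] {ι κ : Type*}

/-- a 2-subgroup normalised by the Sylow subgroup `S` lies in `S` -/
theorem le_sylow [Finite G] (S : Sylow 2 G) {K : Subgroup G} (hK : IsPGroup 2 K)
    (hS : (S : Subgroup G) ≤ normalizer (K : Set G)) : K ≤ (S : Subgroup G) := by
  have : Fact (Nat.Prime 2) := ⟨Nat.prime_two⟩
  have h3 : IsPGroup 2 ((S : Subgroup G) ⊔ K : Subgroup G) := S.isPGroup'.to_sup_of_normal_right' hK hS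
  have h4 := S.is_maximal' h3 le_sup_left
  exact le_sup_right.trans_eq h4

/-- `⟨r^L⟩` -/
def UL (L : Subgroup G) (r : G) : Subgroup G := closure {g | ∃ l ∈ L, g = l * r * l⁻¹}

theorem mem_UL {L : Subgroup G} {r l : G} (hl : l ∈ L) : l * r * l⁻¹ ∈ UL L r := subset_closure ⟨l, hl, rfl⟩

theorem r_mem_UL (L : Subgroup G) (r : G) : r ∈ UL L r := by
  have := mem_UL (r := r) (one_mem L)
  rwa [one_mul, inv_one, mul_one] at this

theorem UL_conj {L : Subgroup G} {r g : G} (hg : g ∈ L) : ∀ u ∈ UL L r, g * u * g⁻¹ ∈ UL L r := by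
  intro u hu
  have h1 : UL L r ≤ (UL L r).comap (MulAut.conj g).toMonoidHom := by
    rw [UL, closure_le]
    rintro _ ⟨l, hl, rfl⟩
    have h2 : g * (l * r * l⁻¹) * g⁻¹ = (g * l) * r * (g * l)⁻¹ := by group
    change g * (l * r * l⁻¹) * g⁻¹ ∈ UL L r
    rw [h2]
    exact mem_UL (mul_mem hg hl)
  exact h1 hu

/-- `⟨r^L⟩ ≤ Z(O₂(L))` -/
theorem UL_center [Finite G] {S : Sylow 2 G} {L : Subgroup G} {r : G} (hL : (S : Subgroup G) ≤ L) (hch : Char2 L)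
    (hrL : r ∈ L) (hr : ∀ g ∈ (S : Subgroup G), g * r = r * g) :
    ∀ u ∈ UL L r, u ∈ O2 L ∧ ∀ q ∈ O2 L, u * q = q * u := by
  have hOS : O2 L ≤ (S : Subgroup G) := le_sylow S (O2_isPGroup L) (hL.trans (le_normalizer_O2 L))
  have hr1 : r ∈ O2 L ∧ ∀ q ∈ O2 L, r * q = q * r := by
    have h1 : ∀ q ∈ O2 L, r * q = q * r := fun q hq => (hr q (hOS hq)).symm
    exact ⟨hch r hrL h1, h1⟩
  let Zc : Subgroup G :=
    { carrier := {u | u ∈ O2 L ∧ ∀ q ∈ O2 L, u * q = q * u}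
      one_mem' := ⟨one_mem _, fun q _ => by rw [one_mul, mul_one]⟩
      mul_mem' := by
        rintro a b ⟨a1, a2⟩ ⟨b1, b2⟩
        exact ⟨mul_mem a1 b1, fun q hq => (comm_mul (a2 q hq).symm (b2 q hq).symm).symm⟩
      inv_mem' := by
        rintro a ⟨a1, a2⟩
        exact ⟨inv_mem a1, fun q hq => comm_inv (a2 q hq)⟩ }
  have h2 : UL L r ≤ Zc := by
    rw [UL, closure_le]
    rintro _ ⟨l, hl, rfl⟩
    have hlN := le_normalizer_O2 L hl
    refine ⟨conj_mem_of_normalizer hlN hr1.1, fun q hq => ?_⟩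
    have h3 := hr1.2 _ (conj_inv_mem_of_normalizer hlN hq)
    apply comm_of_comm_conj l⁻¹
    have e : l⁻¹ * (l * r * l⁻¹) * l⁻¹⁻¹ = r := by group
    rw [e, inv_inv]
    exact h3
  exact fun u hu => h2 hu

/-- the two sides for `q = 2`, with `Z(S) ≰ R` -/
structure TwoQ (V₁ V₂ : Subgroup G) (R₁ B₁ C₁ : ι → Subgroup G) (R₂ B₂ C₂ : κ → Subgroup G) (i : ι) (j : κ)
    (S : Sylow 2 G) (r : G) : Prop where
  t : TwoW V₁ V₂ R₁ B₁ C₁ R₂ B₂ C₂ i j S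
  char : ∀ K : Subgroup G, IsPGroup 2 K → K ≠ ⊥ → Char2 (normalizer (K : Set G))
  r1 : r ≠ 1
  mem_R : ∀ g, g ∈ R₁ i ↔ g = 1 ∨ g = r
  c₁ : Nat.card V₁ = 4
  c₂ : Nat.card V₂ = 4
  W₁Q : C₁ i ≤ O2 (normalizer (R₁ i : Set G))
  W₂Q : B₁ i ≤ O2 (normalizer (R₁ i : Set G))
  Q₁ : ∀ g ∈ O2 (normalizer (R₁ i : Set G)), ∀ b ∈ C₁ i, g * b * g⁻¹ * b⁻¹ ∈ R₁ i
  Q₂ : ∀ g ∈ O2 (normalizer (R₁ i : Set G)), ∀ b ∈ B₁ i, g * b * g⁻¹ * b⁻¹ ∈ R₁ i
  ext : ∃ z, z ∉ R₁ i ∧ ∀ s ∈ (S : Subgroup G), s * z = z * s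

variable {V₁ V₂ : Subgroup G} {R₁ B₁ C₁ : ι → Subgroup G} {R₂ B₂ C₂ : κ → Subgroup G} {i : ι} {j : κ} {S : Sylow 2 G}
  {r : G}

namespace TwoQ

theorem symm (q : TwoQ V₁ V₂ R₁ B₁ C₁ R₂ B₂ C₂ i j S r) : TwoQ V₂ V₁ R₂ B₂ C₂ R₁ B₁ C₁ j i S r where
  t := q.t.symm
  char := q.char
  r1 := q.r1
  mem_R := by rw [← q.t.hR]; exact q.mem_R
  c₁ := q.c₂
  c₂ := q.c₁
  W₁Q := by rw [← q.t.hR, ← q.t.hB]; exact q.W₂Q
  W₂Q := by rw [← q.t.hR, ← q.t.hC]; exact q.W₁Q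
  Q₁ := by rw [← q.t.hR, ← q.t.hB]; exact q.Q₂
  Q₂ := by rw [← q.t.hR, ← q.t.hC]; exact q.Q₁
  ext := by rw [← q.t.hR]; exact q.ext

variable [Finite G] (q : TwoQ V₁ V₂ R₁ B₁ C₁ R₂ B₂ C₂ i j S r)
include q

theorem rR : r ∈ R₁ i := (q.mem_R r).2 (Or.inr rfl)

theorem rr : r * r = 1 := q.t.s₁.B_sq i r (q.t.s₁.R_B i q.rR)

theorem N_eq : normalizer (R₁ i : Set G) = centralizer ({r} : Set G) := normalizer_two q.mem_R q.r1

theorem Sr {g : G} (hg : g ∈ (S : Subgroup G)) : g * r = r * g := by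
  have h1 := q.t.SR hg
  rw [q.N_eq] at h1
  exact mem_centralizer_singleton_iff.1 h1

theorem Q_le_S : O2 (normalizer (R₁ i : Set G)) ≤ (S : Subgroup G) :=
  le_sylow S (O2_isPGroup _) (q.t.SR.trans (le_normalizer_O2 _))

/-- `Y = R D₁` at all points -/
theorem hRD : ∀ k, ∀ y ∈ YY (B₁ k) (C₁ k), ∃ ρ ∈ R₁ k, ∃ d ∈ ⨅ m, YY (B₁ m) (C₁ m), y = ρ * d := by
  intro k y hy
  obtain ⟨m, -, -, x, hx, e⟩ := q.t.s₁.trans_B i k
  have hy' : x⁻¹ * y * x ∈ YY (B₁ i) (C₁ i) := by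
    rw [← q.t.s₁.cY e] at hy
    exact mem_cj.1 hy
  obtain ⟨ρ, hρ, d, hd, h⟩ := q.t.exists_RD hy'
  refine ⟨x * ρ * x⁻¹, by rw [← e]; exact conj_mem_cj hρ, x * d * x⁻¹,
    conj_mem_of_normalizer (q.t.s₁.nD (q.t.s₁.B_le_ST m hx)) hd, ?_⟩
  calc y = x * (x⁻¹ * y * x) * x⁻¹ := by group
    _ = x * (ρ * d) * x⁻¹ := by rw [h]
    _ = x * ρ * x⁻¹ * (x * d * x⁻¹) := by group

/-- **`D₁ ∩ D₂ = 1`** -/
theorem inf_D : (⨅ m, YY (B₁ m) (C₁ m)) ⊓ (⨅ m, YY (B₂ m) (C₂ m)) = ⊥ := by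
  by_contra hne
  have hle : (⨅ m, YY (B₁ m) (C₁ m)) ≤ YY (B₁ i) (C₁ i) := iInf_le _ i
  obtain ⟨z, hz1, ⟨hzD, hzD'⟩, hzS⟩ := exists_fixed S (q.t.Y_isPGroup.to_le (inf_le_left.trans hle))
    (by
      intro g hg
      rw [← cj_eq_self_iff, cj_inf, cj_eq_self_iff.2 (q.t.s₁.nD (q.t.SV₁ hg)),
        cj_eq_self_iff.2 (q.t.s₂.nD (q.t.SV₂ hg))]) hne
  have hzY := hle hzD
  have hzz : z * z = 1 := q.t.Y_sq hzY
  -- `L = C(z)`
  have hK : ∀ g, g ∈ zpowers z ↔ g = 1 ∨ g = z := by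
    intro g
    constructor
    · rintro ⟨m, rfl⟩
      have h2 : z ^ (2 : ℤ) = 1 := by rw [zpow_two, hzz]
      rcases Int.even_or_odd m with ⟨k, rfl⟩ | ⟨k, rfl⟩
      · left
        show z ^ (k + k) = 1
        rw [← two_mul, zpow_mul, h2, one_zpow]
      · right
        show z ^ (2 * k + 1) = z
        rw [zpow_add, zpow_mul, h2, one_zpow, one_mul, zpow_one]
    · rintro (rfl | rfl)
      · exact one_mem _
      · exact mem_zpowers _
  have hN := normalizer_two hK hz1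
  have hKp : IsPGroup 2 (zpowers z) := by
    rintro ⟨g, hg⟩
    refine ⟨1, Subtype.ext ?_⟩
    change g ^ 2 ^ 1 = 1
    rcases (hK g).1 hg with rfl | rfl
    · rw [one_pow]
    · rw [pow_one, pow_two, hzz]
  have hch := q.char _ hKp (fun h => hz1 (by rw [← mem_bot, ← h]; exact mem_zpowers z))
  rw [hN] at hch
  set L := centralizer ({z} : Set G) with hL
  have hmem : ∀ {g : G}, g ∈ L ↔ g * z = z * g := mem_centralizer_singleton_iff
  have hSL : (S : Subgroup G) ≤ L := fun g hg => hmem.2 (hzS g hg).symm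
  have hrL : r ∈ L := hmem.2 (q.t.Y_comm (q.t.s₁.R_Y i q.rR) hzY)
  have hU := UL_center hSL hch hrL fun g hg => q.Sr hg
  have hC : ∀ y ∈ YY (B₁ i) (C₁ i), (∀ c ∈ C₁ i, y * c = c * y) ∧ ∀ b ∈ B₁ i, y * b = b * y := fun y hy =>
    ⟨(mem_YY.1 hy).2, (mem_YY.1 hy).1⟩
  have h1 : C₁ i ≤ UL L r ⊔ YY (B₁ i) (C₁ i) := by
    refine q.t.s₁.C_le q.hRD q.c₁ q.r1 q.mem_R (fun g hg => UL_conj hg) (fun k b hb => ?_) (fun g hg => ?_)
      (r_mem_UL L r) q.t.gen₁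
    · exact hmem.2 (SideW.D_comm hzD k b hb).symm
    · exact hmem.2 (mem_centralizer_iff.1 hg z hzY).symm
  have h2 : C₂ j ≤ UL L r ⊔ YY (B₁ i) (C₁ i) := by
    rw [q.t.YY_eq_YY]
    refine q.symm.t.s₁.C_le q.symm.hRD q.c₂ q.r1 q.symm.mem_R (fun g hg => UL_conj hg) (fun k b hb => ?_)
      (fun g hg => ?_) (r_mem_UL L r) q.symm.t.gen₁
    · exact hmem.2 (SideW.D_comm hzD' k b hb).symm
    · refine hmem.2 (mem_centralizer_iff.1 hg z ?_).symm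
      have h3 := hzY
      rw [q.t.YY_eq_YY] at h3
      exact h3
  -- `W₁` and `W₂` commute
  have hYn : UL L r ≤ normalizer (YY (B₁ i) (C₁ i) : Set G) := by
    intro u hu
    apply q.t.s₁.nY i
    rw [q.N_eq, mem_centralizer_singleton_iff]
    have hr := hU r (r_mem_UL L r)
    exact (hr.2 u (hU u hu).1).symm
  have dec : ∀ x ∈ UL L r ⊔ YY (B₁ i) (C₁ i), ∃ u ∈ UL L r, ∃ y ∈ YY (B₁ i) (C₁ i), x = u * y := by
    intro x hx
    have h3 : x ∈ ((UL L r ⊔ YY (B₁ i) (C₁ i) : Subgroup G) : Set G) := hx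
    rw [coe_mul_of_left_le_normalizer_right _ _ hYn] at h3
    obtain ⟨u, hu, y, hy, rfl⟩ := h3
    exact ⟨u, hu, y, hy, rfl⟩
  obtain ⟨k, hk, -⟩ := q.t.s₁.third i i
  obtain ⟨b, hb, hbV⟩ := q.t.s₁.exists_move (Ne.symm hk)
  apply hbV
  intro v hv
  obtain ⟨u, hu, y, hy, e1⟩ := dec v (h1 (q.t.s₁.V_C i hv))
  have hb' : b ∈ C₂ j := by rw [← q.t.hB]; exact hb
  obtain ⟨u', hu', y', hy', e2⟩ := dec b (h2 hb')
  have a1 : y * b = b * y := (hC y hy).2 b hb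
  have a2 : y' * v = v * y' := (hC y' hy').1 v (q.t.s₁.V_C i hv)
  have a3 : y * y' = y' * y := q.t.Y_comm hy hy'
  have a4 : u * u' = u' * u := (hU u hu).2 u' (hU u' hu').1
  -- `u = v y⁻¹` commutes with `y'`, `u' = b y'⁻¹`
  have a5 : y' * u = u * y' := by
    have e : u = v * y⁻¹ := by rw [e1]; group
    rw [e]
    exact comm_mul a2 (comm_inv a3).symm
  have a6 : u * b = b * u := by
    rw [e2]
    exact comm_mul a4 a5.symm
  rw [e1]
  exact comm_mul a6.symm a1.symm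

/-- **`|D₁| = 2`** -/
theorem exists_d : ∃ d, d ≠ 1 ∧ ∀ g, g ∈ (⨅ m, YY (B₁ m) (C₁ m)) ↔ g = 1 ∨ g = d := by
  have hle : (⨅ m, YY (B₁ m) (C₁ m)) ≤ YY (B₁ i) (C₁ i) := iInf_le _ i
  obtain ⟨z, hzR, hzS⟩ := q.ext
  have hBS : B₁ i ≤ (S : Subgroup G) := q.W₂Q.trans q.Q_le_S
  have hCS : C₁ i ≤ (S : Subgroup G) := q.W₁Q.trans q.Q_le_S
  have hzY : z ∈ YY (B₁ i) (C₁ i) := by
    rw [mem_YY]
    exact ⟨fun b hb => (hzS b (hBS hb)).symm, fun c hc => (hzS c (hCS hc)).symm⟩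
  obtain ⟨ρ, hρ, d, hd, hz⟩ := q.hRD i z hzY
  have hd1 : d ≠ 1 := by
    rintro rfl
    apply hzR
    rw [hz, mul_one]; exact hρ
  refine ⟨d, hd1, fun g => ⟨fun hg => ?_, ?_⟩⟩
  swap
  · rintro (rfl | rfl)
    · exact one_mem _
    · exact hd
  by_cases hg1 : g = 1
  · exact Or.inl hg1
  right
  -- `r g`, `r d ∈ D₂`
  have key : ∀ g ∈ (⨅ m, YY (B₁ m) (C₁ m)), g ≠ 1 → r * g ∈ ⨅ m, YY (B₂ m) (C₂ m) := by
    intro g hg hg1
    have hgY : g ∈ YY (B₂ j) (C₂ j) := by rw [← q.t.YY_eq_YY]; exact hle hg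
    obtain ⟨ρ', hρ', e, he, h1⟩ := q.symm.hRD j g hgY
    rcases (q.symm.mem_R ρ').1 hρ' with rfl | rfl
    · exfalso
      rw [one_mul] at h1
      apply hg1
      have h2 : g ∈ (⨅ m, YY (B₁ m) (C₁ m)) ⊓ (⨅ m, YY (B₂ m) (C₂ m)) := ⟨hg, by rw [h1]; exact he⟩
      rw [q.inf_D] at h2
      exact mem_bot.1 h2
    · rw [h1, ← mul_assoc, q.rr, one_mul]
      exact he
  have h1 := key g hg hg1
  have h2 := key d hd hd1
  have h3 : g⁻¹ * d ∈ (⨅ m, YY (B₁ m) (C₁ m)) ⊓ (⨅ m, YY (B₂ m) (C₂ m)) := by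
    refine ⟨Subgroup.mul_mem _ (Subgroup.inv_mem _ hg) hd, ?_⟩
    have h4 := mul_mem (inv_mem h1) h2
    have e : (r * g)⁻¹ * (r * d) = g⁻¹ * d := by group
    rw [e] at h4
    exact h4
  rw [q.inf_D] at h3
  exact inv_mul_eq_one.1 (mem_bot.1 h3)

section withd

variable {d : G} (hd1 : d ≠ 1) (hd : ∀ g, g ∈ (⨅ m, YY (B₁ m) (C₁ m)) ↔ g = 1 ∨ g = d)
include hd1 hd

theorem dD : d ∈ ⨅ m, YY (B₁ m) (C₁ m) := (hd d).2 (Or.inr rfl)

theorem dY : d ∈ YY (B₁ i) (C₁ i) := mem_iInf.1 (q.dD hd1 hd) i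

theorem d_ne_r : d ≠ r := by
  intro h
  apply hd1
  exact q.t.s₁.D_R (q.dD hd1 hd) (by rw [h]; exact q.rR)

theorem Z_mem {z : G} (hz : z ∈ YY (B₁ i) (C₁ i)) : z = 1 ∨ z = r ∨ z = d ∨ z = r * d := by
  obtain ⟨ρ, hρ, e, he, rfl⟩ := q.hRD i z hz
  rcases (q.mem_R ρ).1 hρ with rfl | rfl <;> rcases (hd e).1 he with rfl | rfl
  · left; rw [one_mul]
  · right; right; left; rw [one_mul]
  · right; left; rw [mul_one]
  · right; right; right; rfl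

theorem Sd_comm {g : G} (hg : g ∈ (S : Subgroup G)) : g * d = d * g := by
  have h1 := conj_mem_of_normalizer (q.t.s₁.nD (q.t.SV₁ hg)) (q.dD hd1 hd)
  rcases (hd _).1 h1 with h2 | h2
  · exfalso
    apply hd1
    have e : d = g⁻¹ * (g * d * g⁻¹) * g := by group
    rw [e, h2]; group
  · exact comm_of_conj h2

/-- `C(r) ≤ C(Z)` -/
theorem Zc {h : G} (hh : h * r = r * h) {z : G} (hz : z ∈ YY (B₁ i) (C₁ i)) : h * z = z * h := by
  have hhN : h ∈ normalizer (R₁ i : Set G) := by rw [q.N_eq]; exact mem_centralizer_singleton_iff.2 hh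
  have hrd : r * d = d * r := q.t.Y_comm (q.t.s₁.R_Y i q.rR) (q.dY hd1 hd)
  have hrr := q.rr
  have cases_d : ∀ g, g * r = r * g → g * d * g⁻¹ = d ∨ g * d * g⁻¹ = r * d := by
    intro g hg
    have hgN : g ∈ normalizer (R₁ i : Set G) := by rw [q.N_eq]; exact mem_centralizer_singleton_iff.2 hg
    have h1 := conj_mem_of_normalizer (q.t.s₁.nY i hgN) (q.dY hd1 hd)
    have e : d = g⁻¹ * (g * d * g⁻¹) * g := by group
    rcases q.Z_mem hd1 hd h1 with h2 | h2 | h2 | h2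
    · exfalso; apply hd1; rw [e, h2]; group
    · exfalso
      apply q.d_ne_r hd1 hd
      rw [e, h2]
      have := conj_of_comm (comm_inv hg)
      rwa [inv_inv] at this
    · exact Or.inl h2
    · exact Or.inr h2
  let N : Subgroup G := normalizer (R₁ i : Set G)
  let K : Subgroup G := N ⊓ centralizer ({d} : Set G)
  have hKN : K ≤ N := inf_le_left
  have hNr : ∀ {g : G}, g ∈ N ↔ g * r = r * g := by
    intro g
    change g ∈ normalizer (R₁ i : Set G) ↔ _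
    rw [q.N_eq, mem_centralizer_singleton_iff]
  have hSK : (S : Subgroup G) ≤ K := fun g hg =>
    ⟨q.t.SR hg, mem_centralizer_singleton_iff.2 (q.Sd_comm hd1 hd hg)⟩
  have hodd : Odd (K.relIndex N) := by
    have h1 := TwoW.odd_relIndex S (K := N) (q.t.SR.trans le_normalizer)
    rw [inf_of_le_left (show (S : Subgroup G) ≤ N from q.t.SR)] at h1
    rw [← relIndex_mul_relIndex _ _ _ hSK hKN] at h1
    exact (Nat.odd_mul.1 h1).2
  have hn : (K.subgroupOf N).Normal := by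
    constructor
    rintro ⟨k, hkN⟩ hk ⟨g, hg⟩
    rw [mem_subgroupOf] at hk ⊢
    have hkd : k * d = d * k := mem_centralizer_singleton_iff.1 hk.2
    have hkr : k * r = r * k := hNr.1 hkN
    refine ⟨N.mul_mem (N.mul_mem hg hkN) (N.inv_mem hg), mem_centralizer_singleton_iff.2 ?_⟩
    change g * k * g⁻¹ * d = d * (g * k * g⁻¹)
    apply comm_of_comm_conj g⁻¹
    have e : g⁻¹ * (g * k * g⁻¹) * g⁻¹⁻¹ = k := by group
    rw [e]
    rcases cases_d g⁻¹ (comm_inv (hNr.1 hg)) with h1 | h1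
    · rw [h1]; exact hkd
    · rw [h1]; exact comm_mul hkr hkd
  have hh2 : h ^ 2 ∈ K := by
    refine ⟨pow_mem hhN 2, mem_centralizer_singleton_iff.2 ?_⟩
    apply comm_of_conj
    rcases cases_d h hh with h1 | h1
    · calc h ^ 2 * d * (h ^ 2)⁻¹ = h * (h * d * h⁻¹) * h⁻¹ := by rw [pow_two]; group
        _ = d := by rw [h1, h1]
    · calc h ^ 2 * d * (h ^ 2)⁻¹ = h * (h * d * h⁻¹) * h⁻¹ := by rw [pow_two]; group
        _ = h * (r * d) * h⁻¹ := by rw [h1]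
        _ = (h * r * h⁻¹) * (h * d * h⁻¹) := by group
        _ = (r * r) * d := by rw [h1, conj_of_comm hh]; group
        _ = d := by rw [hrr, one_mul]
  have hh3 : h ^ (K.relIndex N) ∈ K := by
    have h1 := Subgroup.pow_index_mem (K.subgroupOf N) ⟨h, hhN⟩
    exact h1
  have hhK : h ∈ K := by
    obtain ⟨m, hm⟩ := hodd
    rw [hm, pow_succ, pow_mul] at hh3
    have h1 := mul_mem (inv_mem (pow_mem hh2 m)) hh3
    rwa [← mul_assoc, inv_mul_cancel, one_mul] at h1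
  have hhd : h * d = d * h := mem_centralizer_singleton_iff.1 hhK.2
  rcases q.Z_mem hd1 hd hz with rfl | rfl | rfl | rfl
  · rw [mul_one, one_mul]
  · exact hh
  · exact hhd
  · exact comm_mul hh hhd

/-- the normaliser of `D₁` -/
theorem ND : normalizer ((⨅ m, YY (B₁ m) (C₁ m) : Subgroup G) : Set G) = centralizer ({d} : Set G) :=
  normalizer_two hd hd1

/-- the facts about `U₁ = ⟨r^M⟩`, `M = C(d)` -/
theorem U_facts : ∀ u ∈ UL (centralizer ({d} : Set G)) r, u ∈ O2 (centralizer ({d} : Set G)) ∧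
    ∀ q ∈ O2 (centralizer ({d} : Set G)), u * q = q * u := by
  have hle : (⨅ m, YY (B₁ m) (C₁ m)) ≤ YY (B₁ i) (C₁ i) := iInf_le _ i
  have hch := q.char _ (q.t.Y_isPGroup.to_le hle) (fun h => hd1 (by rw [← mem_bot, ← h]; exact q.dD hd1 hd))
  rw [q.ND hd1 hd] at hch
  have hrd : r * d = d * r := q.t.Y_comm (q.t.s₁.R_Y i q.rR) (q.dY hd1 hd)
  exact UL_center (fun g hg => mem_centralizer_singleton_iff.2 (q.Sd_comm hd1 hd hg)) hch
    (mem_centralizer_singleton_iff.2 hrd) fun g hg => q.Sr hg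

theorem X_le : (⨆ k, B₁ k) ≤ centralizer ({d} : Set G) := by
  refine iSup_le fun k b hb => mem_centralizer_singleton_iff.2 ?_
  exact (SideW.D_comm (q.dD hd1 hd) k b hb).symm

theorem N_le : normalizer (R₁ i : Set G) ≤ centralizer ({d} : Set G) := by
  intro h hh
  rw [q.N_eq] at hh
  exact mem_centralizer_singleton_iff.2 (q.Zc hd1 hd (mem_centralizer_singleton_iff.1 hh) (q.dY hd1 hd))

theorem O2_M_le : O2 (centralizer ({d} : Set G)) ≤ O2 (normalizer (R₁ i : Set G)) := by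
  have hU := q.U_facts hd1 hd
  have h1 : O2 (centralizer ({d} : Set G)) ≤ normalizer (R₁ i : Set G) := by
    intro x hx
    rw [q.N_eq, mem_centralizer_singleton_iff]
    exact ((hU r (r_mem_UL _ r)).2 x hx).symm
  refine le_O2_of_normal h1 (O2_isPGroup _) fun g hg a ha => ?_
  exact conj_mem_of_normalizer (le_normalizer_O2 _ (q.N_le hd1 hd hg)) ha

/-- `[U₁, W₂^x] ≤ R^x` for `x ∈ C(d)` -/
theorem U_W₂ {x u b : G} (hx : x ∈ centralizer ({d} : Set G)) (hu : u ∈ UL (centralizer ({d} : Set G)) r)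
    (hb : b ∈ B₁ i) : ⁅u, x * b * x⁻¹⁆ ∈ cj x (R₁ i) := by
  have h1 := UL_conj (inv_mem hx) u hu
  have h2 := q.Q₂ _ (q.O2_M_le hd1 hd (q.U_facts hd1 hd _ h1).1) b hb
  have h3 := conj_mem_cj (g := x) h2
  have e : x * (x⁻¹ * u * x⁻¹⁻¹ * b * (x⁻¹ * u * x⁻¹⁻¹)⁻¹ * b⁻¹) * x⁻¹ = ⁅u, x * b * x⁻¹⁆ := by
    rw [commutatorElement_def]; group
  rwa [e] at h3

/-- `V₁ ≤ U₁` -/
theorem V_le_U : V₁ ≤ UL (centralizer ({d} : Set G)) r := by
  obtain ⟨k, hki, ρ, hρ1, hρ, hrρ, x, hx, -, hxr, -⟩ := q.t.s₁.exists_three q.c₁ q.r1 q.mem_R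
  have hρR : ρ ∈ R₁ k := (hρ ρ).2 (Or.inr rfl)
  have h1 := mem_four q.c₁ (q.t.s₁.R_V i q.rR) (q.t.s₁.R_V k hρR) q.r1 hρ1 hrρ q.rr
  have h2 : ρ ∈ UL (centralizer ({d} : Set G)) r := by
    rw [← hxr]; exact mem_UL (q.X_le hd1 hd hx)
  intro v hv
  rcases h1 v hv with rfl | rfl | rfl | rfl
  · exact one_mem _
  · exact r_mem_UL _ _
  · exact h2
  · exact mul_mem (r_mem_UL _ _) h2

/-- `W₁ ≤ U₁` -/
theorem W_le_U : C₁ i ≤ UL (centralizer ({d} : Set G)) r := by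
  refine q.t.gen₁ _ fun h hh => cj_le_iff.2 fun v hv => ?_
  exact UL_conj (q.N_le hd1 hd hh) v (q.V_le_U hd1 hd hv)

/-- `[U₁, X₁] ≤ V₁` -/
theorem U_X {x u : G} (hx : x ∈ ⨆ k, B₁ k) (hu : u ∈ UL (centralizer ({d} : Set G)) r) : ⁅u, x⁆ ∈ V₁ := by
  let P : Subgroup G :=
    { carrier := {x | x ∈ normalizer (V₁ : Set G) ∧ ∀ u ∈ UL (centralizer ({d} : Set G)) r, ⁅u, x⁆ ∈ V₁}
      one_mem' := ⟨one_mem _, fun u _ => by rw [commutatorElement_one_right]; exact one_mem _⟩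
      mul_mem' := by
        rintro a b ⟨a1, a2⟩ ⟨b1, b2⟩
        refine ⟨mul_mem a1 b1, fun u hu => ?_⟩
        have e : ⁅u, a * b⁆ = ⁅u, a⁆ * (a * ⁅u, b⁆ * a⁻¹) := by simp only [commutatorElement_def]; group
        rw [e]
        exact mul_mem (a2 u hu) (conj_mem_of_normalizer a1 (b2 u hu))
      inv_mem' := by
        rintro a ⟨a1, a2⟩
        refine ⟨inv_mem a1, fun u hu => ?_⟩
        have e : ⁅u, a⁻¹⁆ = a⁻¹ * (⁅u, a⁆)⁻¹ * a := by simp only [commutatorElement_def]; group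
        rw [e]
        exact conj_inv_mem_of_normalizer a1 (inv_mem (a2 u hu)) }
  have h1 : (⨆ k, B₁ k) ≤ P := by
    refine iSup_le fun k b hb => ⟨q.t.s₁.B_NV k hb, fun u hu => ?_⟩
    obtain ⟨m, -, -, x, hx, e⟩ := q.t.s₁.trans_B i k
    have hb' : x⁻¹ * b * x ∈ B₁ i := by
      rw [← q.t.s₁.cB x i k e] at hb
      exact mem_cj.1 hb
    have hxX : x ∈ centralizer ({d} : Set G) := q.X_le hd1 hd (mem_iSup_of_mem m hx)
    have h2 := q.U_W₂ hd1 hd hxX hu hb'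
    have e2 : x * (x⁻¹ * b * x) * x⁻¹ = b := by group
    rw [e2, e] at h2
    exact q.t.s₁.R_V k h2
  exact (h1 hx).2 u hu

omit hd1 hd in
/-- `C_S(V₁)^x ≤ S` for `x ∈ X₁` -/
theorem conj_S {x c : G} (hx : x ∈ ⨆ k, B₁ k) (hc : c ∈ (S : Subgroup G)) (hcV : ∀ v ∈ V₁, c * v = v * c) :
    x * c * x⁻¹ ∈ (S : Subgroup G) := by
  set N₁ : Subgroup G := ⨆ k, TT V₁ (B₁ k) with hN₁
  -- `N₁ ≤ S`
  have h1 : N₁ ≤ (S : Subgroup G) := by
    have h2 : N₁ ≤ O2 (centralizer (V₁ : Set G)) := by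
      refine iSup_le fun k => le_O2_of_normal inf_le_right ?_ ?_
      · rintro ⟨g, hg⟩
        refine ⟨1, Subtype.ext ?_⟩
        change g ^ 2 ^ 1 = 1
        rw [pow_one, pow_two, q.t.s₁.B_sq k g (TT_le _ _ hg)]
      · intro g hg a ha
        have hg' : ∀ v ∈ V₁, g * v = v * g := fun v hv => (mem_centralizer_iff.1 hg v hv).symm
        refine ⟨conj_mem_of_normalizer (q.t.s₁.nB k (q.t.s₁.cV_le_NR hg' k)) ha.1, ?_⟩
        exact (centralizer (V₁ : Set G)).mul_mem ((centralizer (V₁ : Set G)).mul_mem hg ha.2)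
          ((centralizer (V₁ : Set G)).inv_mem hg)
    refine h2.trans (le_sylow S (O2_isPGroup _) ?_)
    intro g hg
    have h3 := normalizer_le_normalizer_centralizer V₁ (ST_le _ _ (q.t.SV₁ hg))
    rw [← cj_eq_self_iff, cj_O2, cj_eq_self_iff.2 h3]
  let P : Subgroup G :=
    { carrier := {x | x ∈ normalizer (V₁ : Set G) ∧ x ∈ normalizer (N₁ : Set G) ∧
        ∀ c, (∀ v ∈ V₁, c * v = v * c) → x * c * x⁻¹ * c⁻¹ ∈ N₁}
      one_mem' := ⟨one_mem _, one_mem _, fun c _ => by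
        have e : 1 * c * 1⁻¹ * c⁻¹ = 1 := by group
        rw [e]; exact one_mem _⟩
      mul_mem' := by
        rintro a b ⟨a1, a2, a3⟩ ⟨b1, b2, b3⟩
        refine ⟨mul_mem a1 b1, mul_mem a2 b2, fun c hc => ?_⟩
        have e : a * b * c * (a * b)⁻¹ * c⁻¹ = a * (b * c * b⁻¹ * c⁻¹) * a⁻¹ * (a * c * a⁻¹ * c⁻¹) := by group
        rw [e]
        exact mul_mem (conj_mem_of_normalizer a2 (b3 c hc)) (a3 c hc)
      inv_mem' := by
        rintro a ⟨a1, a2, a3⟩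
        refine ⟨inv_mem a1, inv_mem a2, fun c hc => ?_⟩
        have hc' : ∀ v ∈ V₁, a⁻¹ * c * a * v = v * (a⁻¹ * c * a) := by
          intro v hv
          have h4 := hc _ (conj_mem_of_normalizer a1 hv)
          apply comm_of_comm_conj a
          have e : a * (a⁻¹ * c * a) * a⁻¹ = c := by group
          rw [e]; exact h4
        have h5 := inv_mem (a3 _ hc')
        have e : (a * (a⁻¹ * c * a) * a⁻¹ * (a⁻¹ * c * a)⁻¹)⁻¹ = a⁻¹ * c * a⁻¹⁻¹ * c⁻¹ := by group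
        rwa [e] at h5 }
  have h2 : (⨆ k, B₁ k) ≤ P := by
    refine iSup_le fun k b hb => ⟨q.t.s₁.B_NV k hb, ?_, fun c hc => ?_⟩
    · apply mem_normalizer_of_conj
      rw [← cj_le_iff, hN₁, cj_iSup]
      refine iSup_le fun l => cj_le_iff.2 fun t ht => ?_
      have h3 := q.t.s₁.comm_mem_T' (mem_TT.1 ht).2 hb
      have e : b * t * b⁻¹ = (b * t * b⁻¹ * t⁻¹) * t := by group
      rw [e]
      exact mul_mem (mem_iSup_of_mem k h3) (mem_iSup_of_mem l ht)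
    · exact mem_iSup_of_mem k (q.t.s₁.comm_mem_T' hc hb)
  have h3 := h1 ((h2 hx).2.2 c hcV)
  have e : x * c * x⁻¹ = (x * c * x⁻¹ * c⁻¹) * c := by group
  rw [e]
  exact mul_mem h3 hc

/-- **the facts of `QTwoKill`** -/
theorem sd : ∃ s, Sd S r s d V₁ (C₁ i) (B₁ i) (YY (B₁ i) (C₁ i)) (⨆ k, B₁ k) := by
  obtain ⟨k, hki, ρ, hρ1, hρ, hrρ, x, hx, ⟨n, hn⟩, hxr, hxρ⟩ := q.t.s₁.exists_three q.c₁ q.r1 q.mem_R
  have hρR : ρ ∈ R₁ k := (hρ ρ).2 (Or.inr rfl)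
  have hXV : (⨆ k, B₁ k) ≤ normalizer (V₁ : Set G) := iSup_le fun k => q.t.s₁.B_NV k
  have hXST : (⨆ k, B₁ k) ≤ ST V₁ R₁ := iSup_le fun k => q.t.s₁.B_le_ST k
  have hNr : ∀ {h : G}, h * r = r * h → h ∈ normalizer (R₁ i : Set G) := fun {h} hh => by
    rw [q.N_eq]; exact mem_centralizer_singleton_iff.2 hh
  refine ⟨ρ, ?_⟩
  exact
    { r1 := q.r1
      rr := q.rr
      d1 := hd1
      dd := q.t.Y_sq (q.dY hd1 hd)
      dr := q.d_ne_r hd1 hd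
      rZ := q.t.s₁.R_Y i q.rR
      dZ := q.dY hd1 hd
      Z_iff := fun z => by rw [mem_YY]; exact And.comm
      Zc := fun h hh z hz => q.Zc hd1 hd hh hz
      Z_mem := fun z hz => q.Z_mem hd1 hd hz
      rV := q.t.s₁.R_V i q.rR
      sV := q.t.s₁.R_V k hρR
      V_mem := mem_four q.c₁ (q.t.s₁.R_V i q.rR) (q.t.s₁.R_V k hρR) q.r1 hρ1 hrρ q.rr
      VZ := fun v hv hvZ => (q.mem_R v).1 (q.t.s₁.VB i v hv fun b hb => ((mem_YY.1 hvZ).1 b hb).symm)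
      VW := q.t.s₁.V_C i
      WW := q.t.s₁.C_comm i
      sq := q.t.s₁.C_sq i
      nW := fun h hh w hw => conj_mem_of_normalizer (q.t.s₁.nC i (hNr hh)) hw
      cW := fun w hw u hu => by
        rw [commutatorElement_def]
        exact (q.mem_R _).1 (q.t.s₁.CB i w hw u hu)
      cQ := fun w hw g hg => by
        rw [← q.N_eq] at hg
        have h1 := (q.mem_R _).1 (inv_mem (q.Q₁ g hg w hw))
        have e : (g * w * g⁻¹ * w⁻¹)⁻¹ = ⁅w, g⁆ := by rw [commutatorElement_def]; group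
        rwa [e] at h1
      WS := q.W₁Q.trans q.Q_le_S
      SV := fun g hg v hv => conj_mem_of_normalizer (ST_le _ _ (q.t.SV₁ hg)) hv
      Sr := fun g hg => q.Sr hg
      XV := fun y hy v hv => conj_mem_of_normalizer (hXV hy) hv
      Xd := fun y hy => mem_centralizer_singleton_iff.1 (q.X_le hd1 hd hy)
      cX := fun w hw y hy => q.U_X hd1 hd hy (q.W_le_U hd1 hd hw)
      cU := fun y hy w hw u hu => by
        have h1 := q.U_W₂ hd1 hd (q.X_le hd1 hd hy) (q.W_le_U hd1 hd hw) hu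
        rw [mem_cj] at h1
        have e : ∀ c : G, c = y * (y⁻¹ * c * y) * y⁻¹ := fun c => by group
        rcases (q.mem_R _).1 h1 with h2 | h2
        · left; rw [e ⁅w, y * u * y⁻¹⁆, h2]; group
        · right; rw [e ⁅w, y * u * y⁻¹⁆, h2]
      TT := fun y hy a ha b hb haV hbV => by
        obtain ⟨l, hl⟩ := (hXST hy).2.1 i
        have hb' : y * b * y⁻¹ ∈ B₁ l := by
          rw [← q.t.s₁.cB y i l hl]; exact conj_mem_cj hb
        by_cases hli : l = i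
        · subst hli
          left
          exact ce_one.2 (q.t.s₁.B_comm l a ha _ hb')
        · have h1 : y * b * y⁻¹ ∈ TT V₁ (B₁ l) := by
            rw [mem_TT]
            refine ⟨hb', fun v hv => ?_⟩
            have h2 := hbV _ (conj_inv_mem_of_normalizer (hXV hy) hv)
            apply comm_of_comm_conj y⁻¹
            have e : y⁻¹ * (y * b * y⁻¹) * y⁻¹⁻¹ = b := by group
            rw [e, inv_inv]
            exact h2
          have h2 : a ∈ TT V₁ (B₁ i) := mem_TT.2 ⟨ha, haV⟩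
          have h3 := q.t.s₁.TT_B0 (Ne.symm hli) h2 h1
          rw [commutatorElement_def]
          exact (hd _).1 (q.t.s₁.B0_le_D h3)
      Cn := fun y hy c hc hcV => q.conj_S hy hc hcV
      three := ⟨x, hx, ⟨n, hn⟩, hxr, hxρ⟩ }

end withd

/-- **the situation does not occur if `|S| > 16`** -/
theorem false (hS : 16 < Nat.card S) : False := by
  obtain ⟨d, hd1, hd⟩ := q.exists_d
  obtain ⟨e, he1, he⟩ := q.symm.exists_d
  obtain ⟨s, k₁⟩ := q.sd hd1 hd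
  obtain ⟨t, k₂⟩ := q.symm.sd he1 he
  rw [← q.t.hC, ← q.t.hB] at k₂
  have e1 : YY (C₁ i) (B₁ i) = YY (B₁ i) (C₁ i) := by rw [YY, YY, sup_comm]
  rw [e1] at k₂
  refine QTwoKill.kill k₁ k₂ ?_ hS
  rintro rfl
  apply hd1
  have h1 : d ∈ (⨅ m, YY (B₁ m) (C₁ m)) ⊓ (⨅ m, YY (B₂ m) (C₂ m)) :=
    ⟨(hd d).2 (Or.inr rfl), (he d).2 (Or.inr rfl)⟩
  rw [q.inf_D] at h1
  exact mem_bot.1 h1

end TwoQ

end Cfsg.Agent.Omega.MixOne
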