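import Cfsg.Agent.Omega.MixOne.Frame4
import Cfsg.Agent.Omega.MixOne.QTwoData
import Cfsg.Agent.Omega.Exits

/-!
# The socket `Mixed2` of II.0h1 (mixed non-free pairs, `q = 2`)
-/

set_option autoImplicit false
set_option linter.unusedSectionVars false

namespace Cfsg.Agent.Omega.MixOne

open Subgroup Cfsg Cfsg.Agent.ZN Cfsg.Agent.Omega.BTwo Cfsg.Agent.Omega.Mix
open Cfsg.Agent.Omega.MinPar Cfsg.Agent.Omega.Frame
open Cfsg.Agent.Omega.FrameFF
open Cfsg.Agent.Omega.FrameLE (AllIn)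
open Cfsg.Agent.Omega.HOne.Main (vx SplitPar AllSplit NonFree Mixed2)

universe u

/-- a group of order 2 -/
theorem exists_of_card_two {G : Type*} [Group G] {R : Subgroup G} (h : Nat.card R = 2) :
    ∃ r, r ≠ 1 ∧ ∀ g, g ∈ R ↔ g = 1 ∨ g = r := by
  obtain ⟨x, y, hxy, hun⟩ := Nat.card_eq_two_iff.1 h
  have key : ∀ z : R, z = x ∨ z = y := fun z => by
    have : z ∈ ({x, y} : Set R) := by rw [hun]; trivial
    simpa using this
  rcases key 1 with h1 | h1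
  · refine ⟨y, fun h2 => hxy ?_, fun g => ⟨fun hg => ?_, ?_⟩⟩
    · rw [← h1]; exact Subtype.ext h2.symm
    · rcases key ⟨g, hg⟩ with h2 | h2
      · left; rw [← h1] at h2; exact congrArg Subtype.val h2
      · right; exact congrArg Subtype.val h2
    · rintro (rfl | rfl)
      · exact one_mem _
      · exact y.2
  · refine ⟨x, fun h2 => hxy ?_, fun g => ⟨fun hg => ?_, ?_⟩⟩
    · rw [← h1]; exact Subtype.ext h2
    · rcases key ⟨g, hg⟩ with h2 | h2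
      · right; exact congrArg Subtype.val h2
      · left; rw [← h1] at h2; exact congrArg Subtype.val h2
    · rintro (rfl | rfl)
      · exact one_mem _
      · exact x.2

/-- `MixedW` for `|F| = 2` : `Z(T) ≤ R` or `|T| ≤ 16` -/
theorem MixedW.two_false {G : Type*} [Group G] [Finite G] {F₁ F₂ : Type*} [Field F₁] [Field F₂] [Finite F₁]
    [Finite F₂] [CharP F₁ 2] [CharP F₂ 2] {V₁ V₂ N₁ N₂ : Subgroup G} {M₁ : RMod F₁ V₁ N₁} {M₂ : RMod F₂ V₂ N₂}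
    {R : Subgroup G} (m : MixedW M₁ M₂ R) (h2 : Nat.card F₁ = 2) {S : Sylow 2 G} (h₁ : (S : Subgroup G) ≤ N₁)
    (h₂ : (S : Subgroup G) ≤ N₂) (h₃ : (S : Subgroup G) ≤ normalizer (R : Set G)) {z : G} (hzR : z ∉ R)
    (hz : ∀ s ∈ (S : Subgroup G), s * z = z * s) (hS : 16 < Nat.card S) : False := by
  obtain ⟨i, j, hi, hj, t⟩ := m.two h₁ h₂ h₃
  obtain ⟨w, hw, hR⟩ := m.line₁
  obtain ⟨r, hr1, hr⟩ := exists_of_card_two (R := R) (by rw [hR, M₁.card_line hw, h2])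
  have hF₂ : Nat.card F₂ = 2 := by rw [← m.card_eq, h2]
  have q : TwoQ V₁ V₂ (pt M₁) (fun i => LL V₂ R (pt M₁ i)) (fun i => LL V₁ R (pt M₁ i)) (pt M₂)
        (fun i => LL V₁ R (pt M₂ i)) (fun i => LL V₂ R (pt M₂ i)) i j S r :=
    { t := t
      char := m.char
      r1 := hr1
      mem_R := by rw [hi]; exact hr
      c₁ := by rw [M₁.card_V, h2]; norm_num
      c₂ := by rw [M₂.card_V, hF₂]; norm_num
      W₁Q := by rw [hi]; exact m.C_le_QQ
      W₂Q := by rw [hi]; exact m.symm.C_le_QQ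
      Q₁ := by rw [hi]; exact fun g hg b hb => m.QC hg hb
      Q₂ := by rw [hi]; exact fun g hg b hb => m.symm.QC hg hb
      ext := by rw [hi]; exact ⟨z, hzR, hz⟩ }
  exact q.false hS

/-- **The socket `Mixed2`** (no hypothesis on `K`) -/
theorem mixed2 {K : Cls.{u}} : Mixed2 K := by
  intro G _ _ hG _ S _ _ hS hs hno P₁ P₂ x h F _ _ _ o₁ h2
  obtain ⟨F₂, _, _, _, ⟨o₂⟩⟩ := (hS P₁ P₂ x h.mp).2
  obtain ⟨hs₁, hs₂⟩ := hs P₁ P₂ x h.mp
  obtain ⟨K₁, N₂, K₂, M₁, M₂, k, R, T, -, s₁, s₂, hT1, hT2, hT3, m⟩ :=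
    exists_mixedW hG.char2 S hno h hs₁ hs₂ o₁ o₂
  exfalso
  obtain ⟨⟨d, hd⟩, hd1⟩ := Subgroup.ne_bot_iff_exists_ne_one.1 h.ne₁
  have hd1' : d ≠ 1 := fun h => hd1 (Subtype.ext h)
  have hp : Fact (Nat.Prime 2) := ⟨Nat.prime_two⟩
  have h32 : 16 < Nat.card T := by
    have e1 : (2 : ℕ) ^ 5 ∣ Nat.card G := Cfsg.Agent.Omega.Exits.dvd_card hG.rank
    have e2 : (2 : ℕ) ^ 5 ∣ Nat.card T := T.pow_dvd_card_of_pow_dvd_card e1
    have e3 := Nat.le_of_dvd Nat.card_pos e2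
    omega
  refine m.two_false h2 (hT1.trans s₁.PK) (hT2.trans s₂.PK) hT3 (z := d) ?_ ?_ h32
  · intro h5
    apply hd1'
    have h6 : d ∈ vx (S : Subgroup G) P₁ ⊓ cv (S : Subgroup G) P₁ := ⟨m.RV h5, hd⟩
    rw [s₁.inf] at h6
    exact mem_bot.1 h6
  · intro t ht
    exact (mem_centralizer_iff.1 (s₁.cen (hT1 ht)) d hd).symm

end Cfsg.Agent.Omega.MixOne
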