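import Cfsg.Agent.Omega.MixOne.SideW
import Cfsg.Agent.Lib.SylowNormalInf

/-!
# THEOREM MIX-K (helper932): mixed pairs, a Sylow 2-subgroup of `N_G(R)` normalises one of the two lines

`s : SideW V R B C` : the situation at the line `V` (points `R i`); `I i = B i ⊓ YY (B i) (C i)`,
`B₀ = ⨅ B k`, `D = ⨅ YY (B k) (C k)`.

* `SideW.inf_le` : `T` a 2-group of odd index in `N(R o)`, `b ∈ B o` moves `V`, `[b, T] ≤ R o` :
  `B j ⊓ YY (B j) (C j) ≤ R j B₀` for `j ≠ o`, hence for `j = o`;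
* `SideW.Y_le` : `YY (B o) (C o) ≤ R o D`;
* `SideW.exists_ne` : every `A ≤ YY (B o) (C o)` with `|R o| < |A|` meets `D`;
* `SideW.false_of` : the contradiction from `R o ≤ O₂(C(z))`, `O₂(C(z)) ≤ C(v)`, `v` moves `V`, for the `z ∈ A#`.
-/

set_option autoImplicit false

namespace Cfsg.Agent.Omega.MixOne

open Subgroup Cfsg.Agent.Omega.BTwo Cfsg.Agent.Omega.Mix

namespace OrbitS

variable {G : Type*} [Group G] [Finite G]

/-- `T` a 2-group of odd index in `H`, `O` normal in `H`, `I ≤ O` a 2-group: `I^g ≤ T` for some `g ∈ O` -/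
theorem exists_conj {H T O I : Subgroup G} (hT : IsPGroup 2 T) (hs : ¬ 2 ∣ T.relIndex H)
    (hO : O ≤ H) (hn : H ≤ normalizer (O : Set G)) (hIO : I ≤ O) (hI : IsPGroup 2 I) :
    ∃ g ∈ O, ∀ u ∈ I, g * u * g⁻¹ ∈ T := by
  have : Fact (Nat.Prime 2) := ⟨Nat.prime_two⟩
  have hT' : IsPGroup 2 (T.subgroupOf H) := hT.comap_of_injective _ H.subtype_injective
  have : (O.subgroupOf H).Normal := normal_subgroupOf_of_le_normalizer hn
  have h1 := Lib.SylowNormalInf.not_dvd_relIndex (hT'.toSylow hs) (O.subgroupOf H)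
  have h2 : (((hT'.toSylow hs : Sylow 2 H) : Subgroup H)).relIndex (O.subgroupOf H) = T.relIndex O := by
    change (T.subgroupOf H).relIndex (O.subgroupOf H) = T.relIndex O
    rw [Subgroup.relIndex_subgroupOf hO]
  rw [h2] at h1
  have hI' : IsPGroup 2 (I.subgroupOf O) := hI.comap_subtype
  obtain ⟨S2, hS2⟩ := hI'.exists_le_sylow
  obtain ⟨c, hc⟩ := MulAction.exists_smul_eq O S2
    ((hT.comap_of_injective _ O.subtype_injective).toSylow h1)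
  refine ⟨c, c.2, fun x hx => ?_⟩
  have h3 : (⟨x, hIO hx⟩ : O) ∈ (S2 : Subgroup O) := hS2 (Subgroup.mem_subgroupOf.mpr hx)
  have h4 : c * ⟨x, hIO hx⟩ * c⁻¹ ∈ ((c • S2 : Sylow 2 O) : Subgroup O) := by
    rw [Sylow.coe_subgroup_smul]
    exact Subgroup.smul_mem_pointwise_smul _ (MulAut.conj c) _ h3
  rw [hc] at h4
  exact mem_subgroupOf.1 h4

end OrbitS

namespace SideW

variable {G : Type*} [Group G] [Finite G] {ι : Type*} {V : Subgroup G} {R B C : ι → Subgroup G}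
  (s : SideW V R B C)
include s

/-- `I j ≤ R j B₀`, `j ≠ o` -/
theorem inf_le_of_ne {T : Subgroup G} {o j : ι} (hj : j ≠ o) (hT : IsPGroup 2 T)
    (hTR : ¬ 2 ∣ T.relIndex (normalizer (R o : Set G))) {b : G} (hb : b ∈ B o)
    (hbV : ¬ ∀ v ∈ V, b * v = v * b) (hbT : ∀ t ∈ T, b * t * b⁻¹ * t⁻¹ ∈ R o) {u : G} (hu : u ∈ B j)
    (huY : u ∈ YY (B j) (C j)) : ∃ r ∈ R j, ∃ x ∈ ⨅ k, B k, u = r * x := by
  obtain ⟨H, hH⟩ : ∃ H, H = normalizer (R o : Set G) := ⟨_, rfl⟩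
  obtain ⟨K, hK⟩ : ∃ K, K = B o ⊓ YY (B o) (C o) := ⟨_, rfl⟩
  have hHB : ∀ g ∈ H, ∀ w ∈ B o, g * w * g⁻¹ ∈ B o := fun g hg w hw =>
    conj_mem_of_normalizer (s.nB o (hH ▸ hg)) hw
  have hHK : ∀ g ∈ H, ∀ w ∈ K, g * w * g⁻¹ ∈ K := fun g hg w hw => by
    rw [hK] at hw ⊢
    exact ⟨hHB g hg w hw.1, conj_mem_of_normalizer (s.nY o (hH ▸ hg)) hw.2⟩
  -- `O` : the elements of `H` acting trivially on `B o / K`
  let O : Subgroup G :=
    { carrier := {g | g ∈ H ∧ ∀ w ∈ B o, g * w * g⁻¹ * w⁻¹ ∈ K}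
      one_mem' := ⟨one_mem _, fun w _ => by
        have e : (1 : G) * w * 1⁻¹ * w⁻¹ = 1 := by group
        rw [e]; exact one_mem _⟩
      mul_mem' := by
        rintro g h ⟨hg, hg1⟩ ⟨hh, hh1⟩
        refine ⟨mul_mem hg hh, fun w hw => ?_⟩
        have e : g * h * w * (g * h)⁻¹ * w⁻¹ =
            (g * (h * w * h⁻¹ * w⁻¹) * g⁻¹) * (g * w * g⁻¹ * w⁻¹) := by group
        rw [e]
        exact mul_mem (hHK g hg _ (hh1 w hw)) (hg1 w hw)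
      inv_mem' := by
        rintro g ⟨hg, hg1⟩
        refine ⟨inv_mem hg, fun w hw => ?_⟩
        have h1 := inv_mem (hHK g⁻¹ (inv_mem hg) _ (hg1 w hw))
        have e : (g⁻¹ * (g * w * g⁻¹ * w⁻¹) * g⁻¹⁻¹)⁻¹ = g⁻¹ * w * g⁻¹⁻¹ * w⁻¹ := by group
        rwa [e] at h1 }
  have hOH : O ≤ H := fun g hg => hg.1
  have hn : H ≤ normalizer (O : Set G) := by
    have key : ∀ h ∈ H, ∀ g ∈ O, h * g * h⁻¹ ∈ O := by
      rintro h hh g ⟨hg, hg1⟩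
      refine ⟨mul_mem (mul_mem hh hg) (inv_mem hh), fun w hw => ?_⟩
      have h1 : h⁻¹ * w * h ∈ B o := by
        have := hHB h⁻¹ (inv_mem hh) w hw
        rwa [inv_inv] at this
      have h2 := hHK h hh _ (hg1 _ h1)
      have e : h * (g * (h⁻¹ * w * h) * g⁻¹ * (h⁻¹ * w * h)⁻¹) * h⁻¹ =
          h * g * h⁻¹ * w * (h * g * h⁻¹)⁻¹ * w⁻¹ := by group
      rwa [e] at h2
    intro h hh
    rw [mem_normalizer_iff]
    intro g
    refine ⟨key h hh g, fun hg => ?_⟩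
    have h1 := key h⁻¹ (inv_mem hh) _ hg
    have e : h⁻¹ * (h * g * h⁻¹) * h⁻¹⁻¹ = g := by group
    rwa [e] at h1
  -- `I j ≤ O`
  obtain ⟨I, hI⟩ : ∃ I, I = B j ⊓ YY (B j) (C j) := ⟨_, rfl⟩
  have hIO : I ≤ O := by
    intro x hx
    rw [hI] at hx
    have hxH : x ∈ H := by
      rw [hH]; exact s.cV_le_NR (s.Y_V hx.2) o
    refine ⟨hxH, fun w hw => ?_⟩
    have h1 : x * w * x⁻¹ * w⁻¹ ∈ B o := mul_mem (hHB x hxH w hw) (inv_mem hw)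
    have h2 := inv_mem (s.comm_B_Y hw hx.2)
    have e : (w * x * w⁻¹ * x⁻¹)⁻¹ = x * w * x⁻¹ * w⁻¹ := by group
    rw [e] at h2
    rw [hK]
    exact ⟨h1, h2⟩
  have hI2 : IsPGroup 2 I := by
    intro x
    refine ⟨1, ?_⟩
    rw [pow_one, pow_two]
    have hIB : I ≤ B j := by rw [hI]; exact inf_le_left
    exact Subtype.ext (s.B_sq j x (hIB x.2))
  rw [← hH] at hTR
  obtain ⟨g, hg, hgT⟩ := OrbitS.exists_conj hT hTR hOH hn hIO hI2
  -- `b' = g⁻¹ b g`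
  have hgH : g ∈ H := hOH hg
  have hb'B : g⁻¹ * b * g ∈ B o := by
    have := hHB g⁻¹ (inv_mem hgH) b hb
    rwa [inv_inv] at this
  have hb'K : g⁻¹ * b * g * b⁻¹ ∈ K := by
    have := (inv_mem hg).2 b hb
    rwa [inv_inv] at this
  have hb'V : ¬ ∀ v ∈ V, g⁻¹ * b * g * v = v * (g⁻¹ * b * g) := by
    intro hall
    apply hbV
    intro v hv
    rw [hK] at hb'K
    have h1 := s.Y_V hb'K.2 v hv
    have h2 := hall v hv
    have e : b = (g⁻¹ * b * g * b⁻¹)⁻¹ * (g⁻¹ * b * g) := by group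
    have h3 : (g⁻¹ * b * g * b⁻¹)⁻¹ * v = v * (g⁻¹ * b * g * b⁻¹)⁻¹ := by
      rw [inv_mul_eq_iff_eq_mul, ← mul_assoc, h1, mul_inv_cancel_right]
    calc b * v = (g⁻¹ * b * g * b⁻¹)⁻¹ * (g⁻¹ * b * g) * v := by rw [← e]
      _ = (g⁻¹ * b * g * b⁻¹)⁻¹ * (g⁻¹ * b * g * v) := by group
      _ = (g⁻¹ * b * g * b⁻¹)⁻¹ * v * (g⁻¹ * b * g) := by rw [h2]; group
      _ = v * ((g⁻¹ * b * g * b⁻¹)⁻¹ * (g⁻¹ * b * g)) := by rw [h3]; group
      _ = v * b := by rw [← e]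
  refine s.mem_R_of_comm (Ne.symm hj) hb'B hb'V hu ?_
  have hu' := hgT u (by rw [hI]; exact ⟨hu, huY⟩)
  have h1 := hbT _ hu'
  have hgN : g⁻¹ ∈ normalizer (R o : Set G) := by rw [← hH]; exact inv_mem hgH
  have h2 := conj_mem_of_normalizer hgN h1
  have e : g⁻¹ * (b * (g * u * g⁻¹) * b⁻¹ * (g * u * g⁻¹)⁻¹) * g⁻¹⁻¹ =
      g⁻¹ * b * g * u * (g⁻¹ * b * g)⁻¹ * u⁻¹ := by group
  rwa [e] at h2

/-- `I o ≤ R o B₀` -/
theorem inf_le_self {T : Subgroup G} {o : ι} (hT : IsPGroup 2 T)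
    (hTR : ¬ 2 ∣ T.relIndex (normalizer (R o : Set G))) {b : G} (hb : b ∈ B o)
    (hbV : ¬ ∀ v ∈ V, b * v = v * b) (hbT : ∀ t ∈ T, b * t * b⁻¹ * t⁻¹ ∈ R o) {u : G} (hu : u ∈ B o)
    (huY : u ∈ YY (B o) (C o)) : ∃ r ∈ R o, ∃ x ∈ ⨅ k, B k, u = r * x := by
  obtain ⟨j, hj, -⟩ := s.third o o
  obtain ⟨m, -, -, x, hx, e⟩ := s.trans_B o j
  have hxN : x ∈ normalizer (V : Set G) := s.B_NV m hx
  have h1 : x * u * x⁻¹ ∈ B j := by rw [← s.cB x o j e]; exact conj_mem_cj hu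
  have h2 : x * u * x⁻¹ ∈ YY (B j) (C j) := by rw [← s.cY e]; exact conj_mem_cj huY
  obtain ⟨r, hr, y, hy, h3⟩ := s.inf_le_of_ne hj hT hTR hb hbV hbT h1 h2
  refine ⟨x⁻¹ * r * x, ?_, y, hy, ?_⟩
  · rw [← e, mem_cj] at hr
    exact hr
  · have hyx : x * y = y * x := s.B0_comm hy m x hx
    calc u = x⁻¹ * (x * u * x⁻¹) * x := by group
      _ = x⁻¹ * r * (y * x) := by rw [h3]; group
      _ = x⁻¹ * r * x * y := by rw [← hyx]; group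

/-- `Y o ≤ R o D` -/
theorem Y_le {T : Subgroup G} {o : ι} (hT : IsPGroup 2 T)
    (hTR : ¬ 2 ∣ T.relIndex (normalizer (R o : Set G))) {b : G} (hb : b ∈ B o)
    (hbV : ¬ ∀ v ∈ V, b * v = v * b) (hbT : ∀ t ∈ T, b * t * b⁻¹ * t⁻¹ ∈ R o) {y : G}
    (hy : y ∈ YY (B o) (C o)) : ∃ r ∈ R o, ∃ d ∈ ⨅ k, YY (B k) (C k), y = r * d := by
  obtain ⟨u, hu, huY, d, hd, rfl⟩ := s.exists_D hy
  obtain ⟨r, hr, x, hx, rfl⟩ := s.inf_le_self hT hTR hb hbV hbT (TT_le _ _ hu) huY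
  exact ⟨r, hr, x * d, mul_mem (s.B0_le_D hx) hd, by rw [mul_assoc]⟩

/-- `A ≤ Y o` with `|R o| < |A|` meets `D` -/
theorem exists_ne {T : Subgroup G} {o : ι} (hT : IsPGroup 2 T)
    (hTR : ¬ 2 ∣ T.relIndex (normalizer (R o : Set G))) {b : G} (hb : b ∈ B o)
    (hbV : ¬ ∀ v ∈ V, b * v = v * b) (hbT : ∀ t ∈ T, b * t * b⁻¹ * t⁻¹ ∈ R o) {A : Subgroup G}
    (hA : A ≤ YY (B o) (C o)) (hcard : Nat.card (R o) < Nat.card A) :
    ∃ z ∈ A, z ≠ 1 ∧ z ∈ ⨅ k, YY (B k) (C k) := by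
  classical
  have key : ∀ a : A, ∃ r : R o, ∃ d ∈ ⨅ k, YY (B k) (C k), (a : G) = r * d := fun a => by
    obtain ⟨r, hr, d, hd, e⟩ := s.Y_le hT hTR hb hbV hbT (hA a.2)
    exact ⟨⟨r, hr⟩, d, hd, e⟩
  choose f hf using key
  have hni : ¬ Function.Injective f := fun hi => by
    have := Nat.card_le_card_of_injective f hi
    omega
  rw [Function.Injective] at hni
  push Not at hni
  obtain ⟨x, y, hxy, hne⟩ := hni
  obtain ⟨d, hd, e1⟩ := hf x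
  obtain ⟨d', hd', e2⟩ := hf y
  refine ⟨(x : G)⁻¹ * y, mul_mem (inv_mem x.2) y.2, fun h => hne ?_, ?_⟩
  · exact Subtype.ext (inv_mul_eq_one.1 h)
  · have e3 : (x : G)⁻¹ * y = d⁻¹ * d' := by
      rw [e1, e2, hxy]; group
    rw [e3]
    exact mul_mem (inv_mem hd) hd'

/-- **THEOREM MIX-K** -/
theorem false_of {T : Subgroup G} {o : ι} (hT : IsPGroup 2 T)
    (hTR : ¬ 2 ∣ T.relIndex (normalizer (R o : Set G))) {b : G} (hb : b ∈ B o)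
    (hbV : ¬ ∀ v ∈ V, b * v = v * b) (hbT : ∀ t ∈ T, b * t * b⁻¹ * t⁻¹ ∈ R o) {A : Subgroup G}
    (hA : A ≤ YY (B o) (C o)) (hcard : Nat.card (R o) < Nat.card A)
    (hV : V ≤ ⨆ i, R i) {v : G} (hv : ¬ ∀ x ∈ V, v * x = x * v)
    (hz : ∀ z ∈ A, z ≠ 1 → R o ≤ O2 (centralizer ({z} : Set G)) ∧
      ∀ x ∈ O2 (centralizer ({z} : Set G)), v * x = x * v) : False := by
  obtain ⟨z, hzA, hz1, hzD⟩ := s.exists_ne hT hTR hb hbV hbT hA hcard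
  obtain ⟨h1, h2⟩ := hz z hzA hz1
  have hBz : ∀ k, B k ≤ centralizer ({z} : Set G) := fun k x hx => by
    rw [mem_centralizer_singleton_iff]
    exact (D_comm hzD k x hx).symm
  apply hv
  have h3 : V ≤ O2 (centralizer ({z} : Set G)) := by
    refine hV.trans (iSup_le fun i => ?_)
    obtain ⟨m, -, -, x, hx, e⟩ := s.trans_B o i
    rw [← e]
    have h4 := cj_mono (g := x) h1
    rwa [cj_eq_self_iff.2 (le_normalizer_O2 _ (hBz m hx))] at h4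
  exact fun x hx => h2 x (h3 hx)

end SideW

end Cfsg.Agent.Omega.MixOne
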