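import Cfsg.Agent.Omega.MixOne.OrbitS

/-!
# LEMMA ONE (helper19, bb OMEGA #23393): the abstract part

`s : SideW V R B C`, `T` a 2-group of odd index in `N_G(R o)`, `b ∈ B o` moves `V`, `[b, T] ≤ R o`.

* `SideW.mem_D_of_tor` : `d ∈ C(B o C o) ∩ C(T)`; `⟨B k⟩ ∩ N(R o)` and `C(d) ∩ N(R o)` are transitive on `R o - 1`, `|R o| > 2`.
  Then `d` commutes with all `B k`, `C k`.
-/

set_option autoImplicit false

namespace Cfsg.Agent.Omega.MixOne.SideW

open Subgroup Cfsg.Agent.Omega.BTwo Cfsg.Agent.Omega.Mix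

variable {G : Type*} [Group G] [Finite G] {ι : Type*} {V : Subgroup G} {R B C : ι → Subgroup G}
  (s : SideW V R B C)
include s

/-- **LEMMA ONE, (1), (2)**: `d ∈ Y o = R o D` lies in `D`. -/
theorem mem_D_of_tor {T : Subgroup G} {o : ι} (hT : IsPGroup 2 T) (hTN : T ≤ normalizer (R o : Set G))
    (hTR : ¬ 2 ∣ T.relIndex (normalizer (R o : Set G))) {b : G} (hb : b ∈ B o)
    (hbV : ¬ ∀ v ∈ V, b * v = v * b) (hbT : ∀ t ∈ T, b * t * b⁻¹ * t⁻¹ ∈ R o) (h3 : 2 < Nat.card (R o))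
    (h2 : 2 ∣ Nat.card (R o))
    (tor : ∀ r ∈ R o, r ≠ 1 → ∀ r' ∈ R o, r' ≠ 1 →
      ∃ x ∈ ⨆ k, B k, x ∈ normalizer (R o : Set G) ∧ x * r * x⁻¹ = r') {d : G}
    (hd : d ∈ YY (B o) (C o)) (hTd : ∀ t ∈ T, t * d = d * t)
    (tor' : ∀ r ∈ R o, r ≠ 1 → ∀ r' ∈ R o, r' ≠ 1 →
      ∃ t, t * d = d * t ∧ t ∈ normalizer (R o : Set G) ∧ t * r * t⁻¹ = r') :
    d ∈ ⨅ k, YY (B k) (C k) := by
  obtain ⟨r, hr, e, he, hde⟩ := s.Y_le hT hTR hb hbV hbT hd
  by_cases hr1 : r = 1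
  · rw [hde, hr1, one_mul]; exact he
  exfalso
  have heX : ∀ x ∈ ⨆ k, B k, x * e = e * x := by
    have h1 : ⨆ k, B k ≤ centralizer ({e} : Set G) := iSup_le fun k x hx => by
      rw [mem_centralizer_singleton_iff]
      exact (D_comm he k x hx).symm
    exact fun x hx => mem_centralizer_singleton_iff.1 (h1 hx)
  have hRc : ∀ x ∈ R o, ∀ y ∈ R o, x * y = y * x := fun x hx y hy =>
    s.B_comm o x (s.R_B o hx) y (s.R_B o hy)
  have hRs : ∀ x ∈ R o, x * x = 1 := fun x hx => s.B_sq o x (s.R_B o hx)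
  have hN : ∀ {g x : G}, g ∈ normalizer (R o : Set G) → x ∈ R o → g * x * g⁻¹ ∈ R o := fun {g x} hg hx =>
    (mem_normalizer_iff.1 hg x).1 hx
  -- `Γ`
  let Γ : Subgroup G :=
    { carrier := {g | g ∈ normalizer (R o : Set G) ∧ g * d * g⁻¹ * d⁻¹ ∈ R o}
      one_mem' := ⟨one_mem _, by
        have e1 : (1 : G) * d * 1⁻¹ * d⁻¹ = 1 := by group
        rw [e1]; exact one_mem _⟩
      mul_mem' := by
        rintro g h ⟨hg, hg1⟩ ⟨hh, hh1⟩
        refine ⟨mul_mem hg hh, ?_⟩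
        have e1 : g * h * d * (g * h)⁻¹ * d⁻¹ = g * (h * d * h⁻¹ * d⁻¹) * g⁻¹ * (g * d * g⁻¹ * d⁻¹) := by group
        rw [e1]
        exact mul_mem (hN hg hh1) hg1
      inv_mem' := by
        rintro g ⟨hg, hg1⟩
        refine ⟨inv_mem hg, ?_⟩
        have h1 := hN (inv_mem hg) (inv_mem hg1)
        have e1 : g⁻¹ * (g * d * g⁻¹ * d⁻¹)⁻¹ * g⁻¹⁻¹ = g⁻¹ * d * g⁻¹⁻¹ * d⁻¹ := by group
        rwa [e1] at h1 }
  have hΓN : Γ ≤ normalizer (R o : Set G) := fun g hg => hg.1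
  -- `Γ` is transitive on `R o * d`
  have hx1 : ∀ r₁ ∈ R o, r₁ ≠ r → ∃ g ∈ Γ, g * d * g⁻¹ = r₁ * d := by
    intro r₁ hr₁ hne
    have h1 : r₁ * r ≠ 1 := by
      intro h
      apply hne
      calc r₁ = r₁ * (r * r) := by rw [hRs r hr, mul_one]
        _ = r₁ * r * r := by group
        _ = r := by rw [h, one_mul]
    obtain ⟨x, hx, hxN, hxr⟩ := tor r hr hr1 _ (mul_mem hr₁ hr) h1
    have h2 : x * d * x⁻¹ = r₁ * d := by
      calc x * d * x⁻¹ = x * r * x⁻¹ * (x * e * x⁻¹) := by rw [hde]; group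
        _ = r₁ * r * e := by rw [hxr, heX x hx, mul_inv_cancel_right]
        _ = r₁ * d := by rw [hde]; group
    refine ⟨x, ⟨hxN, ?_⟩, h2⟩
    rw [h2, mul_inv_cancel_right]
    exact hr₁
  have htr : ∀ r₁ ∈ R o, ∃ g ∈ Γ, g * d * g⁻¹ = r₁ * d := by
    intro r₁ hr₁
    by_cases hne : r₁ = r
    · -- another element of `R o`
      obtain ⟨r₂, hr₂, hr₂1, hr₂r⟩ : ∃ r₂ ∈ R o, r₂ ≠ 1 ∧ r₂ ≠ r := by
        by_contra hcon
        push Not at hcon
        have h4 : (R o : Set G) ⊆ {1, r} := by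
          intro x hx
          by_cases hx1 : x = 1
          · left; exact hx1
          · right; exact hcon x hx hx1
        have h5 := Set.ncard_le_ncard h4 (Set.toFinite _)
        rw [← Nat.card_coe_set_eq] at h5
        have h6 : ({1, r} : Set G).ncard ≤ 2 := Set.ncard_insert_le _ _ |>.trans (by rw [Set.ncard_singleton])
        have h7 : Nat.card (R o : Set G) = Nat.card (R o) := rfl
        omega
      obtain ⟨g, hg, hgd⟩ := hx1 r₂ hr₂ hr₂r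
      obtain ⟨t, htd, htN, htr⟩ := tor' r₂ hr₂ hr₂1 r hr hr1
      have h1 : t * g * d * (t * g)⁻¹ = r₁ * d := by
        calc t * g * d * (t * g)⁻¹ = t * (g * d * g⁻¹) * t⁻¹ := by group
          _ = t * r₂ * t⁻¹ * (t * d * t⁻¹) := by rw [hgd]; group
          _ = r₁ * d := by rw [htr, htd, mul_inv_cancel_right, hne]
      refine ⟨t * g, ⟨mul_mem htN hg.1, ?_⟩, h1⟩
      rw [h1, mul_inv_cancel_right]
      exact hr₁
    · exact hx1 r₁ hr₁ hne
  choose! f hfΓ hfd using htr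
  set Cd : Subgroup G := Γ ⊓ centralizer ({d} : Set G) with hCd
  have hCΓ : Cd ≤ Γ := inf_le_left
  have hTC : T ≤ Cd := by
    intro t ht
    refine ⟨⟨hTN ht, ?_⟩, mem_centralizer_singleton_iff.2 (hTd t ht)⟩
    rw [hTd t ht, mul_inv_cancel_right, mul_inv_cancel]
    exact one_mem _
  -- `|Γ : Cd| = |R o|`
  have hcard : Cd.relIndex Γ = Nat.card (R o) := by
    rw [relIndex, index_eq_card]
    symm
    refine Nat.card_eq_of_bijective
      (fun x : R o => ((⟨f x, hfΓ x x.2⟩ : Γ) : Γ ⧸ Cd.subgroupOf Γ)) ⟨?_, ?_⟩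
    · intro x y hxy
      have h1 := QuotientGroup.eq.1 hxy
      have h4 : (f x)⁻¹ * f y * d = d * ((f x)⁻¹ * f y) :=
        mem_centralizer_singleton_iff.1 (mem_subgroupOf.1 h1).2
      have h5 : f x * d * (f x)⁻¹ = f y * d * (f y)⁻¹ := by
        calc f x * d * (f x)⁻¹ = f x * (d * ((f x)⁻¹ * f y)) * (f y)⁻¹ := by group
          _ = f x * ((f x)⁻¹ * f y * d) * (f y)⁻¹ := by rw [h4]
          _ = f y * d * (f y)⁻¹ := by group
      rw [hfd x x.2, hfd y y.2] at h5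
      exact Subtype.ext (mul_right_cancel h5)
    · intro q
      obtain ⟨⟨g, hg⟩, rfl⟩ := QuotientGroup.mk_surjective q
      refine ⟨⟨g * d * g⁻¹ * d⁻¹, hg.2⟩, ?_⟩
      refine QuotientGroup.eq.2 (mem_subgroupOf.2 ?_)
      have h1 := hfd _ hg.2
      rw [inv_mul_cancel_right] at h1
      refine mem_inf.2 ⟨mul_mem (inv_mem (hfΓ _ hg.2)) hg, mem_centralizer_singleton_iff.2 ?_⟩
      change (f (g * d * g⁻¹ * d⁻¹))⁻¹ * g * d = d * ((f (g * d * g⁻¹ * d⁻¹))⁻¹ * g)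
      set y := f (g * d * g⁻¹ * d⁻¹) with hy
      calc y⁻¹ * g * d = y⁻¹ * (g * d * g⁻¹) * g := by group
        _ = y⁻¹ * (y * d * y⁻¹) * g := by rw [h1]
        _ = d * (y⁻¹ * g) := by group
  apply hTR
  have h4 := relIndex_mul_relIndex T Cd Γ hTC hCΓ
  have h5 := relIndex_mul_relIndex T Γ _ (hTC.trans hCΓ) hΓN
  rw [← h5, ← h4, hcard]
  exact h2.trans ((dvd_mul_left _ _).trans (dvd_mul_right _ _))

end Cfsg.Agent.Omega.MixOne.SideW
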