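import Cfsg.Agent.Omega.Mix.Defs

/-!
# `MixedW` : a mixed mutual pair in normal form, without the hypothesis `Ω₁(Z(S)) ≤ R`

This is what is available in II.0h1 (`V_i := [V_{P_i}, O²(P_i)]`, `C_{V_{P_i}}(O²(P_i)) ≠ 1`).
-/

set_option autoImplicit false

namespace Cfsg.Agent.Omega.MixOne

open Subgroup Cfsg.Agent.Omega.BTwo Cfsg.Agent.Omega.Mix

variable {G : Type*} [Group G]

/-- `Mix.MixedN` without `Ω₁(Z(S)) ≤ R` -/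
structure MixedW {F₁ F₂ : Type*} [Field F₁] [Field F₂] {V₁ V₂ N₁ N₂ : Subgroup G} (M₁ : RMod F₁ V₁ N₁)
    (M₂ : RMod F₂ V₂ N₂) (R : Subgroup G) : Prop where
  line₁ : ∃ w, w ≠ 0 ∧ R = M₁.line w
  line₂ : ∃ w, w ≠ 0 ∧ R = M₂.line w
  sylow : ∃ S : Sylow 2 G, (S : Subgroup G) ≤ N₁ ∧ (S : Subgroup G) ≤ N₂ ∧ (S : Subgroup G) ≤ normalizer (R : Set G)
  char : ∀ K : Subgroup G, IsPGroup 2 K → K ≠ ⊥ → Char2 (normalizer (K : Set G))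
  comm₁ : ∀ a ∈ LL V₁ R R, ∀ b ∈ LL V₁ R R, a * b = b * a
  comm₂ : ∀ a ∈ LL V₂ R R, ∀ b ∈ LL V₂ R R, a * b = b * a
  ne : ∃ a ∈ LL V₁ R R, ∃ b ∈ LL V₂ R R, a * b ≠ b * a

variable {F₁ F₂ : Type*} [Field F₁] [Field F₂] {V₁ V₂ N₁ N₂ : Subgroup G} {M₁ : RMod F₁ V₁ N₁}
  {M₂ : RMod F₂ V₂ N₂} {R : Subgroup G}

theorem MixedW.symm (m : MixedW M₁ M₂ R) : MixedW M₂ M₁ R where
  line₁ := m.line₂
  line₂ := m.line₁
  sylow := by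
    obtain ⟨S, h1, h2, h3⟩ := m.sylow
    exact ⟨S, h2, h1, h3⟩
  char := m.char
  comm₁ := m.comm₂
  comm₂ := m.comm₁
  ne := by
    obtain ⟨a, ha, b, hb, h⟩ := m.ne
    exact ⟨b, hb, a, ha, fun h1 => h h1.symm⟩

theorem toW (m : MixedN M₁ M₂ R) : MixedW M₁ M₂ R where
  line₁ := m.line₁
  line₂ := m.line₂
  sylow := by
    obtain ⟨S, h1, h2, h3, -⟩ := m.sylow
    exact ⟨S, h1, h2, h3⟩
  char := m.char
  comm₁ := m.comm₁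
  comm₂ := m.comm₂
  ne := m.ne

end Cfsg.Agent.Omega.MixOne
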