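import Cfsg.Agent.Omega.MixOne.SideW

/-!
# TEXT MIX without the fixed point hypothesis (bb OMEGA #13275, (3), (5) - (7)): the two sides together

`TwoW` : both sides (`SideW`), `C_V(B i) = R i`, a Sylow 2-subgroup `S` of `G` in `ST V₁ R₁`, `ST V₂ R₂`, `N(R)`, NL.
`TwoW.Y_isPGroup` (3), `TwoW.Y_sq` (5), `TwoW.exists_RD` : `C_G(W₁ W₂) = R · D` (6) (these for all `q`);
`TwoW.YY_eq` : `C_G(W₁ W₂) = R` when both sides have a torus element without fixed points on `R` (`q ≥ 4`);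
`TwoW.center_le` : `Z(S) ≤ R`;
`TwoW.side₁`, `TwoW.side₂` : `Mix.Side` holds, i.e. the fixed point hypothesis of TEXT MIX is a consequence.
-/

set_option autoImplicit false

namespace Cfsg.Agent.Omega.MixOne

open Subgroup Cfsg.Agent.Omega.BTwo Cfsg.Agent.Omega.Mix

variable {G : Type*} [Group G] {ι κ : Type*}

theorem relIndex_sup_of_normalizes [Finite G] {S K : Subgroup G} (hK : S ≤ normalizer (K : Set G)) :
    S.relIndex K = S.relIndex (S ⊔ K) := by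
  set J := S ⊔ K with hJ
  have hJN : J ≤ normalizer (K : Set G) := sup_le hK le_normalizer
  have : (K.subgroupOf J).Normal := normal_subgroupOf_of_le_normalizer hJN
  have hSJ : S ≤ J := le_sup_left
  have hKJ : K ≤ J := le_sup_right
  have h1 : (K.subgroupOf J).relIndex ((S.subgroupOf J) ⊔ (K.subgroupOf J)) =
      (K.subgroupOf J).relIndex (S.subgroupOf J) := relIndex_sup_right _ _
  have h2 : (S.subgroupOf J) ⊔ (K.subgroupOf J) = ⊤ := by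
    rw [← subgroupOf_sup hSJ hKJ, ← hJ, subgroupOf_self]
  rw [h2, relIndex_top_right, relIndex_subgroupOf hSJ] at h1
  have e1 : K.relIndex J = K.relIndex S := h1
  have c1 : Nat.card K * K.relIndex J = Nat.card J := by
    rw [← relIndex_bot_left, ← relIndex_bot_left]
    exact relIndex_mul_relIndex _ _ _ bot_le hKJ
  have c2 : Nat.card S * S.relIndex J = Nat.card J := by
    rw [← relIndex_bot_left, ← relIndex_bot_left]
    exact relIndex_mul_relIndex _ _ _ bot_le hSJ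
  have c3 : Nat.card (K ⊓ S : Subgroup G) * K.relIndex S = Nat.card S := by
    rw [← inf_relIndex_right, ← relIndex_bot_left, ← relIndex_bot_left]
    exact relIndex_mul_relIndex _ _ _ bot_le inf_le_right
  have c4 : Nat.card (K ⊓ S : Subgroup G) * S.relIndex K = Nat.card K := by
    rw [inf_comm, ← inf_relIndex_right, ← relIndex_bot_left, ← relIndex_bot_left]
    exact relIndex_mul_relIndex _ _ _ bot_le inf_le_right
  have hpos : 0 < Nat.card (K ⊓ S : Subgroup G) := Nat.card_pos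
  have hposS : 0 < Nat.card S := Nat.card_pos
  have hpos3 : 0 < K.relIndex S := by
    rcases Nat.eq_zero_or_pos (K.relIndex S) with h | h
    · rw [h, mul_zero] at c3; omega
    · exact h
  rw [e1, ← c2] at c1
  rw [← c4, ← c3] at c1
  have h5 : (Nat.card (K ⊓ S : Subgroup G) * K.relIndex S) * S.relIndex K =
      (Nat.card (K ⊓ S : Subgroup G) * K.relIndex S) * S.relIndex J := by
    rw [← c1]; ring
  exact Nat.eq_of_mul_eq_mul_left (Nat.mul_pos hpos hpos3) h5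

/-- `S` centralises a nontrivial element of each nontrivial 2-subgroup normalised by `S` -/
theorem exists_fixed [Finite G] (S : Sylow 2 G) {K : Subgroup G} (hK : IsPGroup 2 K)
    (hSK : (S : Subgroup G) ≤ normalizer (K : Set G)) (hne : K ≠ ⊥) :
    ∃ z : G, z ≠ 1 ∧ z ∈ K ∧ ∀ x ∈ (S : Subgroup G), z * x = x * z := by
  have : Fact (Nat.Prime 2) := ⟨Nat.prime_two⟩
  let _inst : MulAction (S : Subgroup G) K :=
    { smul := fun x k => ⟨(x : G) * k * (x : G)⁻¹, conj_mem_of_normalizer (hSK x.2) k.2⟩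
      one_smul := fun k => Subtype.ext (by
        change ((1 : (S : Subgroup G)) : G) * k * ((1 : (S : Subgroup G)) : G)⁻¹ = k
        simp)
      mul_smul := fun x y k => Subtype.ext (by
        change ((x * y : (S : Subgroup G)) : G) * k * ((x * y : (S : Subgroup G)) : G)⁻¹ =
          (x : G) * ((y : G) * k * (y : G)⁻¹) * (x : G)⁻¹
        rw [Subgroup.coe_mul]
        group) }
  have hsmul : ∀ (x : (S : Subgroup G)) (k : K), ((x • k : K) : G) = (x : G) * k * (x : G)⁻¹ := fun _ _ => rfl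
  have hS : IsPGroup 2 (S : Subgroup G) := S.isPGroup'
  have h2 : 2 ∣ Nat.card K := by
    obtain ⟨n, hn⟩ := (IsPGroup.iff_card).1 hK
    rw [hn]
    refine dvd_pow_self 2 fun h0 => hne ?_
    rw [h0, pow_zero] at hn
    exact eq_bot_of_card_eq K hn
  have h1 : (1 : K) ∈ MulAction.fixedPoints (S : Subgroup G) K := by
    intro x
    apply Subtype.ext
    rw [hsmul]
    simp
  obtain ⟨z, hz, hz1⟩ := hS.exists_fixed_point_of_prime_dvd_card_of_fixed_point K h2 h1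
  refine ⟨z, fun h => hz1 (Subtype.ext h.symm), z.2, fun x hx => ?_⟩
  have h3 := congrArg Subtype.val (hz ⟨x, hx⟩)
  rw [hsmul] at h3
  exact (mul_inv_eq_iff_eq_mul.1 h3).symm

/-- the two sides of a mixed mutual pair with `W₁`, `W₂` abelian (no hypothesis on `Z(S)`) -/
structure TwoW (V₁ V₂ : Subgroup G) (R₁ B₁ C₁ : ι → Subgroup G) (R₂ B₂ C₂ : κ → Subgroup G) (i : ι) (j : κ)
    (S : Sylow 2 G) : Prop where
  s₁ : SideW V₁ R₁ B₁ C₁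
  s₂ : SideW V₂ R₂ B₂ C₂
  hR : R₁ i = R₂ j
  hB : B₁ i = C₂ j
  hC : C₁ i = B₂ j
  ch : Char2 (normalizer (R₁ i : Set G))
  NL : ∀ K : Subgroup G, IsPGroup 2 K → ST V₁ R₁ ≤ normalizer (K : Set G) →
    ST V₂ R₂ ≤ normalizer (K : Set G) → normalizer (R₁ i : Set G) ≤ normalizer (K : Set G) → K = ⊥
  SV₁ : (S : Subgroup G) ≤ ST V₁ R₁
  SV₂ : (S : Subgroup G) ≤ ST V₂ R₂
  SR : (S : Subgroup G) ≤ normalizer (R₁ i : Set G)
  gen₁ : ∀ K : Subgroup G, (∀ h ∈ normalizer (R₁ i : Set G), cj h V₁ ≤ K) → C₁ i ≤ K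
  gen₂ : ∀ K : Subgroup G, (∀ h ∈ normalizer (R₁ i : Set G), cj h V₂ ≤ K) → B₁ i ≤ K

variable {V₁ V₂ : Subgroup G} {R₁ B₁ C₁ : ι → Subgroup G} {R₂ B₂ C₂ : κ → Subgroup G} {i : ι} {j : κ} {S : Sylow 2 G}

namespace TwoW

theorem symm (t : TwoW V₁ V₂ R₁ B₁ C₁ R₂ B₂ C₂ i j S) : TwoW V₂ V₁ R₂ B₂ C₂ R₁ B₁ C₁ j i S where
  s₁ := t.s₂
  s₂ := t.s₁
  hR := t.hR.symm
  hB := t.hC.symm
  hC := t.hB.symm
  ch := by rw [← t.hR]; exact t.ch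
  NL := by
    intro K hK h1 h2 h3
    rw [← t.hR] at h3
    exact t.NL K hK h2 h1 h3
  SV₁ := t.SV₂
  SV₂ := t.SV₁
  SR := by rw [← t.hR]; exact t.SR
  gen₁ := by
    intro K hK
    rw [← t.hR] at hK
    rw [← t.hB]
    exact t.gen₂ K hK
  gen₂ := by
    intro K hK
    rw [← t.hR] at hK
    rw [← t.hC]
    exact t.gen₁ K hK

variable (t : TwoW V₁ V₂ R₁ B₁ C₁ R₂ B₂ C₂ i j S)
include t

theorem YY_eq_YY : YY (B₁ i) (C₁ i) = YY (B₂ j) (C₂ j) := by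
  rw [YY, YY, t.hB, t.hC, sup_comm]

/-- **(3)** `C_G(W₁ W₂)` is a 2-group -/
theorem Y_isPGroup [Finite G] : IsPGroup 2 (YY (B₁ i) (C₁ i)) := by
  set D := OD (YY (B₁ i) (C₁ i)) with hD
  have h1 : ST V₁ R₁ ≤ normalizer (D : Set G) := t.s₁.nOD i
  have h2 : ST V₂ R₂ ≤ normalizer (D : Set G) := by
    rw [hD, t.YY_eq_YY]; exact t.s₂.nOD j
  have h3 : normalizer (R₁ i : Set G) ≤ normalizer (D : Set G) := by
    intro g hg
    rw [← cj_eq_self_iff, hD, cj_OD, cj_eq_self_iff.2 (t.s₁.nY i hg)]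
  have hN : normalizer (D : Set G) ≤ normalizer (O2 D : Set G) := by
    intro g hg
    rw [← cj_eq_self_iff, cj_O2, cj_eq_self_iff.2 hg]
  have h4 : O2 D = ⊥ := t.NL _ (O2_isPGroup D) (h1.trans hN) (h2.trans hN) (h3.trans hN)
  have hDR : D ≤ normalizer (R₁ i : Set G) := by
    intro x hx
    exact t.s₁.cV_le_NR (t.s₁.Y_V (OD_le _ hx)) i
  set Q := O2 (normalizer (R₁ i : Set G)) with hQ
  have hQR : Q ≤ normalizer (R₁ i : Set G) := O2_le _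
  have h5 : D ⊓ Q ≤ O2 D := by
    refine le_O2_of_normal inf_le_left ((O2_isPGroup _).to_le inf_le_right) ?_
    rintro g hg a ⟨haD, haQ⟩
    exact ⟨D.mul_mem (D.mul_mem hg haD) (D.inv_mem hg),
      conj_mem_of_normalizer (le_normalizer_O2 _ (hDR hg)) haQ⟩
  rw [h4] at h5
  have h6 : D ≤ Q := by
    intro d hd
    refine t.ch d (hDR hd) fun q hq => ?_
    apply comm_of_eq_one
    have : d * q * d⁻¹ * q⁻¹ ∈ D ⊓ Q := by
      refine ⟨?_, Q.mul_mem (conj_mem_of_normalizer (le_normalizer_O2 _ (hDR hd)) hq) (Q.inv_mem hq)⟩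
      have e : d * q * d⁻¹ * q⁻¹ = d * (q * d⁻¹ * q⁻¹) := by group
      rw [e]
      exact D.mul_mem hd (conj_mem_of_normalizer (h3 (hQR hq)) (D.inv_mem hd))
    exact mem_bot.1 (h5 this)
  have h7 : D = ⊥ := by
    rw [eq_bot_iff]
    exact fun d hd => h5 ⟨hd, h6 hd⟩
  exact isPGroup_of_OD h7

/-- `⟨y² : y ∈ Y⟩` -/
def Sq (Y : Subgroup G) : Subgroup G := closure {x | ∃ y ∈ Y, x = y * y}

omit t in
theorem cj_Sq_le (g : G) (Y : Subgroup G) : cj g (Sq Y) ≤ Sq (cj g Y) := by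
  rw [Sq, cj, MonoidHom.map_closure, closure_le]
  rintro _ ⟨_, ⟨y, hy, rfl⟩, rfl⟩
  refine subset_closure ⟨g * y * g⁻¹, conj_mem_cj hy, ?_⟩
  change g * (y * y) * g⁻¹ = _
  group

omit t in
theorem cj_Sq (g : G) (Y : Subgroup G) : cj g (Sq Y) = Sq (cj g Y) := by
  refine le_antisymm (cj_Sq_le g Y) ?_
  have := cj_mono (g := g) (cj_Sq_le g⁻¹ (cj g Y))
  rwa [cj_cj_inv, cj_inv_cj] at this

omit t in
theorem Sq_eq {V : Subgroup G} {R B C : ι → Subgroup G} (s : SideW V R B C) (i : ι) :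
    Sq (YY (B i) (C i)) = Sq (⨅ k, YY (B k) (C k)) := by
  have key : ∀ y ∈ YY (B i) (C i), ∃ d ∈ ⨅ k, YY (B k) (C k), y * y = d * d := by
    intro y hy
    obtain ⟨u, hu, -, d, hd, rfl⟩ := s.exists_D hy
    refine ⟨d, hd, ?_⟩
    have h1 := SideW.D_comm hd i u (TT_le _ _ hu)
    calc u * d * (u * d) = u * (d * u) * d := by group
      _ = (u * u) * (d * d) := by rw [h1]; group
      _ = d * d := by rw [s.B_sq i u (TT_le _ _ hu), one_mul]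
  apply le_antisymm
  · rw [Sq, closure_le]
    rintro _ ⟨y, hy, rfl⟩
    obtain ⟨d, hd, e⟩ := key y hy
    exact subset_closure ⟨d, hd, e⟩
  · rw [Sq, closure_le]
    rintro _ ⟨d, hd, rfl⟩
    exact subset_closure ⟨d, mem_iInf.1 hd i, rfl⟩

/-- **(5)** `Y` has exponent 2 -/
theorem Y_sq [Finite G] {y : G} (hy : y ∈ YY (B₁ i) (C₁ i)) : y * y = 1 := by
  have h1 : ST V₁ R₁ ≤ normalizer (Sq (YY (B₁ i) (C₁ i)) : Set G) := by
    intro g hg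
    rw [Sq_eq t.s₁ i, ← cj_eq_self_iff, cj_Sq, cj_eq_self_iff.2 (t.s₁.nD hg)]
  have h2 : ST V₂ R₂ ≤ normalizer (Sq (YY (B₁ i) (C₁ i)) : Set G) := by
    intro g hg
    rw [t.YY_eq_YY, Sq_eq t.s₂ j, ← cj_eq_self_iff, cj_Sq, cj_eq_self_iff.2 (t.s₂.nD hg)]
  have h3 : normalizer (R₁ i : Set G) ≤ normalizer (Sq (YY (B₁ i) (C₁ i)) : Set G) := by
    intro g hg
    rw [← cj_eq_self_iff, cj_Sq, cj_eq_self_iff.2 (t.s₁.nY i hg)]
  have h4 : Sq (YY (B₁ i) (C₁ i)) ≤ YY (B₁ i) (C₁ i) := by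
    rw [Sq, closure_le]
    rintro _ ⟨y, hy, rfl⟩
    exact mul_mem hy hy
  have h5 := t.NL _ (t.Y_isPGroup.to_le h4) h1 h2 h3
  have h6 : y * y ∈ Sq (YY (B₁ i) (C₁ i)) := subset_closure ⟨y, hy, rfl⟩
  rw [h5] at h6
  exact mem_bot.1 h6

theorem Y_comm [Finite G] {x y : G} (hx : x ∈ YY (B₁ i) (C₁ i)) (hy : y ∈ YY (B₁ i) (C₁ i)) : x * y = y * x := by
  have h1 := t.Y_sq (mul_mem hx hy)
  have hx1 : x⁻¹ = x := inv_eq_of_mul_eq_one_left (t.Y_sq hx)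
  have hy1 : y⁻¹ = y := inv_eq_of_mul_eq_one_left (t.Y_sq hy)
  have h2 : (x * y)⁻¹ = x * y := inv_eq_of_mul_eq_one_left h1
  rw [mul_inv_rev, hx1, hy1] at h2
  exact h2.symm

/-- `V₂ ∩ Y = R` -/
theorem V₂_Y {v : G} (hv : v ∈ V₂) (hy : v ∈ YY (B₁ i) (C₁ i)) : v ∈ R₁ i := by
  rw [t.hR]
  refine t.s₂.VB j v hv fun b hb => ?_
  rw [← t.hC] at hb
  exact ((mem_YY.1 hy).2 b hb).symm

/-- the elements of `N(R)` which centralise `B i / (Y ∩ B i)` -/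
def Oo (R B Y : Subgroup G) : Subgroup G where
  carrier := {g | g ∈ normalizer (R : Set G) ∧ g ∈ normalizer (B : Set G) ∧ g ∈ normalizer (Y : Set G) ∧
    ∀ b ∈ B, g * b * g⁻¹ * b⁻¹ ∈ Y}
  one_mem' := by
    refine ⟨one_mem _, one_mem _, one_mem _, fun b _ => ?_⟩
    have : 1 * b * 1⁻¹ * b⁻¹ = 1 := by group
    rw [this]; exact one_mem _
  mul_mem' := by
    rintro g h ⟨g1, g2, g3, g4⟩ ⟨h1, h2, h3, h4⟩
    refine ⟨mul_mem g1 h1, mul_mem g2 h2, mul_mem g3 h3, fun b hb => ?_⟩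
    have e : g * h * b * (g * h)⁻¹ * b⁻¹ = g * (h * b * h⁻¹ * b⁻¹) * g⁻¹ * (g * b * g⁻¹ * b⁻¹) := by group
    rw [e]; exact mul_mem (conj_mem_of_normalizer g3 (h4 b hb)) (g4 b hb)
  inv_mem' := by
    rintro g ⟨g1, g2, g3, g4⟩
    refine ⟨inv_mem g1, inv_mem g2, inv_mem g3, fun b hb => ?_⟩
    have e : g⁻¹ * b * g⁻¹⁻¹ * b⁻¹ = g⁻¹ * (g * b * g⁻¹ * b⁻¹)⁻¹ * g := by group
    rw [e]; exact conj_inv_mem_of_normalizer g3 (inv_mem (g4 b hb))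

omit t in
theorem mem_Oo {R B Y : Subgroup G} {g : G} : g ∈ Oo R B Y ↔ g ∈ normalizer (R : Set G) ∧
    g ∈ normalizer (B : Set G) ∧ g ∈ normalizer (Y : Set G) ∧ ∀ b ∈ B, g * b * g⁻¹ * b⁻¹ ∈ Y := Iff.rfl

omit t in
/-- a subgroup normalised by the Sylow subgroup `S` of `G` : `S ∩ K` has odd index in `K` -/
theorem odd_relIndex [Finite G] (S : Sylow 2 G) {K : Subgroup G}
    (hK : (S : Subgroup G) ≤ normalizer (K : Set G)) : Odd (((S : Subgroup G) ⊓ K).relIndex K) := by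
  have h1 : ((S : Subgroup G) ⊓ K).relIndex K = (S : Subgroup G).relIndex K := inf_relIndex_right _ _
  have h2 : (S : Subgroup G).relIndex K ∣ (S : Subgroup G).index := by
    rw [relIndex_sup_of_normalizes hK]
    exact relIndex_dvd_index_of_le le_sup_left
  have h4 : ¬ 2 ∣ (S : Subgroup G).index := Sylow.not_dvd_index S
  rw [h1, ← Nat.not_even_iff_odd]
  intro he
  exact h4 ((even_iff_two_dvd.1 he).trans h2)

/-- the subgroup `C̃ = {x ∈ B i : [x, O] ≤ R}` -/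
def Ct (R B O : Subgroup G) (hB : ∀ a ∈ B, ∀ b ∈ B, a * b = b * a) (hRB : R ≤ B) : Subgroup G where
  carrier := {x | x ∈ B ∧ ∀ g ∈ O, x⁻¹ * g * x * g⁻¹ ∈ R}
  one_mem' := ⟨one_mem _, fun g _ => by
    have e : (1 : G)⁻¹ * g * 1 * g⁻¹ = 1 := by group
    rw [e]; exact one_mem _⟩
  mul_mem' := by
    rintro x y ⟨hx, hx'⟩ ⟨hy, hy'⟩
    refine ⟨mul_mem hx hy, fun g hg => ?_⟩
    have h1 := hx' g hg
    have e : (x * y)⁻¹ * g * (x * y) * g⁻¹ = y⁻¹ * (x⁻¹ * g * x * g⁻¹) * y * (y⁻¹ * g * y * g⁻¹) := by group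
    have h2 : y⁻¹ * (x⁻¹ * g * x * g⁻¹) * y = x⁻¹ * g * x * g⁻¹ := by
      rw [mul_assoc, hB _ (hRB h1) y hy]; group
    rw [e, h2]
    exact mul_mem h1 (hy' g hg)
  inv_mem' := by
    rintro x ⟨hx, hx'⟩
    refine ⟨inv_mem hx, fun g hg => ?_⟩
    have h1 := hx' g hg
    have e : x⁻¹⁻¹ * g * x⁻¹ * g⁻¹ = x * (x⁻¹ * g * x * g⁻¹)⁻¹ * x⁻¹ := by group
    rw [e, hB x hx _ (inv_mem (hRB h1)), mul_inv_cancel_right]
    exact inv_mem h1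

omit t in
theorem mem_Ct {R B O : Subgroup G} {hB : ∀ a ∈ B, ∀ b ∈ B, a * b = b * a} {hRB : R ≤ B} {x : G} :
    x ∈ Ct R B O hB hRB ↔ x ∈ B ∧ ∀ g ∈ O, x⁻¹ * g * x * g⁻¹ ∈ R := Iff.rfl

/-- **(6)** `B i ≤ (Y ∩ B i) C̃` -/
theorem B_le [Finite G] : B₁ i ≤ (YY (B₁ i) (C₁ i) ⊓ B₁ i) ⊔
    Ct (R₁ i) (B₁ i) (Oo (R₁ i) (B₁ i) (YY (B₁ i) (C₁ i))) (t.s₁.B_comm i) (t.s₁.R_B i) := by
  set Y := YY (B₁ i) (C₁ i) with hY
  set O := Oo (R₁ i) (B₁ i) Y with hO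
  set N := normalizer (R₁ i : Set G) with hN
  have hNB : N ≤ normalizer (B₁ i : Set G) := t.s₁.nB i
  have hNY : N ≤ normalizer (Y : Set G) := t.s₁.nY i
  have hV₂B : V₂ ≤ B₁ i := by rw [t.hB]; exact t.s₂.V_C j
  -- `O` is normal in `N(R)`
  have hNO : ∀ n ∈ N, ∀ g ∈ O, n * g * n⁻¹ ∈ O := by
    rintro n hn g ⟨g1, g2, g3, g4⟩
    refine ⟨mul_mem (mul_mem hn g1) (inv_mem hn), mul_mem (mul_mem (hNB hn) g2) (inv_mem (hNB hn)),
      mul_mem (mul_mem (hNY hn) g3) (inv_mem (hNY hn)), fun b hb => ?_⟩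
    have h1 := g4 _ (conj_inv_mem_of_normalizer (hNB hn) hb)
    have e : n * g * n⁻¹ * b * (n * g * n⁻¹)⁻¹ * b⁻¹ =
        n * (g * (n⁻¹ * b * n) * g⁻¹ * (n⁻¹ * b * n)⁻¹) * n⁻¹ := by group
    rw [e]; exact conj_mem_of_normalizer (hNY hn) h1
  have hSO : (S : Subgroup G) ≤ normalizer (O : Set G) := by
    intro g hg
    exact mem_normalizer_of_conj fun x hx => hNO g (t.SR hg) x hx
  -- averaging
  have key : ∀ w ∈ V₂, ∃ y ∈ Y ⊓ B₁ i, ∀ x ∈ O, (w * y)⁻¹ * x * (w * y) * x⁻¹ ∈ R₁ i := by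
    intro w hw
    have hwB := hV₂B hw
    have hcomm : ∀ x ∈ O, w⁻¹ * x * w * x⁻¹ ∈ Y ⊓ B₁ i := by
      rintro x ⟨x1, x2, x3, x4⟩
      have h1 := x4 w hwB
      have h2 : x * w * x⁻¹ * w⁻¹ ∈ B₁ i := mul_mem (conj_mem_of_normalizer x2 hwB) (inv_mem hwB)
      have e : w⁻¹ * x * w * x⁻¹ = x * w * x⁻¹ * w⁻¹ := by
        calc w⁻¹ * x * w * x⁻¹ = w⁻¹ * (x * w * x⁻¹ * w⁻¹) * w := by group
          _ = w⁻¹ * (w * (x * w * x⁻¹ * w⁻¹)) := by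
            rw [mul_assoc, t.s₁.B_comm i _ h2 w hwB]
          _ = x * w * x⁻¹ * w⁻¹ := by group
      rw [e]
      exact ⟨h1, h2⟩
    refine Avg.avg (X := O) (P := (S : Subgroup G) ⊓ O) (Y := Y ⊓ B₁ i) (D := R₁ i) inf_le_right
      (odd_relIndex S hSO) (le_inf (t.s₁.R_Y i) (t.s₁.R_B i)) ?_ ?_ ?_ ?_ hcomm ?_
    · rintro x ⟨x1, x2, x3, x4⟩ y ⟨hy1, hy2⟩
      exact ⟨conj_mem_of_normalizer x3 hy1, conj_mem_of_normalizer x2 hy2⟩
    · rintro x ⟨x1, x2, x3, x4⟩ y hy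
      exact conj_mem_of_normalizer x1 hy
    · rintro x ⟨hx1, hx2⟩ y hy
      rw [t.s₁.B_comm i x hx2 y (t.s₁.R_B i hy), mul_inv_cancel_right]
      exact hy
    · rintro y ⟨hy1, hy2⟩
      rw [t.s₁.B_sq i y hy2]
      exact one_mem _
    · rintro x ⟨hxS, hxO⟩
      have h1 := (hcomm x hxO).1
      have h2 : w⁻¹ * x * w * x⁻¹ ∈ V₂ := by
        have h3 := conj_mem_of_normalizer (ST_le _ _ (t.SV₂ hxS)) hw
        have e : w⁻¹ * x * w * x⁻¹ = w⁻¹ * (x * w * x⁻¹) := by group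
        rw [e]
        exact mul_mem (inv_mem hw) h3
      exact t.V₂_Y h2 h1
  refine t.gen₂ _ fun h hh => ?_
  rw [cj_le_iff]
  intro w hw
  obtain ⟨y, hy, hwy⟩ := key w hw
  have e : h * w * h⁻¹ = (h * (w * y) * h⁻¹) * (h * y * h⁻¹)⁻¹ := by group
  rw [e]
  refine mul_mem ?_ (inv_mem ?_)
  · refine (le_sup_right : _ ≤ (Y ⊓ B₁ i) ⊔ _) ?_
    rw [mem_Ct]
    refine ⟨conj_mem_of_normalizer (hNB hh) (mul_mem (hV₂B hw) hy.2), fun g hg => ?_⟩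
    have h1 : h⁻¹ * g * h ∈ O := by
      have := hNO h⁻¹ (inv_mem hh) g hg
      simpa using this
    have h2 := conj_mem_of_normalizer hh (hwy _ h1)
    have e2 : h * ((w * y)⁻¹ * (h⁻¹ * g * h) * (w * y) * (h⁻¹ * g * h)⁻¹) * h⁻¹ =
        (h * (w * y) * h⁻¹)⁻¹ * g * (h * (w * y) * h⁻¹) * g⁻¹ := by group
    rwa [e2] at h2
  · exact (le_sup_left : Y ⊓ B₁ i ≤ _)
      ⟨conj_mem_of_normalizer (hNY hh) hy.1, conj_mem_of_normalizer (hNB hh) hy.2⟩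

/-- **(6)** `Y ∩ T ≤ R B₀` at every point `k ≠ i` of `V₁` -/
theorem mem_RB0 [Finite G] {k : ι} (hk : k ≠ i) {y : G} (hy : y ∈ YY (B₁ k) (C₁ k)) (hyB : y ∈ B₁ k) :
    ∃ r ∈ R₁ k, ∃ x ∈ ⨅ m, B₁ m, y = r * x := by
  -- an element `b ∈ C̃` outside `C(V₁)`
  obtain ⟨b, hb, hbV⟩ : ∃ b ∈ Ct (R₁ i) (B₁ i) (Oo (R₁ i) (B₁ i) (YY (B₁ i) (C₁ i)))
      (t.s₁.B_comm i) (t.s₁.R_B i), ¬ ∀ v ∈ V₁, b * v = v * b := by
    by_contra hn
    push Not at hn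
    obtain ⟨b, hb, hbV⟩ := t.s₁.exists_move (Ne.symm hk)
    have h1 : B₁ i ≤ centralizer (V₁ : Set G) := by
      refine t.B_le.trans (sup_le ?_ ?_)
      · rintro x ⟨hx, -⟩
        exact mem_centralizer_iff.2 fun v hv => (t.s₁.Y_V hx v hv).symm
      · intro x hx
        exact mem_centralizer_iff.2 fun v hv => (hn x hx v hv).symm
    exact hbV fun v hv => (mem_centralizer_iff.1 (h1 hb) v hv).symm
  have hbB := (mem_Ct.1 hb).1
  -- `y ∈ O`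
  have hyN := t.s₁.cV_le_NR (t.s₁.Y_V hy) i
  have hyO : y ∈ Oo (R₁ i) (B₁ i) (YY (B₁ i) (C₁ i)) := by
    refine ⟨hyN, t.s₁.nB i hyN, t.s₁.nY i hyN, fun b' hb' => ?_⟩
    have := inv_mem (t.s₁.comm_B_Y hb' hy)
    have e : (b' * y * b'⁻¹ * y⁻¹)⁻¹ = y * b' * y⁻¹ * b'⁻¹ := by group
    rwa [e] at this
  have h1 := (mem_Ct.1 hb).2 y hyO
  have h2 : b * y * b⁻¹ * y⁻¹ ∈ R₁ i := by
    have hbi : b⁻¹ = b := inv_eq_of_mul_eq_one_left (t.s₁.B_sq i b hbB)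
    have e : b⁻¹ * y * b * y⁻¹ = b * y * b⁻¹ * y⁻¹ := by
      rw [hbi]
    rwa [e] at h1
  exact t.s₁.mem_R_of_comm (Ne.symm hk) hbB hbV hyB h2

/-- **(6)** `Y = R D` -/
theorem exists_RD [Finite G] {y : G} (hy : y ∈ YY (B₁ i) (C₁ i)) :
    ∃ r ∈ R₁ i, ∃ d ∈ ⨅ m, YY (B₁ m) (C₁ m), y = r * d := by
  obtain ⟨k, hk, -⟩ := t.s₁.third i i
  obtain ⟨m, hmi, hmk, x, hx, e⟩ := t.s₁.trans_B i k
  have hxN := t.s₁.B_le_ST m hx
  have hy' : x * y * x⁻¹ ∈ YY (B₁ k) (C₁ k) := by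
    rw [← t.s₁.cY e]; exact conj_mem_cj hy
  obtain ⟨u, hu, huY, d, hd, hud⟩ := t.s₁.exists_D hy'
  obtain ⟨r, hr, β, hβ, hrβ⟩ := t.mem_RB0 hk huY (TT_le _ _ hu)
  have hβD := t.s₁.B0_le_D hβ
  have e' : cj x⁻¹ (R₁ k) = R₁ i := by rw [← e, cj_inv_cj]
  refine ⟨x⁻¹ * r * x, ?_, x⁻¹ * (β * d) * x, ?_, ?_⟩
  · rw [← e']
    have := conj_mem_cj (g := x⁻¹) hr
    simpa using this
  · have := conj_mem_of_normalizer (inv_mem (t.s₁.nD hxN)) (mul_mem hβD hd)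
    simpa using this
  · have h1 : x * y * x⁻¹ = r * (β * d) := by rw [hud, hrβ, mul_assoc]
    calc y = x⁻¹ * (x * y * x⁻¹) * x := by group
      _ = x⁻¹ * (r * (β * d)) * x := by rw [h1]
      _ = x⁻¹ * r * x * (x⁻¹ * (β * d) * x) := by group

/-- the elements of `N(R)` centralising `Y / R` -/
def Kk (R Y : Subgroup G) : Subgroup G where
  carrier := {g | g ∈ normalizer (R : Set G) ∧ g ∈ normalizer (Y : Set G) ∧ ∀ y ∈ Y, g * y * g⁻¹ * y⁻¹ ∈ R}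
  one_mem' := by
    refine ⟨one_mem _, one_mem _, fun b _ => ?_⟩
    have : 1 * b * 1⁻¹ * b⁻¹ = 1 := by group
    rw [this]; exact one_mem _
  mul_mem' := by
    rintro g h ⟨g1, g3, g4⟩ ⟨h1, h3, h4⟩
    refine ⟨mul_mem g1 h1, mul_mem g3 h3, fun b hb => ?_⟩
    have e : g * h * b * (g * h)⁻¹ * b⁻¹ = g * (h * b * h⁻¹ * b⁻¹) * g⁻¹ * (g * b * g⁻¹ * b⁻¹) := by group
    rw [e]; exact mul_mem (conj_mem_of_normalizer g1 (h4 b hb)) (g4 b hb)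
  inv_mem' := by
    rintro g ⟨g1, g3, g4⟩
    refine ⟨inv_mem g1, inv_mem g3, fun b hb => ?_⟩
    have e : g⁻¹ * b * g⁻¹⁻¹ * b⁻¹ = g⁻¹ * (g * b * g⁻¹ * b⁻¹)⁻¹ * g := by group
    rw [e]; exact conj_inv_mem_of_normalizer g1 (inv_mem (g4 b hb))

/-- **(7)** `D = C_Y(K)`, `K = C_{N(R)}(Y/R)`, if some `τ ∈ X` normalises `R` without fixed points -/
theorem D_iff [Finite G] (τ : G) (hτ : τ ∈ ⨆ k, B₁ k) (hτN : τ ∈ normalizer (R₁ i : Set G))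
    (hτR : ∀ r ∈ R₁ i, τ * r = r * τ → r = 1) {y : G} (hy : y ∈ YY (B₁ i) (C₁ i)) :
    y ∈ ⨅ m, YY (B₁ m) (C₁ m) ↔ ∀ g ∈ Kk (R₁ i) (YY (B₁ i) (C₁ i)), g * y = y * g := by
  set Y := YY (B₁ i) (C₁ i) with hY
  have hτD : ∀ d ∈ ⨅ m, YY (B₁ m) (C₁ m), τ * d = d * τ := by
    intro d hd
    have h1 : (⨆ k, B₁ k) ≤ centralizer ({d} : Set G) := by
      refine iSup_le fun k b hb => ?_
      rw [mem_centralizer_iff]
      intro z hz
      rw [Set.mem_singleton_iff.1 hz]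
      exact SideW.D_comm hd k b hb
    exact (mem_centralizer_iff.1 (h1 hτ) d rfl).symm
  have hτK : τ ∈ Kk (R₁ i) Y := by
    refine ⟨hτN, t.s₁.nY i hτN, fun z hz => ?_⟩
    obtain ⟨r, hr, d, hd, rfl⟩ := t.exists_RD hz
    have h1 := hτD d hd
    have hr' := conj_mem_of_normalizer hτN hr
    have e : τ * (r * d) * τ⁻¹ * (r * d)⁻¹ = τ * r * τ⁻¹ * r⁻¹ := by
      have h2 : d * τ⁻¹ = τ⁻¹ * d := by
        calc d * τ⁻¹ = τ⁻¹ * (τ * d) * τ⁻¹ := by group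
          _ = τ⁻¹ * (d * τ) * τ⁻¹ := by rw [h1]
          _ = τ⁻¹ * d := by group
      calc τ * (r * d) * τ⁻¹ * (r * d)⁻¹ = τ * r * (d * τ⁻¹) * d⁻¹ * r⁻¹ := by group
        _ = τ * r * (τ⁻¹ * d) * d⁻¹ * r⁻¹ := by rw [h2]
        _ = τ * r * τ⁻¹ * r⁻¹ := by group
    rw [e]
    exact mul_mem hr' (inv_mem hr)
  constructor
  · intro hd
    -- averaging over `K / (S ∩ K)`
    have hNK : ∀ n ∈ normalizer (R₁ i : Set G), ∀ g ∈ Kk (R₁ i) Y, n * g * n⁻¹ ∈ Kk (R₁ i) Y := by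
      rintro n hn g ⟨g1, g3, g4⟩
      have hnY := t.s₁.nY i hn
      refine ⟨mul_mem (mul_mem hn g1) (inv_mem hn), mul_mem (mul_mem hnY g3) (inv_mem hnY), fun b hb => ?_⟩
      have h1 := g4 _ (conj_inv_mem_of_normalizer hnY hb)
      have e : n * g * n⁻¹ * b * (n * g * n⁻¹)⁻¹ * b⁻¹ =
          n * (g * (n⁻¹ * b * n) * g⁻¹ * (n⁻¹ * b * n)⁻¹) * n⁻¹ := by group
      rw [e]; exact conj_mem_of_normalizer hn h1
    have hSK : (S : Subgroup G) ≤ normalizer (Kk (R₁ i) Y : Set G) := by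
      intro g hg
      exact mem_normalizer_of_conj fun x hx => hNK g (t.SR hg) x hx
    have hcomm : ∀ x ∈ Kk (R₁ i) Y, y⁻¹ * x * y * x⁻¹ ∈ R₁ i := by
      rintro x ⟨x1, x3, x4⟩
      have h1 := x4 y hy
      have h2 : x * y * x⁻¹ ∈ Y := conj_mem_of_normalizer x3 hy
      have e : y⁻¹ * x * y * x⁻¹ = x * y * x⁻¹ * y⁻¹ := by
        calc y⁻¹ * x * y * x⁻¹ = y⁻¹ * (x * y * x⁻¹) := by group
          _ = x * y * x⁻¹ * y⁻¹ := t.Y_comm (inv_mem hy) h2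
      rw [e]
      exact h1
    obtain ⟨ρ, hρ, hρK⟩ := Avg.avg (X := Kk (R₁ i) Y) (P := (S : Subgroup G) ⊓ Kk (R₁ i) Y) (Y := R₁ i)
      (D := ⊥) inf_le_right (odd_relIndex S hSK) bot_le
      (fun x hx r hr => conj_mem_of_normalizer hx.1 hr)
      (fun x _ r hr => by rw [mem_bot.1 hr, mul_one, mul_inv_cancel]; exact one_mem _)
      (fun x _ r hr => by rw [mem_bot.1 hr, mul_one, mul_inv_cancel]; exact one_mem _)
      (fun r hr => by rw [t.s₁.B_sq i r (t.s₁.R_B i hr)]; exact one_mem _) (c := y) hcomm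
      (by
        rintro x ⟨hxS, hxK⟩
        have h1 : y⁻¹ * x * y * x⁻¹ ∈ ⨅ m, YY (B₁ m) (C₁ m) := by
          have h2 := conj_mem_of_normalizer (t.s₁.nD (t.SV₁ hxS)) hd
          have e : y⁻¹ * x * y * x⁻¹ = y⁻¹ * (x * y * x⁻¹) := by group
          rw [e]
          exact mul_mem (inv_mem hd) h2
        rw [t.s₁.D_R h1 (hcomm x hxK)]
        exact one_mem _)
    have hall : ∀ x ∈ Kk (R₁ i) Y, x * (y * ρ) = y * ρ * x := by
      intro x hx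
      have h1 := mem_bot.1 (hρK x hx)
      have h2 : x * (y * ρ) * x⁻¹ = y * ρ := by
        have h3 : (y * ρ) * ((y * ρ)⁻¹ * x * (y * ρ) * x⁻¹) = y * ρ := by rw [h1, mul_one]
        calc x * (y * ρ) * x⁻¹ = (y * ρ) * ((y * ρ)⁻¹ * x * (y * ρ) * x⁻¹) := by group
          _ = y * ρ := h3
      exact mul_inv_eq_iff_eq_mul.1 h2
    have hρ1 : ρ = 1 := by
      apply hτR ρ hρ
      have h1 := hall τ hτK
      have h2 := hτD y hd
      have h3 : y * (τ * ρ) = y * (ρ * τ) := by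
        calc y * (τ * ρ) = (y * τ) * ρ := by group
          _ = τ * y * ρ := by rw [← h2]
          _ = τ * (y * ρ) := by group
          _ = y * ρ * τ := h1
          _ = y * (ρ * τ) := by group
      exact mul_left_cancel h3
    intro g hg
    have := hall g hg
    rwa [hρ1, mul_one] at this
  · intro hall
    obtain ⟨r, hr, d, hd, e⟩ := t.exists_RD hy
    have h1 := hall τ hτK
    have h2 := hτD d hd
    have h3 : τ * r = r * τ := by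
      rw [e] at h1
      have h4 : τ * r * d = r * τ * d := by
        calc τ * r * d = τ * (r * d) := by group
          _ = r * d * τ := h1
          _ = r * (d * τ) := by group
          _ = r * (τ * d) := by rw [h2]
          _ = r * τ * d := by group
      exact mul_right_cancel h4
    rw [e, hτR r hr h3, one_mul]
    exact hd

/-- **(7)** the fixed point groups `D₁`, `D₂` are trivial (`q ≥ 4`) -/
theorem D_eq_bot [Finite G] (h₁ : ∃ τ ∈ ⨆ k, B₁ k, τ ∈ normalizer (R₁ i : Set G) ∧ ∀ r ∈ R₁ i, τ * r = r * τ → r = 1)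
    (h₂ : ∃ τ ∈ ⨆ k, B₂ k, τ ∈ normalizer (R₂ j : Set G) ∧ ∀ r ∈ R₂ j, τ * r = r * τ → r = 1) :
    (⨅ m, YY (B₁ m) (C₁ m)) = ⊥ := by
  obtain ⟨τ₁, a1, a2, a3⟩ := h₁
  obtain ⟨τ₂, b1, b2, b3⟩ := h₂
  have hD1 : ∀ y, y ∈ ⨅ m, YY (B₁ m) (C₁ m) ↔ y ∈ YY (B₁ i) (C₁ i) ∧
      ∀ g ∈ Kk (R₁ i) (YY (B₁ i) (C₁ i)), g * y = y * g := by
    intro y
    constructor
    · intro hd
      have hy := mem_iInf.1 hd i
      exact ⟨hy, (t.D_iff τ₁ a1 a2 a3 hy).1 hd⟩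
    · rintro ⟨hy, h⟩
      exact (t.D_iff τ₁ a1 a2 a3 hy).2 h
  have hD2 : ∀ y, y ∈ ⨅ m, YY (B₂ m) (C₂ m) ↔ y ∈ YY (B₁ i) (C₁ i) ∧
      ∀ g ∈ Kk (R₁ i) (YY (B₁ i) (C₁ i)), g * y = y * g := by
    intro y
    rw [t.YY_eq_YY, t.hR]
    constructor
    · intro hd
      have hy := mem_iInf.1 hd j
      exact ⟨hy, (t.symm.D_iff τ₂ b1 b2 b3 hy).1 hd⟩
    · rintro ⟨hy, h⟩
      exact (t.symm.D_iff τ₂ b1 b2 b3 hy).2 h
  have hE : (⨅ m, YY (B₁ m) (C₁ m)) = ⨅ m, YY (B₂ m) (C₂ m) := by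
    ext y
    rw [hD1, hD2]
  have hle : (⨅ m, YY (B₁ m) (C₁ m)) ≤ YY (B₁ i) (C₁ i) := iInf_le _ i
  refine t.NL _ (t.Y_isPGroup.to_le hle) t.s₁.nD ?_ ?_
  · rw [hE]; exact t.s₂.nD
  · intro n hn
    refine mem_normalizer_of_conj fun y hy => ?_
    obtain ⟨h1, h2⟩ := (hD1 y).1 hy
    refine (hD1 _).2 ⟨conj_mem_of_normalizer (t.s₁.nY i hn) h1, fun g hg => ?_⟩
    have h3 : n⁻¹ * g * n ∈ Kk (R₁ i) (YY (B₁ i) (C₁ i)) := by
      obtain ⟨g1, g3, g4⟩ := hg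
      have hn' := inv_mem hn
      have hnY := t.s₁.nY i hn
      refine ⟨mul_mem (mul_mem hn' g1) hn, mul_mem (mul_mem (inv_mem hnY) g3) hnY, fun b hb => ?_⟩
      have h1 := g4 _ (conj_mem_of_normalizer hnY hb)
      have e : n⁻¹ * g * n * b * (n⁻¹ * g * n)⁻¹ * b⁻¹ =
          n⁻¹ * (g * (n * b * n⁻¹) * g⁻¹ * (n * b * n⁻¹)⁻¹) * n := by group
      rw [e]; exact conj_inv_mem_of_normalizer hn h1
    have h4 := h2 _ h3
    calc g * (n * y * n⁻¹) = n * (n⁻¹ * g * n * y) * n⁻¹ := by group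
      _ = n * (y * (n⁻¹ * g * n)) * n⁻¹ := by rw [h4]
      _ = n * y * n⁻¹ * g := by group

/-- **`C_G(W₁ W₂) = R`** without any hypothesis on `Z(S)` -/
theorem YY_eq [Finite G] (h₁ : ∃ τ ∈ ⨆ k, B₁ k, τ ∈ normalizer (R₁ i : Set G) ∧ ∀ r ∈ R₁ i, τ * r = r * τ → r = 1)
    (h₂ : ∃ τ ∈ ⨆ k, B₂ k, τ ∈ normalizer (R₂ j : Set G) ∧ ∀ r ∈ R₂ j, τ * r = r * τ → r = 1) :
    YY (B₁ i) (C₁ i) = R₁ i := by
  refine le_antisymm (fun y hy => ?_) (t.s₁.R_Y i)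
  obtain ⟨r, hr, d, hd, rfl⟩ := t.exists_RD hy
  rw [t.D_eq_bot h₁ h₂] at hd
  rw [mem_bot.1 hd, mul_one]
  exact hr

/-- the centre of the Sylow subgroup lies in `R` -/
theorem center_le [Finite G] (h₁ : ∃ τ ∈ ⨆ k, B₁ k, τ ∈ normalizer (R₁ i : Set G) ∧ ∀ r ∈ R₁ i, τ * r = r * τ → r = 1)
    (h₂ : ∃ τ ∈ ⨆ k, B₂ k, τ ∈ normalizer (R₂ j : Set G) ∧ ∀ r ∈ R₂ j, τ * r = r * τ → r = 1)
    (hBS : B₁ i ≤ S) (hCS : C₁ i ≤ S) {z : G} (hz : ∀ x ∈ (S : Subgroup G), z * x = x * z) : z ∈ R₁ i := by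
  rw [← t.YY_eq h₁ h₂, mem_YY]
  exact ⟨fun b hb => hz b (hBS hb), fun c hc => hz c (hCS hc)⟩

/-- the fixed point hypothesis of TEXT MIX -/
theorem fix [Finite G] (h₁ : ∃ τ ∈ ⨆ k, B₁ k, τ ∈ normalizer (R₁ i : Set G) ∧ ∀ r ∈ R₁ i, τ * r = r * τ → r = 1)
    (h₂ : ∃ τ ∈ ⨆ k, B₂ k, τ ∈ normalizer (R₂ j : Set G) ∧ ∀ r ∈ R₂ j, τ * r = r * τ → r = 1)
    (hBS : B₁ i ≤ S) (hCS : C₁ i ≤ S) (K : Subgroup G) (hK : IsPGroup 2 K)
    (hKN : ST V₁ R₁ ≤ normalizer (K : Set G)) (a b : ι) (hab : a ≠ b)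
    (ha : ∀ k ∈ K, ∀ x ∈ B₁ a, x * k = k * x) (hb : ∀ k ∈ K, ∀ x ∈ B₁ b, x * k = k * x) : K = ⊥ := by
  by_contra hne
  obtain ⟨z, hz1, hzK, hzS⟩ := exists_fixed S hK (t.SV₁.trans hKN) hne
  have h1 := t.center_le h₁ h₂ hBS hCS hzS
  have hall := t.s₁.comm_all hab (ha z hzK) (hb z hzK)
  obtain ⟨k, hk, -⟩ := t.s₁.third i i
  have h2 : z ∈ R₁ k := t.s₁.VB k z (t.s₁.R_V i h1) (hall k)
  have h3 : z ∈ R₁ i ⊓ R₁ k := ⟨h1, h2⟩
  rw [t.s₁.R_inf i k (Ne.symm hk)] at h3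
  exact hz1 (mem_bot.1 h3)

/-- **`Mix.Side` holds** : the hypothesis `C_V(E) = 1` of TEXT MIX is a consequence -/
theorem side₁ [Finite G] (h₁ : ∃ τ ∈ ⨆ k, B₁ k, τ ∈ normalizer (R₁ i : Set G) ∧ ∀ r ∈ R₁ i, τ * r = r * τ → r = 1)
    (h₂ : ∃ τ ∈ ⨆ k, B₂ k, τ ∈ normalizer (R₂ j : Set G) ∧ ∀ r ∈ R₂ j, τ * r = r * τ → r = 1)
    (hBS : B₁ i ≤ S) (hCS : C₁ i ≤ S) : Side V₁ R₁ B₁ C₁ :=
  t.s₁.toSide (t.fix h₁ h₂ hBS hCS)

theorem side₂ [Finite G] (h₁ : ∃ τ ∈ ⨆ k, B₁ k, τ ∈ normalizer (R₁ i : Set G) ∧ ∀ r ∈ R₁ i, τ * r = r * τ → r = 1)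
    (h₂ : ∃ τ ∈ ⨆ k, B₂ k, τ ∈ normalizer (R₂ j : Set G) ∧ ∀ r ∈ R₂ j, τ * r = r * τ → r = 1)
    (hBS : B₁ i ≤ S) (hCS : C₁ i ≤ S) : Side V₂ R₂ B₂ C₂ :=
  t.symm.side₁ h₂ h₁ (by rw [← t.hC]; exact hCS) (by rw [← t.hB]; exact hBS)

end TwoW

end Cfsg.Agent.Omega.MixOne
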