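import Cfsg.Agent.Omega.MixOne.Defs
import Cfsg.Agent.Omega.MixOne.Main
import Cfsg.Agent.Omega.Mix.Pts

/-!
# The entry of TEXT MIX relative to `N ≤ N_G(V)`: from `W₁`, `W₂` at one point `R` to `SideW`

`AtR M V' R w` : what is known at the point `R = F w` of `V`: `W' = LL V' R R` induces exactly the transvections with
axis `F w`, `W = LL V R R`, `W'` elementary abelian, `[W, W'] ≤ R`.
* `AtR.sideW` : `SideW V (pt M) (LL V' R) (LL V R)`;
* `AtR.exists_torus` : for `|F| ≥ 4`, the group generated by the `LL V' R (pt i)` contains an element which normalises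
  `R` and fixes no element of `R^#`.
-/

set_option autoImplicit false
set_option linter.unusedSectionVars false

namespace Cfsg.Agent.Omega.MixOne

open Subgroup Cfsg.Agent.Lib.SL2Mat Cfsg.Agent.Omega.BTwo Cfsg.Agent.Omega.Mix
open Cfsg.Agent.Omega.NatPair (ap ap_mul ap_one ap_inv_ap ap_ap_inv ap_add ap_smul ap_zero' ap_one' exists_ap
  exists_ap_e ap_up_e ext2 dt dt_add dt_smul exists_smul_of_dt exists_comb)

variable {G : Type*} [Group G] {F : Type*} [Field F]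

/-! ### Linear algebra -/

theorem dt_ap (A : Matrix.SpecialLinearGroup (Fin 2) F) (x y : Fin 2 → F) : dt (ap A x) (ap A y) = dt x y := by
  unfold dt
  rw [ap_zero', ap_one', ap_zero', ap_one']
  linear_combination (x 0 * y 1 - x 1 * y 0) * det_eq A

theorem dt_self' (x : Fin 2 → F) : dt x x = 0 := by unfold dt; ring

theorem dt_neg_swap (x y : Fin 2 → F) : dt x y = -dt y x := by unfold dt; ring

theorem dt_ne_swap {x y : Fin 2 → F} (h : dt x y ≠ 0) : dt y x ≠ 0 := by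
  rw [dt_neg_swap]; exact neg_ne_zero.2 h

theorem ap_up (t : F) (x : Fin 2 → F) : ap (up t) x = x + (t * x 1) • (![1, 0] : Fin 2 → F) := by
  apply ext2
  · rw [ap_zero']; simp
  · rw [ap_one']; simp

/-- the transvection with axis `F w` moving `u` to `u + c w` -/
theorem exists_tv {w u : Fin 2 → F} (hw : w ≠ 0) (hwu : dt w u ≠ 0) (c : F) :
    ∃ A, ap A w = w ∧ ap A u = u + c • w := by
  obtain ⟨D, hD⟩ := exists_ap_e hw
  obtain ⟨u', rfl⟩ : ∃ u', ap D u' = u := ⟨ap D⁻¹ u, ap_ap_inv D u⟩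
  have h1 : u' 1 ≠ 0 := by
    intro h
    apply hwu
    rw [← hD, dt_ap]
    unfold dt
    simp [h]
  refine ⟨D * up (c / u' 1) * D⁻¹, ?_, ?_⟩
  · rw [← hD, ap_mul, ap_mul, ap_inv_ap, ap_up_e]
  · rw [ap_mul, ap_mul, ap_inv_ap, ap_up, div_mul_cancel₀ _ h1, ap_add, ap_smul, hD]

theorem ne_zero_of_dt {w u : Fin 2 → F} (h : dt w u ≠ 0) : w ≠ 0 ∧ u ≠ 0 := by
  constructor
  · rintro rfl; apply h; unfold dt; simp
  · rintro rfl; apply h; unfold dt; simp

theorem exists_dt {w : Fin 2 → F} (hw : w ≠ 0) : ∃ u, dt w u ≠ 0 := by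
  by_cases h0 : w 0 = 0
  · refine ⟨![1, 0], ?_⟩
    unfold dt
    simp only [Matrix.cons_val_zero, Matrix.cons_val_one, mul_zero, mul_one, zero_sub, ne_eq, neg_eq_zero]
    exact fun h1 => hw (ext2 h0 h1)
  · refine ⟨![0, 1], ?_⟩
    unfold dt
    simpa using h0

section module

variable {V N : Subgroup G} (M : RMod F V N)

include M in
theorem conj_UW {g u : G} {D : Matrix.SpecialLinearGroup (Fin 2) F} (hg : M.Ind g D) {w : Fin 2 → F}
    (hu : u ∈ M.UW w) : g * u * g⁻¹ ∈ M.UW (ap D w) := by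
  obtain ⟨B, hB, hB'⟩ := hu
  refine ⟨D * B * D⁻¹, by rw [ap_mul, ap_mul, ap_inv_ap, hB], fun x => ?_⟩
  have h1 : g⁻¹ * M.e x * g = M.e (ap D⁻¹ x) := by
    have := hg (ap D⁻¹ x)
    rw [ap_ap_inv] at this
    rw [← this]; group
  calc g * u * g⁻¹ * M.e x * (g * u * g⁻¹)⁻¹ = g * (u * (g⁻¹ * M.e x * g) * u⁻¹) * g⁻¹ := by group
    _ = M.e (ap (D * B * D⁻¹) x) := by rw [h1, hB', hg, ap_mul, ap_mul]

/-- an element of `UW w` which normalises another point centralises `V` -/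
theorem UW_fix {w u : Fin 2 → F} (hwu : dt w u ≠ 0) {b : G} (hb : b ∈ M.UW w)
    (h : cj b (M.line u) = M.line u) : ∀ v ∈ V, b * v = v * b := by
  obtain ⟨B, hB, hB'⟩ := hb
  have hw := (ne_zero_of_dt hwu).1
  have hu := (ne_zero_of_dt hwu).2
  have h1 : M.line (ap B u) = M.line u := by rw [← h]; exact (M.cj_line_of_ind hB' u).symm
  have hBu : ap B u ≠ 0 := by
    intro h0
    apply hu
    rw [← ap_inv_ap B u, h0]
    apply ext2
    · rw [ap_zero']; simp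
    · rw [ap_one']; simp
  obtain ⟨c, hc⟩ := (M.line_eq_iff hBu).1 h1
  have h2 : dt w (ap B u) = dt w u := by
    nth_rewrite 1 [← hB]; exact dt_ap B w u
  rw [hc, dt_smul] at h2
  have hc1 : c = 1 := mul_right_cancel₀ hwu (by rw [h2, one_mul])
  rw [hc1, one_smul] at hc
  intro v hv
  obtain ⟨x, rfl⟩ := (M.mem_iff v).1 hv
  obtain ⟨a, d, rfl⟩ := exists_comb hwu x
  have h3 := hB' (a • w + d • u)
  rw [ap_add, ap_smul, ap_smul, hB, hc] at h3
  exact mul_inv_eq_iff_eq_mul.1 h3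

end module

/-! ### `W₁`, `W₂` at `R` -/

/-- what is known at the point `R` -/
structure AtR {V N : Subgroup G} (M : RMod F V N) (V' R : Subgroup G) (w : Fin 2 → F) : Prop where
  ne : w ≠ 0
  line : R = M.line w
  R_le : R ≤ V'
  UW : LL V' R R ≤ M.UW w
  full : ∀ B, ap B w = w → ∃ b ∈ LL V' R R, M.Ind b B
  comm : ∀ c ∈ LL V R R, ∀ b ∈ LL V' R R, c * b * c⁻¹ * b⁻¹ ∈ R
  comm₁ : ∀ a ∈ LL V R R, ∀ b ∈ LL V R R, a * b = b * a
  sq₁ : ∀ a ∈ LL V R R, a * a = 1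
  comm₂ : ∀ a ∈ LL V' R R, ∀ b ∈ LL V' R R, a * b = b * a
  sq₂ : ∀ a ∈ LL V' R R, a * a = 1

section sideW

variable {V N V' R : Subgroup G} {M : RMod F V N} {w : Fin 2 → F} (a : AtR M V' R w)
include a

/-- from `R` to the point `F u` -/
theorem AtR.exists_g {u : Fin 2 → F} (hu : u ≠ 0) : ∃ (g : G) (D : Matrix.SpecialLinearGroup (Fin 2) F),
    M.Ind g D ∧ ap D w = u ∧ cj g R = M.line u ∧ cj g V = V := by
  obtain ⟨D, hD⟩ := exists_ap a.ne hu
  obtain ⟨g, hg⟩ := M.lift D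
  refine ⟨g, D, hg, hD, ?_, ?_⟩
  · rw [a.line, ← hD]
    exact M.cj_line_of_ind hg w
  · rw [cj_eq_self_iff]
    exact M.le (M.mem_normalizer hg)

theorem AtR.UW_at {u : Fin 2 → F} (hu : u ≠ 0) : LL V' R (M.line u) ≤ M.UW u := by
  obtain ⟨g, D, hg, hD, hR, -⟩ := a.exists_g hu
  rw [← cj_LL (V := V') hR, cj_le_iff]
  intro x hx
  rw [← hD]
  exact conj_UW M hg (a.UW hx)

theorem AtR.full_at {u : Fin 2 → F} (hu : u ≠ 0) {B : Matrix.SpecialLinearGroup (Fin 2) F} (hB : ap B u = u) :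
    ∃ b ∈ LL V' R (M.line u), M.Ind b B := by
  obtain ⟨g, D, hg, hD, hR, -⟩ := a.exists_g hu
  obtain ⟨b, hb, hb'⟩ := a.full (D⁻¹ * B * D) (by rw [ap_mul, ap_mul, hD, hB, ← hD, ap_inv_ap])
  refine ⟨g * b * g⁻¹, ?_, fun x => ?_⟩
  · rw [← cj_LL (V := V') hR]
    exact conj_mem_cj hb
  · have h1 : g⁻¹ * M.e x * g = M.e (ap D⁻¹ x) := by
      have := hg (ap D⁻¹ x)
      rw [ap_ap_inv] at this
      rw [← this]; group
    calc g * b * g⁻¹ * M.e x * (g * b * g⁻¹)⁻¹ = g * (b * (g⁻¹ * M.e x * g) * b⁻¹) * g⁻¹ := by group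
      _ = M.e (ap B x) := by
        rw [h1, hb', hg, ap_mul, ap_mul, ap_ap_inv, ap_ap_inv]

theorem AtR.conj_forall {p : G → Prop} {U : Subgroup G} {u : Fin 2 → F} (hu : u ≠ 0)
    (hp : ∀ x ∈ LL U R R, p x) (hc : ∀ g x, p x → p (g * x * g⁻¹)) : ∀ x ∈ LL U R (M.line u), p x := by
  obtain ⟨g, D, -, -, hR, -⟩ := a.exists_g hu
  rw [← cj_LL (V := U) hR]
  rintro _ ⟨x, hx, rfl⟩
  exact hc g x (hp x hx)

theorem AtR.conj_forall₂ {p : G → G → Prop} {U U' : Subgroup G} {u : Fin 2 → F} (hu : u ≠ 0)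
    (hp : ∀ x ∈ LL U R R, ∀ y ∈ LL U' R R, p x y) (hc : ∀ g x y, p x y → p (g * x * g⁻¹) (g * y * g⁻¹)) :
    ∀ x ∈ LL U R (M.line u), ∀ y ∈ LL U' R (M.line u), p x y := by
  obtain ⟨g, D, -, -, hR, -⟩ := a.exists_g hu
  rw [← cj_LL (V := U) hR, ← cj_LL (V := U') hR]
  rintro _ ⟨x, hx, rfl⟩ _ ⟨y, hy, rfl⟩
  exact hc g x y (hp x hx y hy)

omit a in
theorem comm_conj (g x y : G) (h : x * y = y * x) :
    g * x * g⁻¹ * (g * y * g⁻¹) = g * y * g⁻¹ * (g * x * g⁻¹) := by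
  calc g * x * g⁻¹ * (g * y * g⁻¹) = g * (x * y) * g⁻¹ := by group
    _ = g * (y * x) * g⁻¹ := by rw [h]
    _ = g * y * g⁻¹ * (g * x * g⁻¹) := by group

omit a in
theorem sq_conj (g x : G) (h : x * x = 1) : g * x * g⁻¹ * (g * x * g⁻¹) = 1 := by
  calc g * x * g⁻¹ * (g * x * g⁻¹) = g * (x * x) * g⁻¹ := by group
    _ = 1 := by rw [h]; group

/-- **the side of `V`** -/
theorem AtR.sideW [Finite F] : SideW V (pt M) (fun i => LL V' R (pt M i)) (fun i => LL V R (pt M i)) where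
  third := by
    rintro ⟨_, x, hx, rfl⟩ ⟨_, y, hy, rfl⟩
    by_cases hxy : dt x y = 0
    · obtain ⟨u, hu⟩ := exists_dt hx
      refine ⟨⟨_, u, (ne_zero_of_dt hu).2, rfl⟩, ?_, ?_⟩
      · intro h
        exact hu ((line_eq_iff_dt M hx (ne_zero_of_dt hu).2).1 (congrArg Subtype.val h))
      · intro h
        have h1 := (line_eq_iff_dt M hy (ne_zero_of_dt hu).2).1 (congrArg Subtype.val h)
        obtain ⟨c, rfl⟩ := exists_smul_of_dt hx hxy
        obtain ⟨d, rfl⟩ := exists_smul_of_dt hy h1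
        apply hu
        rw [dt_smul, dt_smul, dt_self', mul_zero, mul_zero]
    · have h1 : dt x (x + y) ≠ 0 := by rw [dt_add, dt_self', zero_add]; exact hxy
      have h2 : dt y (x + y) ≠ 0 := by rw [dt_add, dt_self', add_zero]; exact dt_ne_swap hxy
      refine ⟨⟨_, x + y, (ne_zero_of_dt h1).2, rfl⟩, ?_, ?_⟩
      · intro h
        exact h1 ((line_eq_iff_dt M hx (ne_zero_of_dt h1).2).1 (congrArg Subtype.val h))
      · intro h
        exact h2 ((line_eq_iff_dt M hy (ne_zero_of_dt h1).2).1 (congrArg Subtype.val h))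
  V_C := by
    rintro ⟨_, x, hx, rfl⟩
    obtain ⟨g, D, -, -, hR, hV⟩ := a.exists_g hx
    have := cj_le_LL (V := V) hR
    rwa [hV] at this
  R_V := by
    rintro ⟨_, x, hx, rfl⟩
    exact M.line_le x
  R_B := by
    rintro ⟨_, x, hx, rfl⟩
    obtain ⟨g, D, -, -, hR, -⟩ := a.exists_g hx
    change M.line x ≤ LL V' R (M.line x)
    rw [← cj_LL (V := V') hR]
    nth_rewrite 1 [← hR]
    exact cj_mono (a.R_le.trans (V_le_LL V' R))
  R_ne := by
    rintro ⟨_, x, hx, rfl⟩ h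
    have h2 : M.e x ∈ M.line x := ⟨1, by rw [one_smul]⟩
    change M.line x = ⊥ at h
    rw [h, mem_bot, M.e_eq_one] at h2
    exact hx h2
  R_inf := by
    rintro ⟨_, x, hx, rfl⟩ ⟨_, y, hy, rfl⟩ hij
    rw [eq_bot_iff]
    rintro g ⟨⟨c, rfl⟩, ⟨d, hd⟩⟩
    rw [mem_bot, M.e_eq_one]
    have h1 := M.e_inj hd
    by_cases hc : c = 0
    · rw [hc, zero_smul]
    exfalso
    apply hij
    apply Subtype.ext
    change M.line x = M.line y
    rw [← M.line_smul hc, ← h1]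
    refine M.line_smul ?_
    rintro rfl
    rw [zero_smul] at h1
    rcases smul_eq_zero.1 h1.symm with h | h
    · exact hc h
    · exact hx h
  B_comm := by
    rintro ⟨_, x, hx, rfl⟩
    exact a.conj_forall₂ hx a.comm₂ comm_conj
  B_sq := by
    rintro ⟨_, x, hx, rfl⟩
    exact a.conj_forall hx a.sq₂ sq_conj
  C_comm := by
    rintro ⟨_, x, hx, rfl⟩
    exact a.conj_forall₂ hx a.comm₁ comm_conj
  C_sq := by
    rintro ⟨_, x, hx, rfl⟩
    exact a.conj_forall hx a.sq₁ sq_conj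
  CB := by
    rintro ⟨_, x, hx, rfl⟩
    obtain ⟨g, D, -, -, hR, -⟩ := a.exists_g hx
    change ∀ c ∈ LL V R (M.line x), ∀ b ∈ LL V' R (M.line x), c * b * c⁻¹ * b⁻¹ ∈ M.line x
    rw [← cj_LL (V := V) hR, ← cj_LL (V := V') hR, ← hR]
    rintro _ ⟨c, hc, rfl⟩ _ ⟨b, hb, rfl⟩
    refine ⟨c * b * c⁻¹ * b⁻¹, a.comm c hc b hb, ?_⟩
    change g * (c * b * c⁻¹ * b⁻¹) * g⁻¹ = g * c * g⁻¹ * (g * b * g⁻¹) * (g * c * g⁻¹)⁻¹ * (g * b * g⁻¹)⁻¹
    group
  B_NV := by
    rintro ⟨_, x, hx, rfl⟩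
    exact ((a.UW_at hx).trans (M.UW_le x)).trans M.le
  nB := fun i => normalizer_le_LL V' R (pt M i)
  nC := fun i => normalizer_le_LL V R (pt M i)
  perm := by
    rintro ⟨_, x, hx, rfl⟩ g hg i
    exact M.cj_pt (M.UW_le x (a.UW_at hx hg)) i
  cB := fun g i j h => cj_LL h
  cC := fun g i j h => cj_LL h
  trans := by
    rintro ⟨_, x, hx, rfl⟩ ⟨_, y, hy, rfl⟩ ⟨_, z, hz, rfl⟩ hji hki
    have h1 : dt x y ≠ 0 := fun h => hji (Subtype.ext ((line_eq_iff_dt M hx hy).2 h))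
    have h2 : dt x z ≠ 0 := fun h => hki (Subtype.ext ((line_eq_iff_dt M hx hz).2 h))
    -- scale `z`
    set d := dt x y / dt x z with hd
    have hd0 : d ≠ 0 := div_ne_zero h1 h2
    have h3 : dt x (d • z - y) = 0 := by
      have h4 : dt x (d • z) = dt x y := by rw [dt_smul, hd, div_mul_cancel₀ _ h2]
      have h5 : dt x (d • z - y) = dt x (d • z) - dt x y := by unfold dt; simp; ring
      rw [h5, h4, sub_self]
    obtain ⟨c, hc⟩ := exists_smul_of_dt hx h3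
    obtain ⟨A, hA, hA'⟩ := exists_tv hx h1 c
    obtain ⟨b, hb, hb'⟩ := a.full_at hx hA
    refine ⟨b, hb, ?_⟩
    have e : cj b (M.line y) = M.line (ap A y) := M.cj_line_of_ind hb' y
    change cj b (M.line y) = M.line z
    rw [e, hA', ← hc, add_sub_cancel]
    exact M.line_smul hd0
  free := by
    rintro ⟨_, x, hx, rfl⟩ ⟨_, y, hy, rfl⟩ hji b hb h
    have h1 : dt x y ≠ 0 := fun h => hji (Subtype.ext ((line_eq_iff_dt M hx hy).2 h))
    exact UW_fix M h1 (a.UW_at hx hb) h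
  VB := by
    rintro ⟨_, x, hx, rfl⟩ v hv hc
    obtain ⟨y, rfl⟩ := (M.mem_iff v).1 hv
    change M.e y ∈ M.line x
    rw [M.e_mem_line]
    apply exists_smul_of_dt hx
    by_contra h1
    obtain ⟨A, hA, hA'⟩ := exists_tv hx h1 1
    obtain ⟨b, hb, hb'⟩ := a.full_at hx hA
    have h2 := hb' y
    rw [hc b hb, mul_inv_cancel_right, hA', one_smul] at h2
    have h3 := M.e_inj h2
    exact hx (by simpa using h3)

/-- **the torus element** -/
theorem AtR.exists_torus {c : F} (hc0 : c ≠ 0) (hc1 : c ≠ 1) :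
    ∃ τ ∈ ⨆ i, LL V' R (pt M i), τ ∈ normalizer (R : Set G) ∧ ∀ r ∈ R, τ * r = r * τ → r = 1 := by
  -- every element of `SL₂(F)` is induced by `X`
  let X : Subgroup G := ⨆ i, LL V' R (pt M i)
  have hX : ∀ {u : Fin 2 → F} (hu : u ≠ 0), LL V' R (M.line u) ≤ X := fun {u} hu =>
    le_iSup (fun i => LL V' R (pt M i)) ⟨M.line u, u, hu, rfl⟩
  let L : Subgroup (Matrix.SpecialLinearGroup (Fin 2) F) :=
    { carrier := {A | ∃ x ∈ X, M.Ind x A}
      one_mem' := ⟨1, one_mem _, fun x => by rw [ap_one]; group⟩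
      mul_mem' := by
        rintro A B ⟨x, hx, hxA⟩ ⟨y, hy, hyB⟩
        refine ⟨x * y, mul_mem hx hy, fun z => ?_⟩
        have e : x * y * M.e z * (x * y)⁻¹ = x * (y * M.e z * y⁻¹) * x⁻¹ := by group
        rw [e, hyB, hxA, ap_mul]
      inv_mem' := by
        rintro A ⟨x, hx, hxA⟩
        refine ⟨x⁻¹, inv_mem hx, fun z => ?_⟩
        have h1 := hxA (ap A⁻¹ z)
        rw [ap_ap_inv] at h1
        rw [← h1]; group }
  have hL : ∀ {u : Fin 2 → F}, u ≠ 0 → ∀ {B}, ap B u = u → B ∈ L := by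
    intro u hu B hB
    obtain ⟨b, hb, hb'⟩ := a.full_at hu hB
    exact ⟨b, hX hu hb, hb'⟩
  have h01 : (![0, 1] : Fin 2 → F) ≠ 0 := fun h => by simpa using congrFun h 1
  have h10 : (![1, 0] : Fin 2 → F) ≠ 0 := fun h => by simpa using congrFun h 0
  have hup : ∀ b, up b ∈ L := fun b => hL h10 (ap_up_e b)
  have hlo : ∀ b, lo b ∈ L := fun b => hL h01 (by
    apply ext2
    · rw [ap_zero']; simp
    · rw [ap_one']; simp)
  have hall : ∀ A, A ∈ L := by
    intro A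
    obtain ⟨p, q, r, s, rfl⟩ := exists_up_lo A
    exact mul_mem (mul_mem (mul_mem (hup _) (hlo _)) (hup _)) (hlo _)
  obtain ⟨D, hD⟩ := exists_ap_e a.ne
  obtain ⟨τ, hτ, hτA⟩ := hall (D * dg c hc0 * D⁻¹)
  have hw : ap (D * dg c hc0 * D⁻¹) w = c • w := by
    rw [← hD, ap_mul, ap_mul, ap_inv_ap, ← ap_smul]
    congr 1
    apply ext2
    · rw [ap_zero']; simp
    · rw [ap_one']; simp
  refine ⟨τ, hτ, ?_, ?_⟩
  · have e : cj τ (M.line w) = M.line (ap (D * dg c hc0 * D⁻¹) w) := M.cj_line_of_ind hτA w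
    rw [← cj_eq_self_iff, a.line, e, hw, M.line_smul hc0]
  · intro r hr h
    rw [a.line] at hr
    obtain ⟨d, rfl⟩ := hr
    have h1 := hτA (d • w)
    rw [h, mul_inv_cancel_right, ap_smul, hw, smul_smul] at h1
    have h2 := smul_left_injective F a.ne (M.e_inj h1)
    have h3 : d * (c - 1) = 0 := by
      have h4 : d = d * c := h2
      linear_combination -h4
    rcases mul_eq_zero.1 h3 with h4 | h4
    · rw [h4, zero_smul, M.e_zero]
    · exact absurd (sub_eq_zero.1 h4) hc1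

end sideW

end Cfsg.Agent.Omega.MixOne
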