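import Cfsg.Agent.Omega.MixOne.Plug
import Cfsg.Agent.Omega.Mix.OfFrameTwo

/-!
# The normal form of a mutual pair of split one-factor parabolics

`Spl P V D M` : `V = N × D`, `D ≤ Z(P)`, `M : RMod F N K`, `P ≤ K` transitive on `N^#` (this is `V_P`,
`N = [V_P, O²(P)]`, `D = C_{V_P}(O²(P))`, or a conjugate).
* `Spl.mixedW` : two such data, `V₂ ≤ S₁ ≤ P₁`, `V₁ ≤ S₂ ≤ P₂`, `[V₁, V₂] ≠ 1`, no mutual pair `(V₁, V₁^n)`,
  `(V₂, V₂^n)` ⇒ `MixedW M₁ (M₂.conj k) (N₁ ⊓ N₂)` for some `k ∈ N(N₁ ⊓ N₂)`;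
* `Spl.false_of` : `|F₁| ≥ 4` ⇒ `D₁ = 1`.
-/

set_option autoImplicit false
set_option linter.unusedSectionVars false

namespace Cfsg.Agent.Omega.MixOne

open Subgroup Cfsg Cfsg.Agent.Lib.SL2Mat Cfsg.Agent.Omega.BTwo Cfsg.Agent.Omega.Mix
open scoped Pointwise

universe u

variable {G : Type u} [Group G]

/-- a split one-factor parabolic: `V = N × D`, `D ≤ Z(P)`, `N` a natural module -/
structure Spl {F : Type*} [Field F] (P V D : Subgroup G) {N K : Subgroup G} (M : RMod F N K) : Prop where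
  PK : P ≤ K
  PV : P ≤ normalizer (V : Set G)
  NV : N ≤ V
  DV : D ≤ V
  dec : ∀ v ∈ V, ∃ n ∈ N, ∃ d ∈ D, v = n * d
  comm : ∀ v ∈ V, ∀ w ∈ V, v * w = w * v
  inf : N ⊓ D = ⊥
  cen : P ≤ centralizer (D : Set G)
  trans : ∀ v ∈ N, v ≠ 1 → ∀ v' ∈ N, v' ≠ 1 → ∃ g ∈ P, g * v * g⁻¹ = v'

namespace Spl

section one

variable {F : Type*} [Field F] {P V D N K : Subgroup G} {M : RMod F N K} (s : Spl P V D M)
include s

theorem conj (k : G) : Spl (cj k P) (cj k V) (cj k D) (M.conj k) where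
  PK := cj_mono s.PK
  PV := by rw [normalizer_cj]; exact cj_mono s.PV
  NV := cj_mono s.NV
  DV := cj_mono s.DV
  dec := by
    rintro _ ⟨v, hv, rfl⟩
    obtain ⟨n, hn, d, hd, rfl⟩ := s.dec v hv
    exact ⟨_, conj_mem_cj hn, _, conj_mem_cj hd, by
      change k * (n * d) * k⁻¹ = _
      group⟩
  comm := by
    rintro _ ⟨v, hv, rfl⟩ _ ⟨w, hw, rfl⟩
    exact comm_conj k v w (s.comm v hv w hw)
  inf := by
    have h := cj_inf k N D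
    rw [s.inf, cj_bot] at h
    exact h.symm
  cen := by
    rw [centralizer_cj]
    exact cj_mono s.cen
  trans := by
    rintro _ ⟨v, hv, rfl⟩ hv1 _ ⟨w, hw, rfl⟩ hw1
    obtain ⟨g, hg, hgv⟩ := s.trans v hv (fun h => hv1 (by rw [h]; exact map_one _)) w hw
      (fun h => hw1 (by rw [h]; exact map_one _))
    refine ⟨k * g * k⁻¹, conj_mem_cj hg, ?_⟩
    change k * g * k⁻¹ * (k * v * k⁻¹) * (k * g * k⁻¹)⁻¹ = k * w * k⁻¹
    rw [← hgv]; group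

variable [Finite G] [Finite F] [CharP F 2]

theorem N_pGroup : IsPGroup 2 N := fun v => ⟨1, by
  rw [pow_one, pow_two]; exact Subtype.ext (M.sq v.2)⟩

theorem N_ne : N ≠ ⊥ := by
  intro h
  have h1 : M.e ![1, 0] = 1 := mem_bot.1 (h.le (M.e_mem _))
  rw [M.e_eq_one] at h1
  simpa using congrFun h1 0

/-- every point of `N` is normalised by a Sylow 2-subgroup in `P` -/
theorem exists_sylow (S : Sylow 2 G) (hS : (S : Subgroup G) ≤ P) {w : Fin 2 → F} (hw : w ≠ 0) :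
    ∃ T : Sylow 2 G, (T : Subgroup G) ≤ P ∧ (T : Subgroup G) ≤ normalizer ((M.line w : Subgroup G) : Set G) := by
  obtain ⟨z, hzN, -, hz1, -, hzc⟩ := exists_central s.N_pGroup ((hS.trans s.PK).trans M.le) s.N_ne
  obtain ⟨g, hg, hgz⟩ := s.trans z hzN hz1 (M.e w) (M.e_mem w) (fun h => hw (M.e_eq_one.1 h))
  refine ⟨g • S, ?_, ?_⟩
  · rw [coe_smul_eq]
    have h1 := cj_mono (g := g) hS
    rwa [cj_of_mem hg] at h1
  · rw [coe_smul_eq]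
    rintro _ ⟨t, ht, rfl⟩
    have h1 : g * t * g⁻¹ ∈ K := s.PK (mul_mem (mul_mem hg (hS ht)) (inv_mem hg))
    have h2 : M.act (g * t * g⁻¹) w = w := by
      rw [← M.commute_e h1, ← hgz]
      have h3 := hzc t ht
      calc g * t * g⁻¹ * (g * z * g⁻¹) = g * (t * z) * g⁻¹ := by group
        _ = g * (z * t) * g⁻¹ := by rw [h3]
        _ = g * z * g⁻¹ * (g * t * g⁻¹) := by group
    change g * t * g⁻¹ ∈ _
    rw [← cj_eq_self_iff]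
    have h3 : cj (g * t * g⁻¹) (M.line w) = M.line (M.act (g * t * g⁻¹) w) := M.cj_line h1 w
    rw [h3, h2]

/-- `V ≤ O₂(N(R))` -/
theorem V_le_Q {T : Sylow 2 G} (hTP : (T : Subgroup G) ≤ P) {w : Fin 2 → F} (hw : w ≠ 0) {R : Subgroup G}
    (hR : R = M.line w) (hTR : (T : Subgroup G) ≤ normalizer (R : Set G)) (hch : Char2 (normalizer (R : Set G))) :
    V ≤ QQ R := by
  subst hR
  have hRN : M.line w ≤ N := M.line_le w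
  have h1 : N ≤ QQ (M.line w) := M.V_le_Q hw T (hTP.trans s.PK) hTR hch
  intro v hv
  obtain ⟨n, hn, d, hd, rfl⟩ := s.dec v hv
  refine mul_mem (h1 hn) (hch d ?_ ?_)
  · exact centralizer_le_normalizer _ (mem_centralizer_iff.2 fun r hr => s.comm r (s.NV (hRN hr)) d (s.DV hd))
  · intro q hq
    exact mem_centralizer_iff.1 (s.cen (hTP (QQ_le_sylow T hTR hq))) d hd

end one

end Spl

/-- `no mutual pair (V, V^n)` -/
def NoSame (V : Subgroup G) : Prop :=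
  ∀ n : G, V ≤ normalizer (cj n V : Set G) → cj n V ≤ normalizer (V : Set G) → ∀ v ∈ V, ∀ w ∈ cj n V, v * w = w * v

theorem LL_mono {N V R r : Subgroup G} (h : N ≤ V) : LL N R r ≤ LL V R r :=
  Mix.LL_le fun _ hg => (cj_mono h).trans (cj_le_LL hg)

section two

variable [Finite G] {F₁ F₂ : Type*} [Field F₁] [Field F₂] [Finite F₁] [Finite F₂] [CharP F₁ 2] [CharP F₂ 2]
  {P₁ V₁ D₁ N₁ K₁ P₂ V₂ D₂ N₂ K₂ : Subgroup G} {M₁ : RMod F₁ N₁ K₁} {M₂ : RMod F₂ N₂ K₂}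

/-- **The normal form of a mutual pair of split one-factor parabolics.** -/
theorem Spl.mixedW (hchar : ∀ K : Subgroup G, IsPGroup 2 K → K ≠ ⊥ → Char2 (normalizer (K : Set G)))
    (s₁ : Spl P₁ V₁ D₁ M₁) (s₂ : Spl P₂ V₂ D₂ M₂) (S₁ S₂ : Sylow 2 G) (hS₁ : (S₁ : Subgroup G) ≤ P₁)
    (hS₂ : (S₂ : Subgroup G) ≤ P₂) (h₁ : V₂ ≤ (S₁ : Subgroup G)) (h₂ : V₁ ≤ (S₂ : Subgroup G))
    (hne : ∃ v ∈ V₁, ∃ w ∈ V₂, v * w ≠ w * v) (hno₁ : NoSame V₁) (hno₂ : NoSame V₂) :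
    ∃ k ∈ normalizer ((N₁ ⊓ N₂ : Subgroup G) : Set G), ∃ T : Sylow 2 G, (T : Subgroup G) ≤ P₁ ∧
      (T : Subgroup G) ≤ cj k P₂ ∧ (T : Subgroup G) ≤ normalizer ((N₁ ⊓ N₂ : Subgroup G) : Set G) ∧
      MixedW M₁ (M₂.conj k) (N₁ ⊓ N₂) := by
  -- `N₁`, `N₂` do not commute
  obtain ⟨v, hv, w, hw, hvw⟩ := hne
  obtain ⟨n, hn, d, hd, rfl⟩ := s₁.dec v hv
  obtain ⟨n', hn', d', hd', rfl⟩ := s₂.dec w hw
  have c1 : ∀ x ∈ V₂, ∀ d ∈ D₁, d * x = x * d := fun x hx d hd =>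
    mem_centralizer_iff.1 (s₁.cen (hS₁ (h₁ hx))) d hd
  have c2 : ∀ x ∈ V₁, ∀ d ∈ D₂, d * x = x * d := fun x hx d hd =>
    mem_centralizer_iff.1 (s₂.cen (hS₂ (h₂ hx))) d hd
  have hnn : n * n' ≠ n' * n := by
    intro h
    apply hvw
    have e1 := c1 _ hw d hd
    have e2 := c2 n (s₁.NV hn) d' hd'
    calc n * d * (n' * d') = n * (d * (n' * d')) := by group
      _ = n * (n' * d' * d) := by rw [e1]
      _ = n * n' * d' * d := by group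
      _ = n' * (n * d') * d := by rw [h]; group
      _ = n' * (d' * n) * d := by rw [e2]
      _ = n' * d' * (n * d) := by group
  have hmut : RMutual N₁ N₂ K₁ K₂ :=
    ⟨(s₂.NV.trans h₁).trans (hS₁.trans s₁.PK), (s₁.NV.trans h₂).trans (hS₂.trans s₂.PK), n, hn, n', hn', hnn⟩
  obtain ⟨-, u, u', hu, hu', hl, hl'⟩ := pair M₁ M₂ hmut
  obtain ⟨R, hR⟩ : ∃ R, R = N₁ ⊓ N₂ := ⟨_, rfl⟩
  rw [← hR] at hl hl' ⊢
  obtain ⟨T₁, hT₁P, hT₁R⟩ := s₁.exists_sylow S₁ hS₁ hu.ne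
  obtain ⟨T₂, hT₂P, hT₂R⟩ := s₂.exists_sylow S₂ hS₂ hu'.ne
  rw [← hl] at hT₁R
  rw [← hl'] at hT₂R
  obtain ⟨k, hk, hkT⟩ := exists_conj_eq T₂ T₁ hT₂R hT₁R
  have hTk : (T₁ : Subgroup G) ≤ cj k P₂ := by rw [hkT]; exact cj_mono hT₂P
  have hcjR : cj k R = R := cj_eq_self_iff.2 hk
  have hlk : R = (M₂.conj k).line u' := by
    rw [M₂.conj_line k u', ← hl']
    exact hcjR.symm
  have hR2 : IsPGroup 2 R := s₁.N_pGroup.to_le (by rw [hR]; exact inf_le_left)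
  have hR1 : R ≠ ⊥ := by rw [hl]; exact M₁.line_ne_bot hu.ne
  have hchR := hchar R hR2 hR1
  have hV₁Q := s₁.V_le_Q hT₁P hu.ne hl hT₁R hchR
  have hV₂Q := (s₂.conj k).V_le_Q hTk hu'.ne hlk hT₁R hchR
  refine ⟨k, hk, T₁, hT₁P, hTk, hT₁R, ⟨u, hu.ne, hl⟩, ⟨u', hu'.ne, hlk⟩,
    ⟨T₁, hT₁P.trans s₁.PK, hTk.trans (s₂.conj k).PK, hT₁R⟩, hchar, ?_, ?_, ?_⟩
  · intro a ha b hb
    exact LL_comm T₁ hV₁Q (hT₁P.trans s₁.PV) hT₁R hno₁ a (LL_mono s₁.NV ha) b (LL_mono s₁.NV hb)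
  · intro a ha b hb
    exact LL_comm T₁ hV₂Q (hTk.trans (s₂.conj k).PV) hT₁R (cj_no k hno₂) a (LL_mono (s₂.conj k).NV ha) b
      (LL_mono (s₂.conj k).NV hb)
  · refine ⟨n, V_le_LL _ _ hn, n', ?_, hnn⟩
    have h3 : cj k⁻¹ (cj k N₂) ≤ LL (cj k N₂) R R := cj_le_LL (cj_eq_self_iff.2 (inv_mem hk))
    rw [cj_inv_cj] at h3
    exact h3 hn'

/-- **`|F₁| ≥ 4` ⇒ `D₁ = 1`** -/
theorem Spl.eq_bot (hchar : ∀ K : Subgroup G, IsPGroup 2 K → K ≠ ⊥ → Char2 (normalizer (K : Set G)))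
    (s₁ : Spl P₁ V₁ D₁ M₁) (s₂ : Spl P₂ V₂ D₂ M₂) (S₁ S₂ : Sylow 2 G) (hS₁ : (S₁ : Subgroup G) ≤ P₁)
    (hS₂ : (S₂ : Subgroup G) ≤ P₂) (h₁ : V₂ ≤ (S₁ : Subgroup G)) (h₂ : V₁ ≤ (S₂ : Subgroup G))
    (hne : ∃ v ∈ V₁, ∃ w ∈ V₂, v * w ≠ w * v) (hno₁ : NoSame V₁) (hno₂ : NoSame V₂) (h4 : 4 ≤ Nat.card F₁) :
    D₁ = ⊥ := by
  obtain ⟨k, -, T, hT₁, hT₂, hTR, m⟩ := s₁.mixedW hchar s₂ S₁ S₂ hS₁ hS₂ h₁ h₂ hne hno₁ hno₂
  rw [eq_bot_iff]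
  intro d hd
  have h5 : d ∈ N₁ ⊓ N₂ := m.center_le h4 (hT₁.trans s₁.PK) (hT₂.trans (s₂.conj k).PK) hTR (fun t ht =>
    (mem_centralizer_iff.1 (s₁.cen (hT₁ ht)) d hd).symm)
  have h6 : d ∈ N₁ ⊓ D₁ := ⟨h5.1, hd⟩
  rwa [s₁.inf] at h6

end two

end Cfsg.Agent.Omega.MixOne
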