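import Cfsg.Agent.Omega.MixOne.Entry
import Cfsg.Agent.Omega.Mix.Entry

/-!
# `MixedW` : from the normal form of a mixed pair (without `Ω₁(Z(S)) ≤ R`) to `Z(S) ≤ R`, `|F| ≥ 4`

* `MixedW.atR` : `AtR M₁ V₂ R w`;
* `MixedW.two` : `TwoW`;
* `MixedW.center_le` : `Z(S) ≤ R` (#13275), `MixedW.mixedN` : `Mix.MixedN` holds.

The first part is `Mix.Entry` (helper958) for `MixedW`.
-/

set_option autoImplicit false
set_option linter.unusedSectionVars false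

namespace Cfsg.Agent.Omega.MixOne

open Subgroup Cfsg.Agent.Lib.SL2Mat Cfsg.Agent.Omega.BTwo Cfsg.Agent.Omega.Mix
open Cfsg.Agent.Omega.NatPair (dt dt_add dt_smul exists_smul_of_dt exists_comb ap ap_smul ap_add ap_zero' ap_one'
  ap_mul ap_inv_ap ap_ap_inv ap_one exists_ap exists_ap_e ap_up_e ext2)

variable {G : Type*} [Group G]

theorem exists_ne_zero_one {F : Type*} [Field F] [Finite F] (h : 4 ≤ Nat.card F) : ∃ c : F, c ≠ 0 ∧ c ≠ 1 := by
  classical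
  have : Fintype F := Fintype.ofFinite F
  rw [Nat.card_eq_fintype_card] at h
  by_contra hcon
  push Not at hcon
  have h1 : (Finset.univ : Finset F) ⊆ {0, 1} := by
    intro c _
    rw [Finset.mem_insert, Finset.mem_singleton]
    by_cases hc : c = 0
    · exact Or.inl hc
    · exact Or.inr (hcon c hc)
  have h2 := (Finset.card_le_card h1).trans Finset.card_le_two
  rw [Finset.card_univ] at h2
  omega

namespace MixedW

variable {F₁ F₂ : Type*} [Field F₁] [Field F₂] {V₁ V₂ N₁ N₂ : Subgroup G} {M₁ : RMod F₁ V₁ N₁}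
  {M₂ : RMod F₂ V₂ N₂} {R : Subgroup G}

section base

variable (m : MixedW M₁ M₂ R)
include m

theorem RV : R ≤ V₁ := by
  obtain ⟨w, -, hR⟩ := m.line₁
  rw [hR]
  exact M₁.line_le w

theorem R_ne : R ≠ ⊥ := by
  obtain ⟨w, hw, hR⟩ := m.line₁
  exact M₁.pt_ne ⟨R, w, hw, hR⟩

variable [CharP F₁ 2]

theorem R_pGroup : IsPGroup 2 R := fun v => ⟨1, by
  rw [pow_one, pow_two]
  exact Subtype.ext (M₁.sq (m.RV v.2))⟩

variable [Finite G]

theorem R_le_QQ : R ≤ QQ R :=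
  le_O2_of_normal le_normalizer m.R_pGroup fun _ hg _ ha => conj_mem_of_normalizer hg ha

omit m [CharP F₁ 2] in
theorem QQ_le_sylow {S : Sylow 2 G} (hS : (S : Subgroup G) ≤ normalizer (R : Set G)) :
    QQ R ≤ (S : Subgroup G) := by
  have : Fact (Nat.Prime 2) := ⟨Nat.prime_two⟩
  have h3 : IsPGroup 2 ((S : Subgroup G) ⊔ QQ R : Subgroup G) :=
    S.isPGroup'.to_sup_of_normal_right' (O2_isPGroup _) (hS.trans (le_normalizer_O2 _))
  have h4 := S.is_maximal' h3 le_sup_left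
  exact le_sup_right.trans_eq h4

theorem QQ_le_N : QQ R ≤ N₁ := by
  obtain ⟨S, h1, -, h3⟩ := m.sylow
  exact (QQ_le_sylow h3).trans h1

variable [Finite F₁]

theorem QQ_le_UW {w : Fin 2 → F₁} (hw : w ≠ 0) (hR : R = M₁.line w) : QQ R ≤ M₁.UW w := by
  refine M₁.lin_of_torus hw m.QQ_le_N ?_ (O2_isPGroup _) ?_
  · rw [← hR]; exact O2_le _
  · intro g _ hg x hx
    rw [← hR] at hg
    exact conj_mem_of_normalizer (le_normalizer_O2 _ hg) hx

/-- **(1)** `V₁ ≤ O₂(N_G(R))` -/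
theorem V_le_QQ : V₁ ≤ QQ R := by
  obtain ⟨w, hw, hR⟩ := m.line₁
  intro v hv
  have hvR : ∀ r ∈ R, v * r = r * v := fun r hr => M₁.comm hv (m.RV hr)
  have hvR' : ∀ r ∈ R, v * r * v⁻¹ ∈ R := fun r hr => by
    rw [hvR r hr, mul_inv_cancel_right]; exact hr
  refine stab_le m.R_le_QQ (m.char R m.R_pGroup m.R_ne) (mem_normalizer_of_conj hvR') hvR ?_
  intro y hy
  have h1 := M₁.UW_comm hw (m.QQ_le_UW hw hR hy) (inv_mem hv)
  rw [← hR] at h1
  have h2 := hvR' _ h1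
  have e : v * (y * v⁻¹ * y⁻¹ * v⁻¹⁻¹) * v⁻¹ = v * y * v⁻¹ * y⁻¹ := by group
  rwa [e] at h2

theorem C_le_QQ : LL V₁ R R ≤ QQ R := by
  refine Mix.LL_le fun g hg => ?_
  intro x hx
  have h1 := conj_mem_of_normalizer (le_normalizer_O2 _ (cj_eq_self_iff.1 hg)) (m.V_le_QQ (mem_cj.1 hx))
  have e : g * (g⁻¹ * x * g) * g⁻¹ = x := by group
  rwa [e] at h1

theorem QC {g b : G} (hg : g ∈ QQ R) (hb : b ∈ LL V₁ R R) : g * b * g⁻¹ * b⁻¹ ∈ R := by
  obtain ⟨w, hw, hR⟩ := m.line₁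
  let D : Subgroup G :=
    { carrier := {a | a ∈ normalizer (R : Set G) ∧ ∀ x ∈ QQ R, x * a * x⁻¹ * a⁻¹ ∈ R}
      one_mem' := ⟨one_mem _, fun x _ => by
        have : x * 1 * x⁻¹ * 1⁻¹ = 1 := by group
        rw [this]; exact one_mem _⟩
      mul_mem' := by
        rintro a b ⟨ha, ha1⟩ ⟨hb, hb1⟩
        refine ⟨mul_mem ha hb, fun x hx => ?_⟩
        have e : x * (a * b) * x⁻¹ * (a * b)⁻¹ = (x * a * x⁻¹ * a⁻¹) * (a * (x * b * x⁻¹ * b⁻¹) * a⁻¹) := by group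
        rw [e]
        exact mul_mem (ha1 x hx) (conj_mem_of_normalizer ha (hb1 x hx))
      inv_mem' := by
        rintro a ⟨ha, ha1⟩
        refine ⟨inv_mem ha, fun x hx => ?_⟩
        have e : x * a⁻¹ * x⁻¹ * a⁻¹⁻¹ = a⁻¹ * (x * a * x⁻¹ * a⁻¹)⁻¹ * a := by group
        rw [e]
        exact conj_inv_mem_of_normalizer ha (inv_mem (ha1 x hx)) }
  have h1 : LL V₁ R R ≤ D := by
    refine Mix.LL_le fun h hh => ?_
    have hhR := cj_eq_self_iff.1 hh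
    intro a ha
    refine ⟨O2_le _ (m.C_le_QQ (cj_le_LL hh ha)), fun x hx => ?_⟩
    have h2 := M₁.UW_comm hw (m.QQ_le_UW hw hR (conj_inv_mem_of_normalizer (le_normalizer_O2 _ hhR) hx))
      (mem_cj.1 ha)
    rw [← hR] at h2
    have h3 := conj_mem_of_normalizer hhR h2
    have e : h * (h⁻¹ * x * h * (h⁻¹ * a * h) * (h⁻¹ * x * h)⁻¹ * (h⁻¹ * a * h)⁻¹) * h⁻¹ = x * a * x⁻¹ * a⁻¹ := by
      group
    rwa [e] at h3
  exact (h1 hb).2 g hg

end base

section both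

variable [Finite G] [Finite F₁] [Finite F₂] [CharP F₁ 2] [CharP F₂ 2] (m : MixedW M₁ M₂ R)
include m

/-- a mutual partner of `V₁` of type 2 on `R` -/
theorem exists_partner : ∃ g ∈ normalizer (R : Set G), RMutual V₁ (cj g V₂) N₁ (cj g N₂) := by
  by_contra hcon
  have key : ∀ g ∈ normalizer (R : Set G), ∀ v ∈ V₁, ∀ w ∈ cj g V₂, v * w = w * v := by
    intro g hg v hv w hw
    by_contra hvw
    refine hcon ⟨g, hg, ?_, ?_, v, hv, w, hw, hvw⟩
    · exact (cj_le_LL (cj_eq_self_iff.2 hg)).trans (m.symm.C_le_QQ.trans m.QQ_le_N)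
    · have h1 := cj_mono (g := g) m.symm.QQ_le_N
      rw [cj_QQ, cj_eq_self_iff.2 hg] at h1
      exact m.V_le_QQ.trans h1
  obtain ⟨a, ha, b, hb, hab⟩ := m.ne
  apply hab
  have h1 : LL V₂ R R ≤ centralizer (V₁ : Set G) := by
    refine Mix.LL_le fun g hg => ?_
    intro w hw
    rw [mem_centralizer_iff]
    exact fun v hv => key g (cj_eq_self_iff.1 hg) v hv w hw
  have h2 : LL V₁ R R ≤ centralizer (LL V₂ R R : Set G) := by
    refine Mix.LL_le fun g hg => ?_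
    intro x hx
    rw [mem_centralizer_iff]
    intro y hy
    have h3 : g⁻¹ * y * g ∈ LL V₂ R R :=
      conj_inv_mem_of_normalizer (normalizer_le_LL V₂ R R (cj_eq_self_iff.1 hg)) hy
    have h4 := mem_centralizer_iff.1 (h1 h3) _ (mem_cj.1 hx)
    calc y * x = g * (g⁻¹ * y * g * (g⁻¹ * x * g)) * g⁻¹ := by group
      _ = g * (g⁻¹ * x * g * (g⁻¹ * y * g)) * g⁻¹ := by rw [h4]
      _ = x * y := by group
  exact (mem_centralizer_iff.1 (h2 ha) b hb).symm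

/-- `|F₁| = |F₂|` -/
theorem card_eq : Nat.card F₁ = Nat.card F₂ := by
  obtain ⟨g, hg, h⟩ := m.exists_partner
  exact (pair M₁ (M₂.conj g) h).1

/-- `W₂(R)` induces the full root group on `V₁` -/
theorem full {w : Fin 2 → F₁} (hw : w ≠ 0) (hR : R = M₁.line w) : M₁.Full (LL V₂ R R) w := by
  obtain ⟨g, hg, h⟩ := m.exists_partner
  obtain ⟨-, w₁, w', hq, hq', hl, -⟩ := pair M₁ (M₂.conj g) h
  have h1 : R = M₁.line w₁ := by
    refine Subgroup.eq_of_le_of_card_ge ?_ ?_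
    · rw [← hl]
      refine le_inf m.RV ?_
      have h2 := cj_mono (g := g) m.symm.RV
      rwa [cj_eq_self_iff.2 hg] at h2
    · rw [M₁.card_line hq.ne, hR, M₁.card_line hw]
  have h2 : M₁.line w = M₁.line w₁ := by rw [← hR, h1]
  obtain ⟨c, hc⟩ := (M₁.line_eq_iff hw).1 h2
  have hc0 : c ≠ 0 := by
    rintro rfl
    rw [zero_smul] at hc
    exact hw hc
  have h3 : M₁.Full (cj g V₂) w₁ := hq.full
  rw [hc]
  exact (h3.mono (cj_le_LL (cj_eq_self_iff.2 hg))).smul hc0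


theorem atR {w : Fin 2 → F₁} (hw : w ≠ 0) (hR : R = M₁.line w) : AtR M₁ V₂ R w where
  ne := hw
  line := hR
  R_le := m.symm.RV
  UW := m.symm.C_le_QQ.trans (m.QQ_le_UW hw hR)
  full := m.full hw hR
  comm := fun _ hc _ hb => m.symm.QC (m.C_le_QQ hc) hb
  comm₁ := m.comm₁
  sq₁ := sq_of_comm_LL m.comm₁ fun _ hv => M₁.sq hv
  comm₂ := m.comm₂
  sq₂ := sq_of_comm_LL m.comm₂ fun _ hv => M₂.sq hv

theorem sideW : SideW V₁ (pt M₁) (fun i => LL V₂ R (pt M₁ i)) (fun i => LL V₁ R (pt M₁ i)) := by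
  obtain ⟨w, hw, hR⟩ := m.line₁
  exact (m.atR hw hR).sideW

/-- `V₁ ≤ Z(Q)` for `Q = O₂(N(K))`, `N₁ ≤ N(K)` -/
theorem le_center {S : Sylow 2 G} (hS : (S : Subgroup G) ≤ N₁) (hSR : (S : Subgroup G) ≤ normalizer (R : Set G))
    {K : Subgroup G} (hVK : N₁ ≤ normalizer (K : Set G))
    (hQc : ∀ x ∈ normalizer (K : Set G), (∀ q ∈ O2 (normalizer (K : Set G)), x * q = q * x) →
      x ∈ O2 (normalizer (K : Set G))) :
    ∀ v ∈ V₁, v ∈ O2 (normalizer (K : Set G)) ∧ ∀ q ∈ O2 (normalizer (K : Set G)), q * v = v * q := by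
  set Q := O2 (normalizer (K : Set G)) with hQ
  have hQn : normalizer (K : Set G) ≤ normalizer (Q : Set G) := le_normalizer_O2 _
  have hQS : Q ≤ (S : Subgroup G) := by
    have : Fact (Nat.Prime 2) := ⟨Nat.prime_two⟩
    have h3 : IsPGroup 2 ((S : Subgroup G) ⊔ Q : Subgroup G) :=
      S.isPGroup'.to_sup_of_normal_right' (O2_isPGroup _) ((hS.trans hVK).trans hQn)
    have h4 := S.is_maximal' h3 le_sup_left
    exact le_sup_right.trans_eq h4
  obtain ⟨z, hzR, hzS, hz1, -, hzc⟩ := exists_central m.R_pGroup hSR m.R_ne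
  have hzV := m.RV hzR
  have hzQ : z ∈ Q := hQc z (hVK (hS hzS)) fun q hq => (hzc q (hQS hq)).symm
  intro v hv
  by_cases hv1 : v = 1
  · rw [hv1]
    exact ⟨one_mem _, fun q _ => by rw [mul_one, one_mul]⟩
  · obtain ⟨l, hl, rfl⟩ := M₁.trans hzV hz1 hv hv1
    have hlQ := hQn (hVK hl)
    refine ⟨conj_mem_of_normalizer hlQ hzQ, fun q hq => ?_⟩
    have h1 : l⁻¹ * q * l ∈ Q := conj_inv_mem_of_normalizer hlQ hq
    have h2 := hzc _ (hQS h1)
    calc q * (l * z * l⁻¹) = l * (l⁻¹ * q * l * z) * l⁻¹ := by group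
      _ = l * (z * (l⁻¹ * q * l)) * l⁻¹ := by rw [h2]
      _ = l * z * l⁻¹ * q := by group

/-- **(NL)** -/
theorem nl {K : Subgroup G} (hK : IsPGroup 2 K) (h₁ : N₁ ≤ normalizer (K : Set G))
    (h₂ : N₂ ≤ normalizer (K : Set G)) (hR : normalizer (R : Set G) ≤ normalizer (K : Set G)) : K = ⊥ := by
  by_contra hne
  have hch := m.char K hK hne
  obtain ⟨S, hS1, hS2, hS3⟩ := m.sylow
  have k1 := m.le_center hS1 hS3 h₁ hch
  have k2 := m.symm.le_center hS2 hS3 h₂ hch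
  obtain ⟨g, hg, h⟩ := m.exists_partner
  obtain ⟨v, hv, w, hw, hvw⟩ := h.ne
  apply hvw
  have hw' := k2 _ (mem_cj.1 hw)
  have hvQ := (k1 v hv).1
  have h5 : g⁻¹ * v * g ∈ O2 (normalizer (K : Set G)) :=
    conj_inv_mem_of_normalizer (le_normalizer_O2 _ (hR hg)) hvQ
  have h6 := hw'.2 _ h5
  calc v * w = g * (g⁻¹ * v * g * (g⁻¹ * w * g)) * g⁻¹ := by group
    _ = g * (g⁻¹ * w * g * (g⁻¹ * v * g)) * g⁻¹ := by rw [h6]
    _ = w * v := by group

theorem two {S : Sylow 2 G} (h₁ : (S : Subgroup G) ≤ N₁) (h₂ : (S : Subgroup G) ≤ N₂)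
    (h₃ : (S : Subgroup G) ≤ normalizer (R : Set G)) : ∃ (i : Pt M₁) (j : Pt M₂), pt M₁ i = R ∧ pt M₂ j = R ∧
      TwoW V₁ V₂ (pt M₁) (fun i => LL V₂ R (pt M₁ i)) (fun i => LL V₁ R (pt M₁ i)) (pt M₂)
        (fun i => LL V₁ R (pt M₂ i)) (fun i => LL V₂ R (pt M₂ i)) i j S := by
  obtain ⟨w, hw, hR⟩ := m.line₁
  obtain ⟨w', hw', hR'⟩ := m.line₂
  refine ⟨⟨R, w, hw, hR⟩, ⟨R, w', hw', hR'⟩, rfl, rfl, ?_⟩
  exact
    { s₁ := m.sideW
      s₂ := m.symm.sideW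
      hR := rfl
      hB := rfl
      hC := rfl
      ch := m.char R m.R_pGroup m.R_ne
      NL := fun K hK k1 k2 k3 => m.nl hK (M₁.le_ST.trans k1) (M₂.le_ST.trans k2) k3
      SV₁ := h₁.trans M₁.le_ST
      SV₂ := h₂.trans M₂.le_ST
      SR := h₃
      gen₁ := fun K hK => Mix.LL_le fun g hg => hK g (cj_eq_self_iff.1 hg)
      gen₂ := fun K hK => Mix.LL_le fun g hg => hK g (cj_eq_self_iff.1 hg) }

/-- **`Z(S) ≤ R`** -/
theorem center_le (h4 : 4 ≤ Nat.card F₁) {S : Sylow 2 G} (h₁ : (S : Subgroup G) ≤ N₁) (h₂ : (S : Subgroup G) ≤ N₂)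
    (h₃ : (S : Subgroup G) ≤ normalizer (R : Set G)) {z : G} (hz : ∀ s ∈ (S : Subgroup G), s * z = z * s) :
    z ∈ R := by
  obtain ⟨i, j, hi, hj, t⟩ := m.two h₁ h₂ h₃
  obtain ⟨w, hw, hR⟩ := m.line₁
  obtain ⟨w', hw', hR'⟩ := m.line₂
  obtain ⟨c, hc0, hc1⟩ := exists_ne_zero_one h4
  obtain ⟨c', hc0', hc1'⟩ := exists_ne_zero_one (by rw [← m.card_eq]; exact h4 : 4 ≤ Nat.card F₂)
  have hQS := QQ_le_sylow h₃
  have h5 := t.center_le (z := z) (by rw [hi]; exact (m.atR hw hR).exists_torus hc0 hc1)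
    (by rw [hj]; exact (m.symm.atR hw' hR').exists_torus hc0' hc1')
    (by rw [hi]; exact m.symm.C_le_QQ.trans hQS)
    (by rw [hi]; exact m.C_le_QQ.trans hQS)
    (fun x hx => (hz x hx).symm)
  rwa [hi] at h5

theorem mixedN (h4 : 4 ≤ Nat.card F₁) : MixedN M₁ M₂ R where
  line₁ := m.line₁
  line₂ := m.line₂
  sylow := by
    obtain ⟨S, h1, h2, h3⟩ := m.sylow
    exact ⟨S, h1, h2, h3, fun z _ _ hz => m.center_le h4 h1 h2 h3 hz⟩
  char := m.char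
  comm₁ := m.comm₁
  comm₂ := m.comm₂
  ne := m.ne

end both

end MixedW

end Cfsg.Agent.Omega.MixOne
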