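import Cfsg.Agent.Omega.MixOne.Main

/-!
# II.0h1, mixed pairs, `q = 2`: one side (`|V| = 4`)

* `SideW.dich` : for `w ∈ C i`, `k ≠ i` : `w ∈ V D` or `[w, u] ∈ ρ B₀` for some `u ∈ T k`, `R k = {1, ρ}`;
* `SideW.C_le` : `C i ≤ U Y` for a subgroup `U ≥ R i` invariant under `X` and `C(Y)`;
* `SideW.exists_three` : an element of order a power of 3 in `X`, permuting the points of `V` transitively.
-/

set_option autoImplicit false
set_option linter.unusedSectionVars false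

namespace Cfsg.Agent.Omega.MixOne

open Subgroup Cfsg.Agent.Omega.BTwo Cfsg.Agent.Omega.Mix

variable {G : Type*} [Group G] {ι : Type*}

/-- the elements of a four-group -/
theorem mem_four [Finite G] {V : Subgroup G} (hc : Nat.card V = 4) {ρ σ : G} (hρ : ρ ∈ V) (hσ : σ ∈ V) (h1 : ρ ≠ 1)
    (h2 : σ ≠ 1) (h3 : ρ ≠ σ) (hρρ : ρ * ρ = 1) : ∀ v ∈ V, v = 1 ∨ v = ρ ∨ v = σ ∨ v = ρ * σ := by
  classical
  have e1 : ρ * σ ≠ 1 := by
    intro h
    apply h3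
    calc ρ = ρ * (ρ * σ) := by rw [h, mul_one]
      _ = σ := by rw [← mul_assoc, hρρ, one_mul]
  have e2 : ρ * σ ≠ ρ := fun h => h2 (mul_eq_left.1 h)
  have e3 : ρ * σ ≠ σ := fun h => h1 (mul_eq_right.1 h)
  have h4 : ({1, ρ, σ, ρ * σ} : Finset G).card = 4 := by
    rw [Finset.card_insert_of_notMem, Finset.card_insert_of_notMem, Finset.card_insert_of_notMem,
      Finset.card_singleton]
    · simp only [Finset.mem_singleton]; exact e3.symm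
    · simp only [Finset.mem_insert, Finset.mem_singleton, not_or]; exact ⟨h3, e2.symm⟩
    · simp only [Finset.mem_insert, Finset.mem_singleton, not_or]
      exact ⟨h1.symm, h2.symm, e1.symm⟩
  have hs : ((({1, ρ, σ, ρ * σ} : Finset G) : Finset G) : Set G) ⊆ (V : Set G) := by
    intro x hx
    simp only [Finset.coe_insert, Finset.coe_singleton, Set.mem_insert_iff, Set.mem_singleton_iff] at hx
    rcases hx with rfl | rfl | rfl | rfl
    · exact one_mem _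
    · exact hρ
    · exact hσ
    · exact V.mul_mem hρ hσ
  have h5 : (V : Set G).ncard = 4 := by
    rw [← hc]; rfl
  have h6 := Set.eq_of_subset_of_ncard_le hs (by rw [h5, Set.ncard_coe_finset, h4]) (Set.toFinite _)
  intro v hv
  have h7 : v ∈ (V : Set G) := hv
  rw [← h6] at h7
  simpa using h7

/-- the normaliser of a group of order 2 -/
theorem normalizer_two {K : Subgroup G} {r : G} (h : ∀ g, g ∈ K ↔ g = 1 ∨ g = r) (hr : r ≠ 1) :
    normalizer (K : Set G) = centralizer ({r} : Set G) := by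
  ext g
  rw [mem_centralizer_singleton_iff]
  constructor
  · intro hg
    have h1 := conj_mem_of_normalizer hg ((h r).2 (Or.inr rfl))
    rcases (h _).1 h1 with h2 | h2
    · exfalso
      apply hr
      have e : r = g⁻¹ * (g * r * g⁻¹) * g := by group
      rw [e, h2]; group
    · exact mul_inv_eq_iff_eq_mul.1 h2
  · intro hg
    rw [mem_normalizer_iff]
    intro x
    rw [h, h]
    have e : g * r * g⁻¹ = r := by rw [hg, mul_inv_cancel_right]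
    constructor
    · rintro (rfl | rfl)
      · left; group
      · right; exact e
    · rintro (h1 | h1)
      · left
        have e2 : x = g⁻¹ * (g * x * g⁻¹) * g := by group
        rw [e2, h1]; group
      · right
        have e2 : x = g⁻¹ * (g * x * g⁻¹) * g := by group
        rw [e2, h1, mul_assoc, ← hg]; group

namespace SideW

variable {V : Subgroup G} {R B C : ι → Subgroup G} (s : SideW V R B C)
include s

/-- `[T m, T k] ≤ B₀` -/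
theorem TT_B0 {m k : ι} (hmk : m ≠ k) {t u : G} (ht : t ∈ TT V (B m)) (hu : u ∈ TT V (B k)) :
    t * u * t⁻¹ * u⁻¹ ∈ ⨅ l, B l := by
  refine s.mem_B0 hmk ?_ ?_
  · exact TT_le _ _ (s.comm_mem_T' (mem_TT.1 hu).2 (TT_le _ _ ht))
  · exact TT_le _ _ (s.comm_mem_T (mem_TT.1 ht).2 (TT_le _ _ hu))

/-- for `|V| = 4` : an element of `B k` commuting with an element of `V` outside `R k` commutes with `V` -/
theorem comm_of [Finite G] (hc : Nat.card V = 4) {k : ι} {ρ : G} (hρ1 : ρ ≠ 1) (hρ : ∀ g, g ∈ R k ↔ g = 1 ∨ g = ρ)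
    {b v₀ : G} (hb : b ∈ B k) (hv₀ : v₀ ∈ V) (hv₁ : v₀ ∉ R k) (h : b * v₀ = v₀ * b) : ∀ v ∈ V, b * v = v * b := by
  have hρR : ρ ∈ R k := (hρ ρ).2 (Or.inr rfl)
  have hρV := s.R_V k hρR
  have h1 : b * ρ = ρ * b := s.B_comm k b hb ρ (s.R_B k hρR)
  have h0 : v₀ ≠ 1 := fun h => hv₁ (by rw [h]; exact one_mem _)
  have h2 : ρ ≠ v₀ := fun h => hv₁ (by rw [← h]; exact hρR)
  intro v hv
  rcases mem_four hc hρV hv₀ hρ1 h0 h2 (s.B_sq k ρ (s.R_B k hρR)) v hv with rfl | rfl | rfl | rfl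
  · rw [mul_one, one_mul]
  · exact h1
  · exact h
  · rw [← mul_assoc, h1, mul_assoc, h, mul_assoc]

variable (hRD : ∀ k, ∀ y ∈ YY (B k) (C k), ∃ ρ ∈ R k, ∃ d ∈ ⨅ m, YY (B m) (C m), y = ρ * d)

include hRD in
/-- **the dichotomy** -/
theorem dich [Finite G] (hc : Nat.card V = 4) {i k : ι} (hki : k ≠ i) {ρ : G} (hρ1 : ρ ≠ 1)
    (hρ : ∀ g, g ∈ R k ↔ g = 1 ∨ g = ρ) {w : G} (hw : w ∈ C i) :
    (∃ v ∈ V, ∃ d ∈ ⨅ m, YY (B m) (C m), w = v * d) ∨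
      ∃ u ∈ TT V (B k), ∃ β ∈ ⨅ m, B m, w * u * w⁻¹ * u⁻¹ = ρ * β := by
  obtain ⟨m, hmi, hmk, b, hb, e⟩ := s.trans_B i k
  obtain ⟨t, ht, hwt⟩ := s.split hb (s.C_V hw)
  have hck : b * w * b⁻¹ ∈ C k := by rw [← s.cC b i k e]; exact conj_mem_cj hw
  set c := b * w * b⁻¹ with hcdef
  have htV := (mem_TT.1 ht).2
  have hρR : ρ ∈ R k := (hρ ρ).2 (Or.inr rfl)
  -- `[w, u] = [c, u] [t, u]`
  have hwu : ∀ u ∈ TT V (B k), w * u * w⁻¹ * u⁻¹ = (c * u * c⁻¹ * u⁻¹) * (t * u * t⁻¹ * u⁻¹) := by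
    intro u hu
    have h1 := s.CB k c hck u (TT_le _ _ hu)
    have h2 := htV _ (s.R_V k h1)
    rw [hwt]
    calc t * c * u * (t * c)⁻¹ * u⁻¹ = (t * (c * u * c⁻¹ * u⁻¹)) * (u * t⁻¹ * u⁻¹) := by group
      _ = ((c * u * c⁻¹ * u⁻¹) * t) * (u * t⁻¹ * u⁻¹) := by rw [h2]
      _ = (c * u * c⁻¹ * u⁻¹) * (t * u * t⁻¹ * u⁻¹) := by group
  by_cases hall : ∀ u ∈ TT V (B k), w * u * w⁻¹ * u⁻¹ ∈ ⨅ l, B l
  swap
  · right
    push Not at hall
    obtain ⟨u, hu, hn⟩ := hall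
    have h1 := s.CB k c hck u (TT_le _ _ hu)
    have h2 := s.TT_B0 hmk ht hu
    have h3 := hwu u hu
    rcases (hρ _).1 h1 with h4 | h4
    · rw [h4, one_mul] at h3
      rw [h3] at hn
      exact absurd h2 hn
    · exact ⟨u, hu, _, h2, by rw [h3, h4]⟩
  left
  -- `c` commutes with `T k`
  have hcT : ∀ u ∈ TT V (B k), c * u = u * c := by
    intro u hu
    have h1 := s.CB k c hck u (TT_le _ _ hu)
    have h2 := s.TT_B0 hmk ht hu
    have h3 : c * u * c⁻¹ * u⁻¹ ∈ ⨅ l, B l := by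
      have h4 := mul_mem (hall u hu) (inv_mem h2)
      rw [hwu u hu, mul_inv_cancel_right] at h4
      exact h4
    exact comm_of_eq_one (s.D_R (s.B0_le_D h3) h1)
  -- an element of `B k` moving `V`
  obtain ⟨b₀, hb₀, hbV⟩ := s.exists_move hki
  push Not at hbV
  obtain ⟨v₀, hv₀, hne⟩ := hbV
  have hv₀k : v₀ ∉ R k := fun h => hne (s.B_comm k b₀ hb₀ v₀ (s.R_B k h))
  have hvb : v₀ * b₀ * v₀⁻¹ * b₀⁻¹ = ρ := by
    rcases (hρ _).1 (s.CB k v₀ (s.V_C k hv₀) b₀ hb₀) with h | h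
    · exact absurd (comm_of_eq_one h).symm hne
    · exact h
  have hρρ : ρ * ρ = 1 := s.B_sq k ρ (s.R_B k hρR)
  have dec : ∀ b' ∈ B k, b' ∈ TT V (B k) ∨ b₀ * b' ∈ TT V (B k) := by
    intro b' hb'
    rcases (hρ _).1 (s.CB k v₀ (s.V_C k hv₀) b' hb') with h | h
    · left
      exact mem_TT.2 ⟨hb', s.comm_of hc hρ1 hρ hb' hv₀ hv₀k (comm_of_eq_one h).symm⟩
    · right
      refine mem_TT.2 ⟨mul_mem hb₀ hb', s.comm_of hc hρ1 hρ (mul_mem hb₀ hb') hv₀ hv₀k (comm_of_eq_one ?_).symm⟩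
      have hb₀ρ : b₀ * ρ = ρ * b₀ := s.B_comm k b₀ hb₀ ρ (s.R_B k hρR)
      calc v₀ * (b₀ * b') * v₀⁻¹ * (b₀ * b')⁻¹
          = (v₀ * b₀ * v₀⁻¹ * b₀⁻¹) * (b₀ * (v₀ * b' * v₀⁻¹ * b'⁻¹)) * b₀⁻¹ := by group
        _ = ρ * (ρ * b₀) * b₀⁻¹ := by rw [hvb, h, hb₀ρ]
        _ = ρ * ρ := by group
        _ = 1 := hρρ
  -- `c = v' d`
  have hY : ∀ c' ∈ C k, (∀ u ∈ TT V (B k), c' * u = u * c') → c' * b₀ = b₀ * c' → c' ∈ YY (B k) (C k) := by
    intro c' hc' h1 h2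
    rw [mem_YY]
    refine ⟨fun b' hb' => ?_, fun a ha => s.C_comm k c' hc' a ha⟩
    rcases dec b' hb' with h | h
    · exact h1 b' h
    · have h3 := h1 _ h
      have h4 : b₀ * (c' * b') = b₀ * (b' * c') := by
        calc b₀ * (c' * b') = (b₀ * c') * b' := by group
          _ = c' * (b₀ * b') := by rw [← h2]; group
          _ = b₀ * b' * c' := h3
          _ = b₀ * (b' * c') := by group
      exact mul_left_cancel h4
  obtain ⟨v', hv', d, hd, hcv⟩ : ∃ v' ∈ V, ∃ d ∈ ⨅ m, YY (B m) (C m), c = v' * d := by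
    rcases (hρ _).1 (s.CB k c hck b₀ hb₀) with h | h
    · obtain ⟨ρ', hρ', d, hd, h1⟩ := hRD k c (hY c hck hcT (comm_of_eq_one h))
      exact ⟨ρ', s.R_V k hρ', d, hd, h1⟩
    · have h1 : v₀ * c ∈ YY (B k) (C k) := by
        refine hY (v₀ * c) (mul_mem (s.V_C k hv₀) hck) (fun u hu => ?_) (comm_of_eq_one ?_)
        · have h2 := hcT u hu
          have h3 := (mem_TT.1 hu).2 v₀ hv₀
          calc v₀ * c * u = v₀ * (c * u) := by group
            _ = (v₀ * u) * c := by rw [h2]; group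
            _ = u * (v₀ * c) := by rw [← h3]; group
        · have hvρ : v₀ * ρ = ρ * v₀ := s.V_comm hv₀ (s.R_V k hρR) k
          calc v₀ * c * b₀ * (v₀ * c)⁻¹ * b₀⁻¹
              = v₀ * (c * b₀ * c⁻¹ * b₀⁻¹) * (b₀ * v₀⁻¹ * b₀⁻¹) := by group
            _ = (v₀ * ρ) * (b₀ * v₀⁻¹ * b₀⁻¹) := by rw [h]
            _ = ρ * (v₀ * b₀ * v₀⁻¹ * b₀⁻¹) := by rw [hvρ]; group
            _ = 1 := by rw [hvb, hρρ]
      obtain ⟨ρ', hρ', d, hd, h2⟩ := hRD k _ h1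
      exact ⟨v₀⁻¹ * ρ', mul_mem (inv_mem hv₀) (s.R_V k hρ'), d, hd, by rw [mul_assoc, ← h2]; group⟩
  -- `t ∈ Y m`
  have htY : t ∈ YY (B m) (C m) := by
    rw [mem_YY]
    refine ⟨fun b' hb' => s.B_comm m t (TT_le _ _ ht) b' hb', fun c₁ hc₁ => ?_⟩
    obtain ⟨b', hb', e'⟩ := s.trans k m i hmk (Ne.symm hki)
    obtain ⟨t', ht', hct⟩ := s.split hb' (s.C_V hc₁)
    have hc₂ : b' * c₁ * b'⁻¹ ∈ C i := by rw [← s.cC b' m i e']; exact conj_mem_cj hc₁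
    set c₂ := b' * c₁ * b'⁻¹ with hc₂def
    -- `t` commutes with `c₂`
    have h1 : t * c₂ = c₂ * t := by
      have hw2 : w * c₂ = c₂ * w := s.C_comm i w hw c₂ hc₂
      have hv2 : v' * c₂ = c₂ * v' := s.C_comm i v' (s.V_C i hv') c₂ hc₂
      have hd2 : d * c₂ = c₂ * d := (mem_YY.1 (mem_iInf.1 hd i)).2 c₂ hc₂
      have hc2 : c * c₂ = c₂ * c := by
        rw [hcv]
        calc v' * d * c₂ = v' * (d * c₂) := by group
          _ = (v' * c₂) * d := by rw [hd2]; group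
          _ = c₂ * (v' * d) := by rw [hv2]; group
      have h3 : (t * c₂) * c = (c₂ * t) * c := by
        calc (t * c₂) * c = t * (c₂ * c) := by group
          _ = (t * c) * c₂ := by rw [← hc2]; group
          _ = c₂ * (t * c) := by rw [← hwt, hw2]
          _ = (c₂ * t) * c := by group
      exact mul_right_cancel h3
    have h2 : t * c₁ * t⁻¹ * c₁⁻¹ ∈ ⨅ l, B l := by
      have h3 : t * c₁ * t⁻¹ * c₁⁻¹ = t * t' * t⁻¹ * t'⁻¹ := by
        rw [hct]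
        calc t * (t' * c₂) * t⁻¹ * (t' * c₂)⁻¹ = t * t' * (c₂ * t⁻¹) * c₂⁻¹ * t'⁻¹ := by group
          _ = t * t' * (t⁻¹ * c₂) * c₂⁻¹ * t'⁻¹ := by
            have h1' : c₂ * t⁻¹ = t⁻¹ * c₂ := by
              calc c₂ * t⁻¹ = t⁻¹ * (t * c₂) * t⁻¹ := by group
                _ = t⁻¹ * (c₂ * t) * t⁻¹ := by rw [h1]
                _ = t⁻¹ * c₂ := by group
            rw [h1']
          _ = t * t' * t⁻¹ * t'⁻¹ := by group
      rw [h3]
      exact s.TT_B0 hmk ht ht'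
    have h3 : t * c₁ * t⁻¹ * c₁⁻¹ ∈ R m := by
      have h4 := inv_mem (s.CB m c₁ hc₁ t (TT_le _ _ ht))
      have e3 : (c₁ * t * c₁⁻¹ * t⁻¹)⁻¹ = t * c₁ * t⁻¹ * c₁⁻¹ := by group
      rwa [e3] at h4
    exact comm_of_eq_one (s.D_R (s.B0_le_D h2) h3)
  obtain ⟨ρ'', hρ'', d'', hd'', h5⟩ := hRD m t htY
  refine ⟨ρ'' * v', mul_mem (s.R_V m hρ'') hv', d'' * d, mul_mem hd'' hd, ?_⟩
  have h6 : d'' * v' = v' * d'' := (mem_YY.1 (mem_iInf.1 hd'' m)).2 v' (s.V_C m hv')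
  calc w = t * c := hwt
    _ = ρ'' * (d'' * v') * d := by rw [h5, hcv]; group
    _ = ρ'' * v' * (d'' * d) := by rw [h6]; group

/-- a point `R k` has an element of order 2, if `R i` has order 2 -/
theorem exists_rho [Finite G] {i : ι} {r : G} (hr1 : r ≠ 1) (hr : ∀ g, g ∈ R i ↔ g = 1 ∨ g = r) (k : ι) :
    ∃ ρ, ρ ≠ 1 ∧ ∀ g, g ∈ R k ↔ g = 1 ∨ g = ρ := by
  obtain ⟨m, -, -, x, -, e⟩ := s.trans_B i k
  refine ⟨x * r * x⁻¹, fun h => hr1 ?_, fun g => ?_⟩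
  · have e2 : r = x⁻¹ * (x * r * x⁻¹) * x := by group
    rw [e2, h]; group
  · rw [← e, mem_cj, hr]
    have e2 : g = x * (x⁻¹ * g * x) * x⁻¹ := by group
    constructor
    · rintro (h | h)
      · left; rw [e2, h]; group
      · right; rw [e2, h]
    · rintro (rfl | rfl)
      · left; group
      · right; group

include hRD in
/-- `C i ≤ U Y i` -/
theorem C_le [Finite G] (hc : Nat.card V = 4) {i : ι} {r : G} (hr1 : r ≠ 1) (hr : ∀ g, g ∈ R i ↔ g = 1 ∨ g = r)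
    {L U : Subgroup G} (hU : ∀ g ∈ L, ∀ u ∈ U, g * u * g⁻¹ ∈ U) (hX : ∀ k, B k ≤ L)
    (hK : centralizer (YY (B i) (C i) : Set G) ≤ L) (hrU : r ∈ U)
    (gen : ∀ K : Subgroup G, (∀ h ∈ normalizer (R i : Set G), cj h V ≤ K) → C i ≤ K) :
    C i ≤ U ⊔ YY (B i) (C i) := by
  have hRU : ∀ k, R k ≤ U := by
    intro k
    obtain ⟨m, -, -, x, hx, e⟩ := s.trans_B i k
    rw [← e, cj_le_iff]
    intro g hg
    refine hU x (hX m hx) g ?_
    rcases (hr g).1 hg with rfl | rfl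
    · exact one_mem _
    · exact hrU
  obtain ⟨k, hki, -⟩ := s.third i i
  obtain ⟨ρ, hρ1, hρ⟩ := s.exists_rho hr1 hr k
  have hrR : r ∈ R i := (hr r).2 (Or.inr rfl)
  have hρR : ρ ∈ R k := (hρ ρ).2 (Or.inr rfl)
  have hrρ : r ≠ ρ := by
    intro h
    have h1 : r ∈ R i ⊓ R k := ⟨hrR, by rw [h]; exact hρR⟩
    rw [s.R_inf i k (Ne.symm hki)] at h1
    exact hr1 (mem_bot.1 h1)
  have hV4 := mem_four hc (s.R_V i hrR) (s.R_V k hρR) hr1 hρ1 hrρ (s.B_sq i r (s.R_B i hrR))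
  have hYU : YY (B i) (C i) ≤ U ⊔ YY (B i) (C i) := le_sup_right
  have hUU : U ≤ U ⊔ YY (B i) (C i) := le_sup_left
  refine gen _ fun h hh => ?_
  rw [cj_le_iff]
  have hhr : h * r * h⁻¹ ∈ U ⊔ YY (B i) (C i) := by
    have h1 := conj_mem_of_normalizer hh hrR
    exact hUU (hRU i h1)
  -- the element `ρ`
  have hhρ : h * ρ * h⁻¹ ∈ U ⊔ YY (B i) (C i) := by
    have hw : h⁻¹ * ρ * h ∈ C i := conj_inv_mem_of_normalizer (s.nC i hh) (s.V_C i (s.R_V k hρR))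
    rcases s.dich hRD hc hki hρ1 hρ hw with ⟨v, hv, d, hd, h1⟩ | ⟨u, hu, β, hβ, h1⟩
    · have hdY : h * d * h⁻¹ ∈ YY (B i) (C i) := conj_mem_of_normalizer (s.nY i hh) (mem_iInf.1 hd i)
      have h2 : ρ = (h * v * h⁻¹) * (h * d * h⁻¹) := by
        calc ρ = h * (h⁻¹ * ρ * h) * h⁻¹ := by group
          _ = h * (v * d) * h⁻¹ := by rw [h1]
          _ = (h * v * h⁻¹) * (h * d * h⁻¹) := by group
      have h3 : h * v * h⁻¹ = ρ * (h * d * h⁻¹)⁻¹ := by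
        rw [eq_mul_inv_iff_mul_eq]; exact h2.symm
      have h4 : h * v * h⁻¹ ∈ U ⊔ YY (B i) (C i) := by
        rw [h3]
        exact mul_mem (hUU (hRU k hρR)) (inv_mem (hYU hdY))
      have hno : v ∉ R i := by
        intro hv'
        have h5 : ρ ∈ YY (B i) (C i) := by
          rw [h2]
          exact mul_mem (s.R_Y i (conj_mem_of_normalizer hh hv')) hdY
        have h6 : ρ ∈ R i := s.VB i ρ (s.R_V k hρR) fun b hb => ((mem_YY.1 h5).1 b hb).symm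
        rcases (hr ρ).1 h6 with h7 | h7
        · exact hρ1 h7
        · exact hrρ h7.symm
      rcases hV4 v hv with rfl | rfl | rfl | rfl
      · exact absurd (one_mem _) hno
      · exact absurd hrR hno
      · exact h4
      · have e : h * ρ * h⁻¹ = (h * r * h⁻¹)⁻¹ * (h * (r * ρ) * h⁻¹) := by group
        rw [e]
        exact mul_mem (inv_mem hhr) h4
    · have huK : u ∈ centralizer (YY (B i) (C i) : Set G) := by
        rw [mem_centralizer_iff]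
        intro y hy
        obtain ⟨ρ', hρ', d, hd, rfl⟩ := hRD i y hy
        have h2 := (mem_TT.1 hu).2 ρ' (s.R_V i hρ')
        have h3 := D_comm hd k u (TT_le _ _ hu)
        calc ρ' * d * u = ρ' * (d * u) := by group
          _ = (ρ' * u) * d := by rw [h3]; group
          _ = u * (ρ' * d) := by rw [← h2]; group
      have hu' : h * u * h⁻¹ ∈ L := by
        refine hK (conj_mem_of_normalizer (normalizer_le_normalizer_centralizer _ (s.nY i hh)) huK)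
      have hβ' : h * β * h⁻¹ ∈ YY (B i) (C i) :=
        conj_mem_of_normalizer (s.nY i hh) (mem_iInf.1 (s.B0_le_D hβ) i)
      have h2 : h * ρ * h⁻¹ = ρ * ((h * u * h⁻¹) * ρ⁻¹ * (h * u * h⁻¹)⁻¹) * (h * β * h⁻¹)⁻¹ := by
        have e1 : ρ = (h⁻¹ * ρ * h) * u * (h⁻¹ * ρ * h)⁻¹ * u⁻¹ * β⁻¹ := by rw [h1, mul_inv_cancel_right]
        calc h * ρ * h⁻¹ = h * ((h⁻¹ * ρ * h) * u * (h⁻¹ * ρ * h)⁻¹ * u⁻¹ * β⁻¹) * h⁻¹ := by rw [← e1]
          _ = ρ * ((h * u * h⁻¹) * ρ⁻¹ * (h * u * h⁻¹)⁻¹) * (h * β * h⁻¹)⁻¹ := by group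
      rw [h2]
      exact mul_mem (mul_mem (hUU (hRU k hρR)) (hUU (hU _ hu' _ (inv_mem (hRU k hρR))))) (inv_mem (hYU hβ'))
  intro v hv
  rcases hV4 v hv with rfl | rfl | rfl | rfl
  · have e : h * 1 * h⁻¹ = 1 := by group
    rw [e]; exact one_mem _
  · exact hhr
  · exact hhρ
  · have e : h * (r * ρ) * h⁻¹ = (h * r * h⁻¹) * (h * ρ * h⁻¹) := by group
    rw [e]; exact mul_mem hhr hhρ

/-- an element of order a power of 3 of `X` -/
theorem exists_three [Finite G] (hc : Nat.card V = 4) {i : ι} {r : G} (hr1 : r ≠ 1)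
    (hr : ∀ g, g ∈ R i ↔ g = 1 ∨ g = r) : ∃ k, k ≠ i ∧ ∃ ρ, ρ ≠ 1 ∧ (∀ g, g ∈ R k ↔ g = 1 ∨ g = ρ) ∧ r ≠ ρ ∧
      ∃ x ∈ ⨆ k, B k, (∃ n : ℕ, x ^ 3 ^ n = 1) ∧ x * r * x⁻¹ = ρ ∧ x * ρ * x⁻¹ = r * ρ := by
  obtain ⟨k, hki, -⟩ := s.third i i
  obtain ⟨ρ, hρ1, hρ⟩ := s.exists_rho hr1 hr k
  have hrR : r ∈ R i := (hr r).2 (Or.inr rfl)
  have hρR : ρ ∈ R k := (hρ ρ).2 (Or.inr rfl)
  have hrρ : r ≠ ρ := by
    intro h
    have h1 : r ∈ R i ⊓ R k := ⟨hrR, by rw [h]; exact hρR⟩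
    rw [s.R_inf i k (Ne.symm hki)] at h1
    exact hr1 (mem_bot.1 h1)
  have hrr := s.B_sq i r (s.R_B i hrR)
  have hρρ := s.B_sq k ρ (s.R_B k hρR)
  have hV4 := mem_four hc (s.R_V i hrR) (s.R_V k hρR) hr1 hρ1 hrρ hrr
  have hrρc : r * ρ = ρ * r := s.V_comm (s.R_V i hrR) (s.R_V k hρR) i
  refine ⟨k, hki, ρ, hρ1, hρ, hrρ, ?_⟩
  obtain ⟨b, hb, hbV⟩ := s.exists_move (Ne.symm hki)
  obtain ⟨c, hcB, hcV⟩ := s.exists_move hki
  have hbr : b * r * b⁻¹ = r := by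
    rw [s.B_comm i b hb r (s.R_B i hrR), mul_inv_cancel_right]
  have hcρ : c * ρ * c⁻¹ = ρ := by
    rw [s.B_comm k c hcB ρ (s.R_B k hρR), mul_inv_cancel_right]
  have hback : ∀ g x y : G, g * x * g⁻¹ = y → x = g⁻¹ * y * g := by
    rintro g x _ rfl; group
  have hbρ : b * ρ * b⁻¹ = r * ρ := by
    rcases hV4 _ (conj_mem_of_normalizer (s.B_NV i hb) (s.R_V k hρR)) with h | h | h | h
    · exfalso; apply hρ1; rw [hback _ _ _ h]; group
    · exfalso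
      apply hrρ
      have h1 := hback _ _ _ h
      have h2 := hback _ _ _ hbr
      rw [h1, ← h2]
    · exfalso
      apply hbV
      exact s.comm_of hc hr1 hr hb (s.R_V k hρR) (fun h1 => by
        rcases (hr ρ).1 h1 with h2 | h2
        · exact hρ1 h2
        · exact hrρ h2.symm) (mul_inv_eq_iff_eq_mul.1 h)
    · exact h
  have hcr : c * r * c⁻¹ = r * ρ := by
    rcases hV4 _ (conj_mem_of_normalizer (s.B_NV k hcB) (s.R_V i hrR)) with h | h | h | h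
    · exfalso; apply hr1; rw [hback _ _ _ h]; group
    · exfalso
      apply hcV
      exact s.comm_of hc hρ1 hρ hcB (s.R_V i hrR) (fun h1 => by
        rcases (hρ r).1 h1 with h2 | h2
        · exact hr1 h2
        · exact hrρ h2) (mul_inv_eq_iff_eq_mul.1 h)
    · exfalso
      apply hrρ
      have h1 := hback _ _ _ h
      have h2 := hback _ _ _ hcρ
      rw [h1, ← h2]
    · exact h
  -- `g = b c`
  set g := b * c with hg
  have g1 : g * r * g⁻¹ = ρ := by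
    calc g * r * g⁻¹ = b * (c * r * c⁻¹) * b⁻¹ := by rw [hg]; group
      _ = (b * r * b⁻¹) * (b * ρ * b⁻¹) := by rw [hcr]; group
      _ = r * r * ρ := by rw [hbr, hbρ]; group
      _ = ρ := by rw [hrr, one_mul]
  have g2 : g * ρ * g⁻¹ = r * ρ := by
    calc g * ρ * g⁻¹ = b * (c * ρ * c⁻¹) * b⁻¹ := by rw [hg]; group
      _ = r * ρ := by rw [hcρ, hbρ]
  have g3 : g * (r * ρ) * g⁻¹ = r := by
    calc g * (r * ρ) * g⁻¹ = (g * r * g⁻¹) * (g * ρ * g⁻¹) := by group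
      _ = ρ * (r * ρ) := by rw [g1, g2]
      _ = r * (ρ * ρ) := by rw [← mul_assoc, ← hrρc]; group
      _ = r := by rw [hρρ, mul_one]
  have g3r : g ^ 3 * r * (g ^ 3)⁻¹ = r := by
    calc g ^ 3 * r * (g ^ 3)⁻¹ = g * (g * (g * r * g⁻¹) * g⁻¹) * g⁻¹ := by
          rw [pow_succ, pow_two]; group
      _ = r := by rw [g1, g2, g3]
  have g3ρ : g ^ 3 * ρ * (g ^ 3)⁻¹ = ρ := by
    calc g ^ 3 * ρ * (g ^ 3)⁻¹ = g * (g * (g * ρ * g⁻¹) * g⁻¹) * g⁻¹ := by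
          rw [pow_succ, pow_two]; group
      _ = ρ := by rw [g2, g3, g1]
  have hgX : g ∈ ⨆ k, B k := mul_mem (mem_iSup_of_mem i hb) (mem_iSup_of_mem k hcB)
  obtain ⟨a, m, hm, ho⟩ := Nat.exists_eq_pow_mul_and_not_dvd (n := orderOf g) (orderOf_pos g).ne' 3 (by norm_num)
  obtain ⟨q, hq⟩ : ∃ q, m * m = 3 * q + 1 := by
    have h1 : m % 3 = 1 ∨ m % 3 = 2 := by omega
    refine ⟨m * m / 3, ?_⟩
    have h2 : m * m % 3 = 1 := by
      rcases h1 with h1 | h1 <;> simp [Nat.mul_mod, h1]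
    omega
  have hpow : g ^ (m * m) = (g ^ 3) ^ q * g := by
    rw [hq, pow_succ, pow_mul]
  have key : ∀ v : G, g ^ 3 * v * (g ^ 3)⁻¹ = v → (g ^ 3) ^ q * v * ((g ^ 3) ^ q)⁻¹ = v := by
    intro v hv
    have h1 : Commute (g ^ 3) v := mul_inv_eq_iff_eq_mul.1 hv
    have h2 : (g ^ 3) ^ q * v = v * (g ^ 3) ^ q := (h1.pow_left q).eq
    rw [h2, mul_inv_cancel_right]
  refine ⟨g ^ (m * m), pow_mem hgX _, ⟨a, ?_⟩, ?_, ?_⟩
  · rw [← pow_mul]
    have e : m * m * 3 ^ a = orderOf g * m := by rw [ho]; ring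
    rw [e, pow_mul, pow_orderOf_eq_one, one_pow]
  · rw [hpow]
    calc (g ^ 3) ^ q * g * r * ((g ^ 3) ^ q * g)⁻¹ = (g ^ 3) ^ q * (g * r * g⁻¹) * ((g ^ 3) ^ q)⁻¹ := by group
      _ = ρ := by rw [g1, key ρ g3ρ]
  · rw [hpow]
    have h1 : (g ^ 3) ^ q * (r * ρ) * ((g ^ 3) ^ q)⁻¹ = r * ρ := by
      calc (g ^ 3) ^ q * (r * ρ) * ((g ^ 3) ^ q)⁻¹
          = ((g ^ 3) ^ q * r * ((g ^ 3) ^ q)⁻¹) * ((g ^ 3) ^ q * ρ * ((g ^ 3) ^ q)⁻¹) := by group
        _ = r * ρ := by rw [key r g3r, key ρ g3ρ]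
    calc (g ^ 3) ^ q * g * ρ * ((g ^ 3) ^ q * g)⁻¹ = (g ^ 3) ^ q * (g * ρ * g⁻¹) * ((g ^ 3) ^ q)⁻¹ := by group
      _ = r * ρ := by rw [g2, h1]

end SideW

end Cfsg.Agent.Omega.MixOne
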