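import Cfsg.Agent.Omega.Mix.Two
import Cfsg.Agent.Omega.BTwo.Avg

/-!
# TEXT MIX without the fixed point hypothesis (bb OMEGA #13275, (2) - (4)): one side, field-free

`SideW` is `Mix.Side` without the field `fix` (i.e. without `C_V(E) = 1`), with `VB : C_V(B i) = R i` added.
`B₀ = ⨅ k, B k`, `D = ⨅ k, C_G(B k C k)`.  Main result: `SideW.exists_D` : `C_G(B i C i) ≤ T i · D`.
-/

set_option autoImplicit false

namespace Cfsg.Agent.Omega.MixOne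

open Subgroup Cfsg.Agent.Omega.BTwo Cfsg.Agent.Omega.Mix

variable {G : Type*} [Group G] {ι : Type*}

/-- the situation at a line `V` with points `R i`, without the fixed point hypothesis -/
structure SideW (V : Subgroup G) (R B C : ι → Subgroup G) : Prop where
  third : ∀ i j : ι, ∃ k, k ≠ i ∧ k ≠ j
  V_C : ∀ i, V ≤ C i
  R_V : ∀ i, R i ≤ V
  R_B : ∀ i, R i ≤ B i
  R_ne : ∀ i, R i ≠ ⊥
  R_inf : ∀ i j, i ≠ j → R i ⊓ R j = ⊥
  B_comm : ∀ i, ∀ a ∈ B i, ∀ b ∈ B i, a * b = b * a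
  B_sq : ∀ i, ∀ a ∈ B i, a * a = 1
  C_comm : ∀ i, ∀ a ∈ C i, ∀ b ∈ C i, a * b = b * a
  C_sq : ∀ i, ∀ a ∈ C i, a * a = 1
  CB : ∀ i, ∀ c ∈ C i, ∀ b ∈ B i, c * b * c⁻¹ * b⁻¹ ∈ R i
  B_NV : ∀ i, B i ≤ normalizer (V : Set G)
  nB : ∀ i, normalizer (R i : Set G) ≤ normalizer (B i : Set G)
  nC : ∀ i, normalizer (R i : Set G) ≤ normalizer (C i : Set G)
  perm : ∀ m, ∀ g ∈ B m, ∀ i, ∃ j, cj g (R i) = R j
  cB : ∀ g i j, cj g (R i) = R j → cj g (B i) = B j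
  cC : ∀ g i j, cj g (R i) = R j → cj g (C i) = C j
  trans : ∀ i j k, j ≠ i → k ≠ i → ∃ b ∈ B i, cj b (R j) = R k
  free : ∀ i j, j ≠ i → ∀ b ∈ B i, cj b (R j) = R j → ∀ v ∈ V, b * v = v * b
  VB : ∀ i, ∀ v ∈ V, (∀ b ∈ B i, b * v = v * b) → v ∈ R i

namespace SideW

variable {V : Subgroup G} {R B C : ι → Subgroup G} (s : SideW V R B C)
include s

theorem toSide (fix : ∀ K : Subgroup G, IsPGroup 2 K → ST V R ≤ normalizer (K : Set G) →
    ∀ i j, i ≠ j → (∀ k ∈ K, ∀ b ∈ B i, b * k = k * b) → (∀ k ∈ K, ∀ b ∈ B j, b * k = k * b) → K = ⊥) :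
    Side V R B C where
  third := s.third
  V_C := s.V_C
  R_V := s.R_V
  R_B := s.R_B
  R_ne := s.R_ne
  R_inf := s.R_inf
  B_comm := s.B_comm
  B_sq := s.B_sq
  C_comm := s.C_comm
  C_sq := s.C_sq
  CB := s.CB
  B_NV := s.B_NV
  nB := s.nB
  nC := s.nC
  perm := s.perm
  cB := s.cB
  cC := s.cC
  trans := s.trans
  free := s.free
  fix := fix

theorem R_index {i j : ι} (h : R i = R j) : i = j := by
  by_contra hne
  have := s.R_inf i j hne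
  rw [h, inf_idem] at this
  exact s.R_ne j this

theorem cV_le_NR {g : G} (hg : ∀ v ∈ V, g * v = v * g) (i : ι) : g ∈ normalizer (R i : Set G) := by
  rw [mem_normalizer_iff]
  intro x
  constructor
  · intro hx
    rw [hg x (s.R_V i hx), mul_inv_cancel_right]
    exact hx
  · intro hx
    have h1 := s.R_V i hx
    have h2 : g * (g * x * g⁻¹) * g⁻¹ = g * x * g⁻¹ := by
      rw [hg _ h1, mul_inv_cancel_right]
    have h3 : g * x * g⁻¹ = x := mul_left_cancel (mul_right_cancel h2)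
    rwa [h3] at hx

theorem V_comm {a b : G} (ha : a ∈ V) (hb : b ∈ V) (i : ι) : a * b = b * a :=
  s.C_comm i a (s.V_C i ha) b (s.V_C i hb)

theorem C_V {i : ι} {c : G} (hc : c ∈ C i) : ∀ v ∈ V, c * v = v * c := fun v hv => s.C_comm i c hc v (s.V_C i hv)

/-- `X` in the form `B i ⊔ B j` contains every `B k` -/
theorem B_le {i j : ι} (hij : i ≠ j) (k : ι) : B k ≤ B i ⊔ B j := by
  by_cases hk : k = i
  · subst hk; exact le_sup_left
  obtain ⟨w, hw, e⟩ := s.trans i j k (Ne.symm hij) hk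
  rw [← s.cB w j k e, cj_le_iff]
  intro x hx
  have h1 : w ∈ B i ⊔ B j := (le_sup_left : B i ≤ _) hw
  exact mul_mem (mul_mem h1 ((le_sup_right : B j ≤ _) hx)) (inv_mem h1)

/-- an element commuting with `B i` and `B j` commutes with all `B k` -/
theorem comm_all {i j : ι} (hij : i ≠ j) {x : G} (h1 : ∀ b ∈ B i, b * x = x * b) (h2 : ∀ b ∈ B j, b * x = x * b)
    (k : ι) : ∀ b ∈ B k, b * x = x * b := by
  have : B i ⊔ B j ≤ centralizer ({x} : Set G) := by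
    refine sup_le ?_ ?_
    · intro b hb
      rw [mem_centralizer_iff]
      intro z hz
      rw [Set.mem_singleton_iff.1 hz]
      exact (h1 b hb).symm
    · intro b hb
      rw [mem_centralizer_iff]
      intro z hz
      rw [Set.mem_singleton_iff.1 hz]
      exact (h2 b hb).symm
  intro b hb
  exact (mem_centralizer_iff.1 (this (s.B_le hij k hb)) x rfl).symm

/-- from any point to any other one by an element of some `B m` -/
theorem trans_B (i k : ι) : ∃ m, m ≠ i ∧ m ≠ k ∧ ∃ x ∈ B m, cj x (R i) = R k := by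
  obtain ⟨m, hm1, hm2⟩ := s.third i k
  obtain ⟨w, hw, e⟩ := s.trans m i k (Ne.symm hm1) (Ne.symm hm2)
  exact ⟨m, hm1, hm2, w, hw, e⟩

theorem B_le_ST (m : ι) : B m ≤ ST V R := fun g hg =>
  ⟨cj_eq_self_iff.2 (s.B_NV m hg), s.perm m g hg, s.perm m g⁻¹ (inv_mem hg)⟩

omit s in
/-- a family permuted by the stabiliser of the set of points -/
theorem normalizer_iInf {A : ι → Subgroup G} (h : ∀ g ∈ normalizer (V : Set G), ∀ i j, cj g (R i) = R j → cj g (A i) = A j) :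
    ST V R ≤ normalizer ((⨅ i, A i : Subgroup G) : Set G) := by
  have key : ∀ g ∈ ST V R, ∀ x ∈ (⨅ i, A i : Subgroup G), g * x * g⁻¹ ∈ (⨅ i, A i : Subgroup G) := by
    intro g hg x hx
    rw [mem_iInf] at hx ⊢
    intro k
    obtain ⟨j, hj⟩ := hg.2.2 k
    have hj' : cj g (R j) = R k := by rw [← hj, cj_cj_inv]
    rw [← h g (ST_le V R hg) j k hj']
    exact conj_mem_cj (hx j)
  intro g hg
  rw [mem_normalizer_iff]
  intro x
  refine ⟨key g hg x, fun hx => ?_⟩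
  have := key g⁻¹ (inv_mem hg) _ hx
  have e : g⁻¹ * (g * x * g⁻¹) * g⁻¹⁻¹ = x := by group
  rwa [e] at this

/-- an element of `A i` commuting with `X` lies in all the `A k` -/
theorem mem_iInf_of {A : ι → Subgroup G} (h : ∀ g ∈ normalizer (V : Set G), ∀ i j, cj g (R i) = R j → cj g (A i) = A j)
    {i : ι} {x : G} (hx : x ∈ A i) (hc : ∀ k, ∀ b ∈ B k, b * x = x * b) : x ∈ ⨅ k, A k := by
  rw [mem_iInf]
  intro k
  obtain ⟨m, -, -, w, hw, e⟩ := s.trans_B i k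
  have e2 := h w (s.B_NV m hw) i k e
  rw [← e2]
  have h3 := conj_mem_cj (g := w) hx
  rwa [hc m w hw, mul_inv_cancel_right] at h3

/-! ### `B₀ = ⨅ k, B k` -/

theorem mem_B0_of_comm {i j : ι} (hij : i ≠ j) {x : G} (hx : x ∈ B i) (hc : ∀ b ∈ B j, b * x = x * b) :
    x ∈ ⨅ k, B k :=
  s.mem_iInf_of (fun g _ i j e => s.cB g i j e) hx
    (fun k => s.comm_all hij (fun b hb => s.B_comm i b hb x hx) hc k)

theorem mem_B0 {i j : ι} (hij : i ≠ j) {x : G} (h1 : x ∈ B i) (h2 : x ∈ B j) : x ∈ ⨅ k, B k :=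
  s.mem_B0_of_comm hij h1 fun b hb => s.B_comm j b hb x h2

theorem B0_comm {x : G} (hx : x ∈ ⨅ k, B k) (i : ι) : ∀ b ∈ B i, b * x = x * b :=
  fun b hb => s.B_comm i b hb x (mem_iInf.1 hx i)

/-- `[C(V), B j] ≤ T j` -/
theorem comm_mem_T {g : G} (hg : ∀ v ∈ V, g * v = v * g) {j : ι} {b : G} (hb : b ∈ B j) :
    g * b * g⁻¹ * b⁻¹ ∈ TT V (B j) := by
  rw [mem_TT]
  refine ⟨mul_mem (conj_mem_of_normalizer (s.nB j (s.cV_le_NR hg j)) hb) (inv_mem hb), ?_⟩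
  have h1 : g ∈ centralizer (V : Set G) := mem_centralizer_iff.2 fun v hv => (hg v hv).symm
  have h2 : b * g⁻¹ * b⁻¹ ∈ centralizer (V : Set G) :=
    conj_mem_of_normalizer (normalizer_le_normalizer_centralizer V (s.B_NV j hb)) (inv_mem h1)
  have h3 : g * b * g⁻¹ * b⁻¹ ∈ centralizer (V : Set G) := by
    have e : g * b * g⁻¹ * b⁻¹ = g * (b * g⁻¹ * b⁻¹) := by group
    rw [e]; exact mul_mem h1 h2
  intro v hv
  exact (mem_centralizer_iff.1 h3 v hv).symm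

theorem comm_mem_T' {g : G} (hg : ∀ v ∈ V, g * v = v * g) {j : ι} {b : G} (hb : b ∈ B j) :
    b * g * b⁻¹ * g⁻¹ ∈ TT V (B j) := by
  have := inv_mem (s.comm_mem_T hg hb)
  have e : (g * b * g⁻¹ * b⁻¹)⁻¹ = b * g * b⁻¹ * g⁻¹ := by group
  rwa [e] at this

theorem exists_move {i j : ι} (hij : i ≠ j) : ∃ b ∈ B i, ¬ ∀ v ∈ V, b * v = v * b := by
  obtain ⟨k, hk1, hk2⟩ := s.third i j
  obtain ⟨b, hb, e⟩ := s.trans i j k (Ne.symm hij) hk1
  refine ⟨b, hb, fun hall => ?_⟩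
  have : cj b (R j) = R j := cj_eq_self_iff.2 (s.cV_le_NR hall j)
  rw [e] at this
  exact hk2 (s.R_index this)

theorem cj_T {g : G} (hg : g ∈ normalizer (V : Set G)) {i j : ι} (e : cj g (R i) = R j) :
    cj g (TT V (B i)) = TT V (B j) := cj_TT (cj_eq_self_iff.2 hg) (s.cB g i j e)

/-- for `b ∈ B i` outside `C(V)` : `t ∈ B j`, `[b, t] ∈ B₀` imply `t ∈ B₀` -/
theorem inj0 {i j : ι} (hij : i ≠ j) {b : G} (hb : b ∈ B i) (hbV : ¬ ∀ v ∈ V, b * v = v * b) {t : G}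
    (ht : t ∈ B j) (h : b * t * b⁻¹ * t⁻¹ ∈ ⨅ k, B k) : t ∈ ⨅ k, B k := by
  obtain ⟨k, hk⟩ := s.perm i b hb j
  have hkj : k ≠ j := by
    rintro rfl
    exact hbV (s.free i k (Ne.symm hij) b hb hk)
  have h1 : b * t * b⁻¹ ∈ B k := by
    rw [← s.cB b j k hk]
    exact conj_mem_cj (g := b) ht
  have h2 : b * t * b⁻¹ ∈ B j := by
    have := mul_mem (mem_iInf.1 h j) ht
    rwa [inv_mul_cancel_right] at this
  have h3 := s.mem_B0 hkj h1 h2
  have h4 : t = (b * t * b⁻¹ * t⁻¹)⁻¹ * (b * t * b⁻¹) := by group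
  rw [h4]
  exact mul_mem (inv_mem h) h3

theorem inj {i j : ι} (hij : i ≠ j) {b : G} (hb : b ∈ B i) (hbV : ¬ ∀ v ∈ V, b * v = v * b) {t : G}
    (ht : t ∈ B j) (h : b * t = t * b) : t ∈ ⨅ k, B k := by
  refine s.inj0 hij hb hbV ht ?_
  rw [eq_one_of_comm h]
  exact one_mem _

/-- `T k ≤ T i T j` -/
theorem T_sub {i j : ι} (hij : i ≠ j) (k : ι) {t : G} (ht : t ∈ TT V (B k)) :
    ∃ u ∈ TT V (B i), ∃ w ∈ TT V (B j), t = u * w := by
  by_cases hk : k = i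
  · subst hk; exact ⟨t, ht, 1, one_mem _, (mul_one t).symm⟩
  obtain ⟨b, hb, e⟩ := s.trans i j k (Ne.symm hij) hk
  rw [← s.cj_T (s.B_NV i hb) e] at ht
  obtain ⟨w, hw, rfl⟩ := ht
  change w ∈ TT V (B j) at hw
  refine ⟨b * w * b⁻¹ * w⁻¹, s.comm_mem_T' (mem_TT.1 hw).2 hb, w, hw, ?_⟩
  change b * w * b⁻¹ = _
  group

/-! ### (3) -/

theorem Y_V {i : ι} {y : G} (hy : y ∈ YY (B i) (C i)) : ∀ v ∈ V, y * v = v * y := fun v hv =>
  (mem_YY.1 hy).2 v (s.V_C i hv)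

theorem R_Y (i : ι) : R i ≤ YY (B i) (C i) := by
  intro r hr
  rw [mem_YY]
  exact ⟨fun b hb => s.B_comm i r (s.R_B i hr) b hb, fun c hc => s.C_comm i r (s.V_C i (s.R_V i hr)) c hc⟩

theorem nY (i : ι) : normalizer (R i : Set G) ≤ normalizer (YY (B i) (C i) : Set G) := by
  intro g hg
  rw [← cj_eq_self_iff]
  exact cj_YY (cj_eq_self_iff.2 (s.nB i hg)) (cj_eq_self_iff.2 (s.nC i hg))

theorem cY {g : G} {i j : ι} (e : cj g (R i) = R j) : cj g (YY (B i) (C i)) = YY (B j) (C j) :=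
  cj_YY (s.cB g i j e) (s.cC g i j e)

/-- `[Y i, T j] ≤ B₀` -/
theorem Y_T0 {i j : ι} {y t : G} (hy : y ∈ YY (B i) (C i)) (ht : t ∈ TT V (B j)) :
    y * t * y⁻¹ * t⁻¹ ∈ ⨅ k, B k := by
  by_cases hij : i = j
  · subst hij
    rw [eq_one_of_comm ((mem_YY.1 hy).1 t (TT_le _ _ ht))]
    exact one_mem _
  obtain ⟨b, hb, hbV⟩ := s.exists_move hij
  have hyN := s.nB j (s.cV_le_NR (s.Y_V hy) j)
  have h1 : y * t * y⁻¹ ∈ B j := conj_mem_of_normalizer hyN (TT_le _ _ ht)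
  have hbt := s.comm_mem_T' (mem_TT.1 ht).2 hb
  have hyb := (mem_YY.1 hy).1 b hb
  have hyc := (mem_YY.1 hy).1 _ (TT_le _ _ hbt)
  have hu : b * (t⁻¹ * (y * t * y⁻¹)) = t⁻¹ * (y * t * y⁻¹) * b := by
    apply comm_of_comm_eq
    have hyb' : y * b * y⁻¹ = b := by rw [hyb, mul_inv_cancel_right]
    calc b * (y * t * y⁻¹) * b⁻¹ * (y * t * y⁻¹)⁻¹
        = (y * b * y⁻¹) * (y * t * y⁻¹) * (y * b * y⁻¹)⁻¹ * (y * t * y⁻¹)⁻¹ := by rw [hyb']
      _ = y * (b * t * b⁻¹ * t⁻¹) * y⁻¹ := by group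
      _ = b * t * b⁻¹ * t⁻¹ := by rw [hyc, mul_inv_cancel_right]
  have h2 := s.inj hij hb hbV (mul_mem (inv_mem (TT_le _ _ ht)) h1) hu
  have h3 : y * t * y⁻¹ * t⁻¹ = t * (t⁻¹ * (y * t * y⁻¹)) * t⁻¹ := by group
  rw [h3, s.B0_comm h2 j t (TT_le _ _ ht), mul_inv_cancel_right]
  exact h2

omit s in
/-- elements of `Y i` commute with `B₀` -/
theorem Y_B0 {i : ι} {y x : G} (hy : y ∈ YY (B i) (C i)) (hx : x ∈ ⨅ k, B k) : y * x = x * y :=
  (mem_YY.1 hy).1 x (mem_iInf.1 hx i)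

/-- if `b ∈ B k`, then `x = t x'`, `t ∈ T k`, `x' = b x b⁻¹`, for `x ∈ C(V)` -/
theorem split {k : ι} {b x : G} (hb : b ∈ B k) (hx : ∀ v ∈ V, x * v = v * x) :
    ∃ t ∈ TT V (B k), x = t * (b * x * b⁻¹) := by
  refine ⟨(b * x * b⁻¹ * x⁻¹)⁻¹, inv_mem (s.comm_mem_T' hx hb), ?_⟩
  group

/-- `C j ≤ T k · C i` -/
theorem C_split (i j : ι) {c : G} (hc : c ∈ C j) : ∃ k, ∃ t ∈ TT V (B k), ∃ c' ∈ C i, c = t * c' := by
  obtain ⟨k, hkj, hki, b, hb, e⟩ := s.trans_B j i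
  obtain ⟨t, ht, h⟩ := s.split hb (s.C_V hc)
  refine ⟨k, t, ht, b * c * b⁻¹, ?_, h⟩
  rw [← s.cC b j i e]
  exact conj_mem_cj hc

/-- `[Y i, C j] ≤ B₀` -/
theorem Y_C0 {i j : ι} {y c : G} (hy : y ∈ YY (B i) (C i)) (hc : c ∈ C j) :
    y * c * y⁻¹ * c⁻¹ ∈ ⨅ k, B k := by
  obtain ⟨k, t, ht, c', hc', rfl⟩ := s.C_split i j hc
  have h1 := s.Y_T0 hy ht
  have h2 := (mem_YY.1 hy).2 _ hc'
  have e : y * (t * c') * y⁻¹ * (t * c')⁻¹ = y * t * y⁻¹ * t⁻¹ := by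
    calc y * (t * c') * y⁻¹ * (t * c')⁻¹ = y * t * (c' * y⁻¹) * c'⁻¹ * t⁻¹ := by group
      _ = y * t * (y⁻¹ * c') * c'⁻¹ * t⁻¹ := by
        have : c' * y⁻¹ = y⁻¹ * c' := by
          calc c' * y⁻¹ = y⁻¹ * (y * c') * y⁻¹ := by group
            _ = y⁻¹ * (c' * y) * y⁻¹ := by rw [h2]
            _ = y⁻¹ * c' := by group
        rw [this]
      _ = y * t * y⁻¹ * t⁻¹ := by group
  rw [e]
  exact h1

/-- elements of odd order of `Y i` are in `Y j` -/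
theorem odd_mem [Finite G] {i : ι} (j : ι) {y : G} (hy : y ∈ YY (B i) (C i)) (ho : Odd (orderOf y)) :
    y ∈ YY (B j) (C j) := by
  have hB : ∀ k, ∀ b ∈ B k, y * b = b * y := by
    intro k b hb
    have ht := s.comm_mem_T (s.Y_V hy) hb
    set t := y * b * y⁻¹ * b⁻¹ with ht'
    have hβ := s.Y_T0 hy ht
    set β := y * t * y⁻¹ * t⁻¹ with hβ'
    have hyβ := Y_B0 hy hβ
    have htt := s.B_sq k t (TT_le _ _ ht)
    have hββ := s.B_sq k β (mem_iInf.1 hβ k)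
    have h1 : y * b * y⁻¹ = t * b := by rw [ht']; group
    have h2 : y * t * y⁻¹ = β * t := by rw [hβ']; group
    have h3 : y * y * b * (y * y)⁻¹ = β * b := by
      calc y * y * b * (y * y)⁻¹ = y * (y * b * y⁻¹) * y⁻¹ := by group
        _ = y * (t * b) * y⁻¹ := by rw [h1]
        _ = (y * t * y⁻¹) * (y * b * y⁻¹) := by group
        _ = (β * t) * (t * b) := by rw [h1, h2]
        _ = β * (t * t) * b := by group
        _ = β * b := by rw [htt, mul_one]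
    have h4 : y * y * (y * y) * b * (y * y * (y * y))⁻¹ = b := by
      have hyyβ : y * y * β * (y * y)⁻¹ = β := by
        calc y * y * β * (y * y)⁻¹ = y * (y * β) * y⁻¹ * y⁻¹ := by group
          _ = y * (β * y) * y⁻¹ * y⁻¹ := by rw [hyβ]
          _ = (y * β) * y⁻¹ := by group
          _ = β := by rw [hyβ, mul_inv_cancel_right]
      calc y * y * (y * y) * b * (y * y * (y * y))⁻¹
          = y * y * (y * y * b * (y * y)⁻¹) * (y * y)⁻¹ := by group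
        _ = y * y * (β * b) * (y * y)⁻¹ := by rw [h3]
        _ = (y * y * β * (y * y)⁻¹) * (y * y * b * (y * y)⁻¹) := by group
        _ = β * (β * b) := by rw [hyyβ, h3]
        _ = β * β * b := by group
        _ = b := by rw [hββ, one_mul]
    have h5 : (y ^ 4) * b = b * y ^ 4 := by
      have e : y * y * (y * y) = y ^ 4 := by
        rw [show (4 : ℕ) = 2 + 2 from rfl, pow_add, pow_two]
      rw [e] at h4
      exact mul_inv_eq_iff_eq_mul.1 h4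
    have h6 : Commute (y ^ 4) b := h5
    have hcop : Nat.Coprime 4 (orderOf y) := by
      have : Nat.Coprime 2 (orderOf y) := (Nat.coprime_two_left).2 ho
      exact Nat.Coprime.pow_left 2 this
    obtain ⟨n, hn⟩ := exists_pow_eq_self_of_coprime hcop
    have h7 : Commute ((y ^ 4) ^ n) b := h6.pow_left n
    rw [hn] at h7
    exact h7
  rw [mem_YY]
  refine ⟨hB j, fun c hc => ?_⟩
  obtain ⟨k, t, ht, c', hc', rfl⟩ := s.C_split i j hc
  have h1 := hB k t (TT_le _ _ ht)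
  have h2 := (mem_YY.1 hy).2 _ hc'
  calc y * (t * c') = y * t * c' := by group
    _ = t * (y * c') := by rw [h1]; group
    _ = t * c' * y := by rw [h2]; group

theorem OD_eq [Finite G] (i j : ι) : OD (YY (B i) (C i)) = OD (YY (B j) (C j)) :=
  le_antisymm (OD_le_of_mem fun _ hy ho => s.odd_mem j hy ho) (OD_le_of_mem fun _ hy ho => s.odd_mem i hy ho)

/-- `OD Y` is normalised by the stabiliser of the set of points -/
theorem nOD [Finite G] (i : ι) : ST V R ≤ normalizer (OD (YY (B i) (C i)) : Set G) := by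
  intro g hg
  rw [← cj_eq_self_iff, cj_OD]
  obtain ⟨j, hj⟩ := hg.2.1 i
  rw [s.cY hj]
  exact s.OD_eq j i

/-! ### (4) -/

/-- an element of `C(B k)` for all `k` and of `C(C i)` lies in `D` -/
theorem mem_D {i : ι} {p : G} (hB : ∀ k, ∀ b ∈ B k, b * p = p * b) (hC : ∀ c ∈ C i, p * c = c * p) :
    p ∈ ⨅ k, YY (B k) (C k) := by
  rw [mem_iInf]
  intro k
  rw [mem_YY]
  refine ⟨fun b hb => (hB k b hb).symm, fun c hc => ?_⟩
  obtain ⟨m, t, ht, c', hc', rfl⟩ := s.C_split i k hc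
  have h1 := hB m t (TT_le _ _ ht)
  have h2 := hC _ hc'
  calc p * (t * c') = p * t * c' := by group
    _ = t * (p * c') := by rw [← h1]; group
    _ = t * c' * p := by rw [h2]; group

/-- `p ∈ Y i T i` -/
def InA (V : Subgroup G) (B C : ι → Subgroup G) (i : ι) (p : G) : Prop :=
  ∃ y ∈ YY (B i) (C i), ∃ t ∈ TT V (B i), p = y * t

omit s in
theorem InA.comm (s : SideW V R B C) {i : ι} {p : G} (h : InA V B C i p) : ∀ b ∈ B i, b * p = p * b := by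
  obtain ⟨y, hy, t, ht, rfl⟩ := h
  intro b hb
  have h1 := (mem_YY.1 hy).1 b hb
  have h2 := s.B_comm i b hb t (TT_le _ _ ht)
  calc b * (y * t) = b * y * t := by group
    _ = y * (b * t) := by rw [← h1]; group
    _ = y * t * b := by rw [h2]; group

omit s in
/-- `[p, C i] ≤ R i` -/
theorem InA.commC (s : SideW V R B C) {i : ι} {p : G} (h : InA V B C i p) :
    ∀ c ∈ C i, p * c * p⁻¹ * c⁻¹ ∈ R i := by
  obtain ⟨y, hy, t, ht, rfl⟩ := h
  intro c hc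
  have h1 := (mem_YY.1 hy).2 c hc
  have h2 := s.CB i c hc t (TT_le _ _ ht)
  have h3 : y * (t * c * t⁻¹ * c⁻¹) = t * c * t⁻¹ * c⁻¹ * y := by
    have h4 : t * c * t⁻¹ * c⁻¹ ∈ B i := by
      have := inv_mem (s.R_B i h2)
      have e : (c * t * c⁻¹ * t⁻¹)⁻¹ = t * c * t⁻¹ * c⁻¹ := by group
      rwa [e] at this
    exact (mem_YY.1 hy).1 _ h4
  have h5 : y * c * y⁻¹ = c := by rw [h1, mul_inv_cancel_right]
  have e : y * t * c * (y * t)⁻¹ * c⁻¹ = (c * t * c⁻¹ * t⁻¹)⁻¹ := by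
    calc y * t * c * (y * t)⁻¹ * c⁻¹ = y * (t * c * t⁻¹ * c⁻¹) * (c * y⁻¹ * c⁻¹) := by group
      _ = t * c * t⁻¹ * c⁻¹ * (y * c * y⁻¹) * c⁻¹ := by rw [h3]; group
      _ = t * c * t⁻¹ * c⁻¹ := by rw [h5]; group
      _ = (c * t * c⁻¹ * t⁻¹)⁻¹ := by group
  rw [e]
  exact inv_mem h2

/-- `Y i T i ∩ Y j T j ≤ D` -/
theorem inA_inf {i j : ι} (hij : i ≠ j) {p : G} (hi : InA V B C i p) (hj : InA V B C j p) :
    p ∈ ⨅ k, YY (B k) (C k) := by
  have hB : ∀ k, ∀ b ∈ B k, b * p = p * b := s.comm_all hij (hi.comm s) (hj.comm s)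
  refine s.mem_D hB (i := i) fun c hc => ?_
  have h1 := hi.commC s c hc
  obtain ⟨k, t, ht, c', hc', e⟩ := s.C_split j i hc
  have h2 := hj.commC s c' hc'
  have h3 : p * c * p⁻¹ * c⁻¹ ∈ R j := by
    have hpt := hB k t (TT_le _ _ ht)
    have hv := (mem_TT.1 ht).2 _ (s.R_V j h2)
    have e2 : p * c * p⁻¹ * c⁻¹ = p * c' * p⁻¹ * c'⁻¹ := by
      rw [e]
      calc p * (t * c') * p⁻¹ * (t * c')⁻¹ = p * t * c' * p⁻¹ * c'⁻¹ * t⁻¹ := by group
        _ = t * (p * c' * p⁻¹ * c'⁻¹) * t⁻¹ := by rw [← hpt]; group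
        _ = p * c' * p⁻¹ * c'⁻¹ := by rw [hv, mul_inv_cancel_right]
    rw [e2]
    exact h2
  have h4 : p * c * p⁻¹ * c⁻¹ ∈ R i ⊓ R j := ⟨h1, h3⟩
  rw [s.R_inf i j hij] at h4
  exact comm_of_eq_one (mem_bot.1 h4)

/-- **(4)** `Y i ≤ T i · D` -/
theorem exists_D {i : ι} {y : G} (hy : y ∈ YY (B i) (C i)) :
    ∃ u ∈ TT V (B i), u ∈ YY (B i) (C i) ∧ ∃ d ∈ ⨅ k, YY (B k) (C k), y = u * d := by
  obtain ⟨j, hj, -⟩ := s.third i i
  obtain ⟨k, hkj, hki, b, hb, e⟩ := s.trans_B i j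
  obtain ⟨t, ht, h⟩ := s.split hb (s.Y_V hy)
  have h1 : b * y * b⁻¹ ∈ YY (B j) (C j) := by
    rw [← s.cY e]
    exact conj_mem_cj hy
  set z := b * y * b⁻¹ with hz
  obtain ⟨u, hu, w, hw, htuw⟩ := s.T_sub (Ne.symm hj) k ht
  have h2 : u⁻¹ * y = w * z := by rw [h, htuw]; group
  have hA1 : InA V B C i (u⁻¹ * y) :=
    ⟨y, hy, u⁻¹, inv_mem hu, ((mem_YY.1 hy).1 u⁻¹ (inv_mem (TT_le _ _ hu))).symm⟩
  have hA2 : InA V B C j (u⁻¹ * y) := by
    rw [h2]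
    exact ⟨z, h1, w, hw, ((mem_YY.1 h1).1 w (TT_le _ _ hw)).symm⟩
  have h3 := s.inA_inf (Ne.symm hj) hA1 hA2
  refine ⟨u, hu, ?_, u⁻¹ * y, h3, by group⟩
  have h4 : u = y * (u⁻¹ * y)⁻¹ := by group
  rw [h4]
  exact mul_mem hy (inv_mem (mem_iInf.1 h3 i))

omit s in
/-- `D` commutes with the `B k` -/
theorem D_comm {d : G} (hd : d ∈ ⨅ k, YY (B k) (C k)) (k : ι) : ∀ b ∈ B k, d * b = b * d :=
  (mem_YY.1 (mem_iInf.1 hd k)).1

/-- `D` is normalised by the stabiliser of the set of points -/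
theorem nD : ST V R ≤ normalizer ((⨅ k, YY (B k) (C k) : Subgroup G) : Set G) :=
  normalizer_iInf (fun _ _ _ _ e => s.cY e)

/-- `D ∩ R i = 1` -/
theorem D_R {i : ι} {d : G} (hd : d ∈ ⨅ k, YY (B k) (C k)) (h : d ∈ R i) : d = 1 := by
  obtain ⟨j, hj, -⟩ := s.third i i
  have h1 : d ∈ R j := s.VB j d (s.R_V i h) fun b hb => (D_comm hd j b hb).symm
  have h2 : d ∈ R i ⊓ R j := ⟨h, h1⟩
  rw [s.R_inf i j (Ne.symm hj)] at h2
  exact mem_bot.1 h2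

/-- `B₀ ≤ D` -/
theorem B0_le_D : (⨅ k, B k) ≤ ⨅ k, YY (B k) (C k) := by
  intro x hx
  have hX : ∀ k, ∀ b ∈ B k, b * x = x * b := fun k => s.B0_comm hx k
  -- `x ∈ C(V)` : `x` permutes nothing, by `free`
  by_cases hne : Nonempty ι
  swap
  · rw [mem_iInf]
    intro k
    exact absurd ⟨k⟩ hne
  obtain ⟨i⟩ := hne
  obtain ⟨j, hj, -⟩ := s.third i i
  have hxN : cj x (R j) = R j := by
    have hxm : x ∈ normalizer (R j : Set G) := by
      have h1 : R j ≤ B j := s.R_B j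
      rw [mem_normalizer_iff]
      intro r
      constructor
      · intro hr
        rw [← s.B_comm j r (h1 hr) x (mem_iInf.1 hx j), mul_inv_cancel_right]
        exact hr
      · intro hr
        have h2 := s.B_comm j _ (h1 hr) x (mem_iInf.1 hx j)
        have h3 : x * r * x⁻¹ = r := by
          have h4 : x * (x * r * x⁻¹) * x⁻¹ = x * r * x⁻¹ := by rw [← h2, mul_inv_cancel_right]
          exact mul_left_cancel (mul_right_cancel h4)
        rwa [h3] at hr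
    exact cj_eq_self_iff.2 hxm
  have hxV : ∀ v ∈ V, x * v = v * x := s.free i j hj x (mem_iInf.1 hx i) hxN
  refine s.mem_D hX (i := i) fun c hc => ?_
  -- `[x, c] ∈ R i ∩ R j`
  have hCN : ∀ k, c ∈ normalizer (B k : Set G) := fun k => s.nB k (s.cV_le_NR (s.C_V hc) k)
  have h1 : c * x * c⁻¹ * x⁻¹ ∈ R i := s.CB i c hc x (mem_iInf.1 hx i)
  have h2 : c * x * c⁻¹ * x⁻¹ ∈ B j :=
    mul_mem (conj_mem_of_normalizer (hCN j) (mem_iInf.1 hx j)) (inv_mem (mem_iInf.1 hx j))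
  have h3 : c * x * c⁻¹ * x⁻¹ ∈ R j := s.VB j _ (s.R_V i h1) fun b hb => s.B_comm j b hb _ h2
  have h4 : c * x * c⁻¹ * x⁻¹ ∈ R i ⊓ R j := ⟨h1, h3⟩
  rw [s.R_inf i j (Ne.symm hj)] at h4
  exact (comm_of_eq_one (mem_bot.1 h4)).symm

/-- `[B i, Y j] ≤ Y i` -/
theorem comm_B_Y {i j : ι} {b y : G} (hb : b ∈ B i) (hy : y ∈ YY (B j) (C j)) :
    b * y * b⁻¹ * y⁻¹ ∈ YY (B i) (C i) := by
  have h1 := s.comm_mem_T' (s.Y_V hy) hb
  rw [mem_YY]
  refine ⟨fun b' hb' => s.B_comm i _ (TT_le _ _ h1) b' hb', fun c hc => ?_⟩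
  -- `c b c⁻¹ = ρ b`, `c y c⁻¹ = β y`
  have hρ := s.CB i c hc b hb
  set ρ := c * b * c⁻¹ * b⁻¹ with hρ'
  have hβ0 := s.Y_C0 hy hc
  have hβ : c * y * c⁻¹ * y⁻¹ ∈ ⨅ k, B k := by
    have h2 := inv_mem hβ0
    have e : (y * c * y⁻¹ * c⁻¹)⁻¹ = c * y * c⁻¹ * y⁻¹ := by group
    rwa [e] at h2
  set β := c * y * c⁻¹ * y⁻¹ with hβ'
  have e1 : c * b * c⁻¹ = ρ * b := by rw [hρ']; group
  have e2 : c * y * c⁻¹ = β * y := by rw [hβ']; group
  have hyβ : y * β = β * y := Y_B0 hy hβ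
  have hyρ : y * ρ = ρ * y := s.Y_V hy ρ (s.R_V i hρ)
  have hbβ : b * β = β * b := s.B0_comm hβ i b hb
  have hbρ : b * ρ = ρ * b := s.B_comm i b hb ρ (s.R_B i hρ)
  have hρβ : ρ * β = β * ρ := s.B0_comm hβ i ρ (s.R_B i hρ)
  have key : c * (b * y * b⁻¹ * y⁻¹) * c⁻¹ = b * y * b⁻¹ * y⁻¹ := by
    have cρb : Commute ρ b := hbρ.symm
    have cρy : Commute ρ y := hyρ.symm
    have cβb : Commute β b := hbβ.symm
    have cβy : Commute β y := hyβ.symm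
    have cρβ : Commute ρ β := hρβ
    calc c * (b * y * b⁻¹ * y⁻¹) * c⁻¹
        = (c * b * c⁻¹) * (c * y * c⁻¹) * (c * b * c⁻¹)⁻¹ * (c * y * c⁻¹)⁻¹ := by group
      _ = (ρ * b) * (β * y) * (ρ * b)⁻¹ * (β * y)⁻¹ := by rw [e1, e2]
      _ = (ρ * b) * ((β * y) * b⁻¹) * ρ⁻¹ * y⁻¹ * β⁻¹ := by group
      _ = ρ * (b * β) * y * b⁻¹ * ρ⁻¹ * y⁻¹ * β⁻¹ := by group
      _ = ρ * (β * b) * y * b⁻¹ * (ρ⁻¹ * y⁻¹) * β⁻¹ := by rw [hbβ]; group
      _ = ρ * β * (b * y * b⁻¹ * y⁻¹) * ρ⁻¹ * β⁻¹ := by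
        rw [(cρy.inv_left.inv_right).eq]; group
      _ = (ρ * β) * (b * y * b⁻¹ * y⁻¹) * (ρ * β)⁻¹ := by rw [hρβ]; group
      _ = b * y * b⁻¹ * y⁻¹ := by
        have hc : Commute (ρ * β) (b * y * b⁻¹ * y⁻¹) :=
          (((cρb.mul_left cβb).mul_right (cρy.mul_left cβy)).mul_right
            (cρb.mul_left cβb).inv_right).mul_right (cρy.mul_left cβy).inv_right
        rw [hc.eq, mul_inv_cancel_right]
  have h5 := mul_inv_eq_iff_eq_mul.1 key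
  exact h5.symm

theorem card_R [Finite G] (i j : ι) : Nat.card (R i) = Nat.card (R j) := by
  obtain ⟨m, -, -, x, hx, e⟩ := s.trans_B i j
  rw [← e, card_cj]

/-- for `b ∈ B i` outside `C(V)`, `t ∈ B j`, `[b, t] ∈ R i` : `t ∈ R j B₀` -/
theorem mem_R_of_comm [Finite G] {i j : ι} (hij : i ≠ j) {b : G} (hb : b ∈ B i)
    (hbV : ¬ ∀ v ∈ V, b * v = v * b) {t : G} (ht : t ∈ B j) (h : b * t * b⁻¹ * t⁻¹ ∈ R i) :
    ∃ r ∈ R j, ∃ x ∈ ⨅ k, B k, t = r * x := by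
  have key : ∀ r ∈ R j, b * r * b⁻¹ * r⁻¹ ∈ R i := by
    intro r hr
    have h1 := s.CB i r (s.V_C i (s.R_V j hr)) b hb
    have e : b * r * b⁻¹ * r⁻¹ = (r * b * r⁻¹ * b⁻¹)⁻¹ := by group
    rw [e]; exact inv_mem h1
  let f : R j → R i := fun r => ⟨b * (r : G) * b⁻¹ * (r : G)⁻¹, key r r.2⟩
  have hf : Function.Injective f := by
    intro x y hxy
    have h1 : b * (x : G) * b⁻¹ * (x : G)⁻¹ = b * (y : G) * b⁻¹ * (y : G)⁻¹ := congrArg Subtype.val hxy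
    have h2 : b * ((y : G)⁻¹ * x) = (y : G)⁻¹ * x * b := comm_of_comm_eq h1
    have h4 := s.inj hij hb hbV (mul_mem (inv_mem (s.R_B j y.2)) (s.R_B j x.2)) h2
    have h5 := s.D_R (i := j) (s.B0_le_D h4) (mul_mem (inv_mem y.2) x.2)
    exact Subtype.ext (inv_mul_eq_one.1 h5).symm
  have hfs : Function.Surjective f := (Nat.bijective_iff_injective_and_card f).2 ⟨hf, s.card_R j i⟩ |>.2
  obtain ⟨r, hr⟩ := hfs ⟨_, h⟩
  have h1 : b * (r : G) * b⁻¹ * (r : G)⁻¹ = b * t * b⁻¹ * t⁻¹ := congrArg Subtype.val hr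
  have h2 : b * ((r : G)⁻¹ * t) = (r : G)⁻¹ * t * b := comm_of_comm_eq h1.symm
  have h4 := s.inj hij hb hbV (mul_mem (inv_mem (s.R_B j r.2)) ht) h2
  exact ⟨r, r.2, _, h4, by group⟩

end SideW

end Cfsg.Agent.Omega.MixOne
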